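import Cfsg.Agent.Lib.Spor.CoOneClasses.Six

/-!
# The isometries centralizing the data of a reference pair
-/

set_option autoImplicit false
set_option synthInstance.maxSize 4096

namespace CfsgLib.Spor.CoOneClasses

open CfsgLib.Spor.CoOneType (Vec qf)

noncomputable section

/-- Perpendicularity to the data of a pair. -/
def KPerp (a c : W6) (w : Vec) : Prop := yc w = 0 ∧ pl6 (pr w) a = 0 ∧ pl6 (pr w) c = 0

/-- The combinations of the data of a pair. -/
def comb (a c : W6) (p : ZMod 2 × ZMod 2 × ZMod 2) : Vec := p.1 • w0 + p.2.1 • inW a + p.2.2 • inW c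

/-- The candidates for isometries fixing the perpendicular space of the data. -/
def cand (a c : W6) (p : (ZMod 2 × ZMod 2 × ZMod 2) × (ZMod 2 × ZMod 2 × ZMod 2) × (ZMod 2 × ZMod 2 × ZMod 2))
    (x : Vec) : Vec :=
  x + yc x • comb a c p.1 + pl6 (pr x) a • comb a c p.2.1 + pl6 (pr x) c • comb a c p.2.2

/-- The bound on the isometries centralizing the data. -/
def Bound (a c : W6) : Prop :=
  (∀ d : Vec, (∀ w, KPerp a c w → pl d w = 0) → ∃ p, d = comb a c p) ∧
    Fintype.card {p : (ZMod 2 × ZMod 2 × ZMod 2) × (ZMod 2 × ZMod 2 × ZMod 2) × (ZMod 2 × ZMod 2 × ZMod 2) //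
      ∀ x, qf (cand a c p x) = qf x ∧ cand a c p (sieg c x) = sieg c (cand a c p x)} ≤ 8

instance (a c : W6) (w : Vec) : Decidable (KPerp a c w) := inferInstanceAs (Decidable (_ ∧ _ ∧ _))

theorem bound_sing : Bound e0 e1 := by
  refine ⟨?_, ?_⟩ <;> decide +kernel

theorem bound_anis : Bound aE cE := by
  refine ⟨?_, ?_⟩ <;> decide +kernel

end

end CfsgLib.Spor.CoOneClasses
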