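import Cfsg.Agent.Lib.Spor.CoOneClasses.Quad

/-!
# At most three classes of involutions in groups of Conway type
-/

set_option autoImplicit false
set_option synthInstance.maxSize 4096

namespace CfsgLib.Spor.CoOneClasses

open Subgroup
open CfsgLib.Spor.CoOneType (Vec qf Iso8 Om Setup mem_cz conj_eq_iff_comm act act_one act_mul act_add iso_ext two_cases
  qf_nd move_singular)

noncomputable section

theorem range_pt : ∀ c ∈ [e2, g2, dd], ∃ x : Vec, tAf (sieg c x) + x = w0 := by decide +kernel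

theorem fixed_count : ∀ c ∈ [e2, g2, dd], Fintype.card {x : Vec // tAf (sieg c x) = x} = 16 := by decide +kernel

theorem span_four : ∀ c : W6, pl6 c e0 = 0 → pl6 c e1 = 0 →
    c = pl6 c g0 • e0 + pl6 c g1 • e1 + pl6 c g2 • e2 + pl6 c e2 • g2 := by decide +kernel

theorem perp_count : Fintype.card {c : W6 // pl6 c e0 = 0 ∧ pl6 c e1 = 0} = 16 := by decide +kernel

theorem tAf_pl_one : sig e0 e1 g1 + g1 = e0 ∧ sig e0 e1 g0 + g0 = e1 := by decide +kernel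

theorem quad_equations : ∀ k ∈ [e2, g2], ∀ c ∈ [e2, g2, dd], ∀ a : W6, pl6 a e0 = 0 → pl6 a e1 = 0 →
    q6 a + pl6 a c + pl6 k c = 0 → q6 c + pl6 a c = 0 →
      a + k ∈ [0, e0, e1, e0 + e1] ∨ a + c + k ∈ [0, e0, e1, e0 + e1] := by decide +kernel

theorem span_perp : ∀ l ∈ [0, e0, e1, e0 + e1], ∀ c : W6, pl6 c e0 = 0 → pl6 c e1 = 0 → pl6 l c = 0 := by
  decide +kernel

variable {G : Type*} [Group G] [Finite G] {z : G} {Q : Subgroup G} {v : G → Vec} {ρ : G → Iso8}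

/-- A suitable second involution exists. -/
theorem exists_pt (S : Setup z Q v ρ) {g : G} (hgQ : g * z * g⁻¹ ∈ Q) (hne : g * z * g⁻¹ ≠ z) :
    ∃ k, Pt z Q v ρ k := by
  obtain ⟨a, ha, e⟩ := S.v_surj w0
  obtain ⟨k, hk⟩ := S.all_conj hgQ hne ha ((S.v_sq a ha).1 (by rw [e, qf_w0])) (by rw [e]; exact w0_ne)
  exact ⟨k, S, hk.symm ▸ ha, hk.symm ▸ e⟩

/-- Every involution is conjugate into the centralizer of the involution. -/
theorem conj_into (S : Setup z Q v ρ) {x : G} (hx : x * x = 1) (hx1 : x ≠ 1) :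
    ∃ g : G, g * x * g⁻¹ ∈ centralizer ({z} : Set G) := by
  haveI : Fact (Nat.Prime 2) := ⟨Nat.prime_two⟩
  have hQ2 : IsPGroup 2 Q := IsPGroup.of_card (n := 9) (by rw [S.card]; rfl)
  obtain ⟨P, hP⟩ := hQ2.exists_le_sylow
  have hx2 : IsPGroup 2 (zpowers x) := IsPGroup.of_card (n := 1) (by
    rw [Nat.card_zpowers, pow_one, orderOf_eq_prime (by rw [pow_two, hx]) hx1])
  obtain ⟨P', hP'⟩ := hx2.exists_le_sylow
  obtain ⟨g, hg⟩ := MulAction.exists_smul_eq G P' P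
  refine ⟨g, ?_⟩
  have hgx : g * x * g⁻¹ ∈ (P : Subgroup G) := by
    rw [← hg, Sylow.coe_subgroup_smul]
    exact ⟨x, hP' (mem_zpowers x), rfl⟩
  haveI : Nontrivial ↥(P : Subgroup G) :=
    ⟨⟨⟨z, hP S.core.mem⟩, 1, fun e => S.z_ne (congrArg Subtype.val e)⟩⟩
  haveI := (P.isPGroup').center_nontrivial
  obtain ⟨⟨c, hc⟩, hc1⟩ := exists_ne (1 : center ↥(P : Subgroup G))
  have hcent : (c : G) ∈ centralizer (Q : Set G) := mem_centralizer_iff.2 fun q hq =>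
    congrArg Subtype.val (mem_center_iff.1 hc ⟨q, hP hq⟩)
  rw [S.core.cent, S.core.center_iff] at hcent
  rcases hcent with e | e
  · exact absurd (Subtype.ext (Subtype.ext e)) hc1
  · rw [mem_cz, ← e]
    exact congrArg Subtype.val (mem_center_iff.1 hc ⟨_, hgx⟩)

namespace Pt

variable {g : G} (F : Pt z Q v ρ g)

/-- An involution conjugate to one of three elements. -/
def InThree (_F : Pt z Q v ρ g) (L E x : G) : Prop := IsConj x z ∨ IsConj x L ∨ IsConj x E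

include F

theorem inThree_conj {L E x y : G} (h : IsConj x y) (hy : F.InThree L E y) : F.InThree L E x :=
  hy.imp h.trans (Or.imp h.trans h.trans)

theorem Q_three {L E x : G} (hx : x ∈ Q) (hx2 : x * x = 1) (hx1 : x ≠ 1) : F.InThree L E x := by
  left
  by_cases hxz : x = z
  · exact hxz ▸ IsConj.refl x
  obtain ⟨k, hk⟩ := F.setup.all_conj F.mem F.pt_ne hx hx2 (F.setup.v_ne hx hx1 hxz)
  exact (isConj_iff.2 ⟨k, hk⟩ : IsConj z x).symm

/-- An involution reaching the reference point commutes with the second involution. -/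
theorem comm_pt {x : G} (hx : x ∈ centralizer ({z} : Set G)) (hx2 : x * x = 1) {w : Vec}
    (hw : act (ρ x) w + w = w0) : x ∈ centralizer ({F.pt} : Set G) := by
  obtain ⟨q, hq, hqw⟩ := F.setup.v_surj w
  have hv : v (x * q * x⁻¹) = v (q * F.pt) := by
    rw [F.setup.ρ_act x hx q hq, F.setup.v_mul q hq _ F.mem, F.val, hqw, ← hw, add_comm (act (ρ x) w) w, ← add_assoc,
      CoOneType.vec_add_self, zero_add]
  obtain ⟨j, hj, hej⟩ : ∃ j, (j = F.pt ∨ j = F.pt * z) ∧ x * q * x⁻¹ = q * j := by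
    rcases (F.setup.v_eq (F.setup.norm hx hq) (mul_mem hq F.mem)).1 hv with e | e
    · exact ⟨_, Or.inl rfl, e⟩
    · exact ⟨_, Or.inr rfl, e.trans (mul_assoc _ _ _)⟩
  have hinv : x⁻¹ = x := inv_eq_of_mul_eq_one_right hx2
  have hjj : j * j = 1 := by
    rcases hj with rfl | rfl
    · exact F.pp
    · rw [mul_assoc, ← mul_assoc z, ← F.pz, mul_assoc F.pt z z, F.setup.zz, mul_one, F.pp]
  have e4 : q = q * j * (x * j * x⁻¹) := by
    calc q = x * x * q * (x⁻¹ * x⁻¹) := by rw [hinv, hx2]; simp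
      _ = x * (x * q * x⁻¹) * x⁻¹ := by group
      _ = x * (q * j) * x⁻¹ := by rw [hej]
      _ = (x * q * x⁻¹) * (x * j * x⁻¹) := by group
      _ = _ := by rw [hej]
  have e5 : x * j * x⁻¹ = j := by
    have h1 : j * (x * j * x⁻¹) = 1 := by
      rw [mul_assoc] at e4; exact left_eq_mul.1 e4
    exact (inv_eq_of_mul_eq_one_right h1).symm.trans (inv_eq_of_mul_eq_one_right hjj)
  refine mem_cz.2 ?_
  have e6 : Commute x j := conj_eq_iff_comm.1 e5
  rcases hj with rfl | rfl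
  · exact e6.eq
  · have e7 := e6.mul_right (show Commute x z from mem_cz.1 hx)
    rw [mul_assoc, F.setup.zz, mul_one] at e7
    exact e7.eq

/-- An element acting as a transformation at the point is a product of the two parts. -/
theorem form_of_sieg {x : G} {c : W6} (hx : x ∈ centralizer ({z} : Set G))
    (hxi : x ∈ centralizer ({F.pt} : Set G)) (hρ : ∀ w, act (ρ x) w = sieg c w) : ∃ a, F.Form a c x := by
  obtain ⟨r, hr, hrc⟩ := F.phi_surj c
  have hs : x * r⁻¹ ∈ F.R := by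
    refine ⟨(F.setup.ρ_ker _ (mul_mem hx (inv_mem hr.2))).1 ?_,
      Subgroup.mul_mem _ hxi (Subgroup.inv_mem _ (F.R'_ci hr))⟩
    have e : ρ x = ρ r := iso_ext fun w => by rw [hρ, F.rho_R' hr, hrc]
    rw [F.setup.ρ_mul _ hx _ (inv_mem hr.2), F.setup.ρ_inv hr.2, e, mul_inv_cancel]
  exact ⟨pr (v (x * r⁻¹)), x * r⁻¹, hs, r, hr, rfl, hrc, by group⟩

/-- Elements of the extraspecial group of the second involution. -/
theorem Qi_three {L E x : G} (hx : x ∈ F.Qi) (hx2 : x * x = 1) (hxQ : x ∉ Q) : F.InThree L E x := by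
  left
  have hne : x ≠ 1 := fun e => hxQ (e ▸ one_mem Q)
  have hne' : x ≠ F.pt := fun e => hxQ (e ▸ F.mem)
  obtain ⟨d, hd⟩ := F.si.all_conj (g := g⁻¹) (by
    rw [show g⁻¹ * F.pt * g⁻¹⁻¹ = z by group]; exact F.z_mem) (by
    rw [show g⁻¹ * F.pt * g⁻¹⁻¹ = z by group]; exact F.pt_ne.symm) hx hx2 (F.si.v_ne hx hne hne')
  exact (isConj_iff.2 ⟨d * g, by rw [← hd]; group⟩ : IsConj z x).symm

theorem form_three {a c : W6} {xL xE x : G} (hL : F.Form e0 e1 xL) (hE : F.Form aE cE xE)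
    (hx : F.Form a c x) (hx2 : x * x = 1) (hc : c ≠ 0) : F.InThree xL xE x := by
  rcases F.form_cases hx hx2 hc with ⟨hqc, ha⟩ | h | h
  · obtain ⟨y, hxy, hy⟩ : ∃ y, F.CConj x y ∧ F.Form 0 c y := by
      rcases ha with rfl | rfl
      · exact ⟨x, F.cconj_refl x, hx⟩
      · obtain ⟨y, h1, h2⟩ := F.form_shift hx
        rw [w6_add_self] at h2
        exact ⟨y, h1, h2⟩
    have hy2 : y * y = 1 := (F.form_invol hy).2
      ⟨(CfsgLib.Perm.Trans.Quad.qzero q6_nd).trans (pl6_zero_left c).symm, hqc.trans (pl6_zero_left c).symm⟩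
    refine F.inThree_conj (F.cconj_isConj hxy) (F.Qi_three ?_ hy2 (F.form_notMem hy hc))
    obtain ⟨q, hq, r, hr, hqa, -, rfl⟩ := hy
    obtain ⟨s, t, rfl⟩ := F.zi_of_zero hq hqa
    exact mul_mem (F.zi_mem s t).2 hr.1
  · exact Or.inr (Or.inl (F.cconj_isConj (F.mconj_cconj (F.form_sing hx h hL))))
  · exact Or.inr (Or.inr (F.cconj_isConj (F.mconj_cconj (F.form_anis hx h hE))))

/-- Involutions with image a transformation at a singular point. -/
theorem sieg_three {xL xE x : G} (hL : F.Form e0 e1 xL) (hE : F.Form aE cE xE)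
    (hx : x ∈ centralizer ({z} : Set G)) (hx2 : x * x = 1) (hx1 : x ≠ 1)
    (h : ∃ h ∈ Om, ∃ c, ∀ w, act (h * ρ x * h⁻¹) w = sieg c w) : F.InThree xL xE x := by
  obtain ⟨h, hh, c, hact⟩ := h
  obtain ⟨k, hk, rfl⟩ := F.setup.ρ_surj h hh
  set x₁ := k * x * k⁻¹ with hx₁
  have hx₁C : x₁ ∈ centralizer ({z} : Set G) := mul_mem (mul_mem hk hx) (inv_mem hk)
  have hx₁2 : x₁ * x₁ = 1 := by
    rw [hx₁, show k * x * k⁻¹ * (k * x * k⁻¹) = k * (x * x) * k⁻¹ by group, hx2]; group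
  have hx₁1 : x₁ ≠ 1 := fun e => hx1 (by rw [hx₁] at e; simpa using e)
  have hρ₁ : ∀ w, act (ρ x₁) w = sieg c w := fun w => by
    rw [hx₁, F.setup.ρ_mul _ (mul_mem hk hx) _ (inv_mem hk), F.setup.ρ_mul k hk x hx, F.setup.ρ_inv hk, hact]
  refine F.inThree_conj (isConj_iff.2 ⟨k, hx₁.symm⟩) ?_
  by_cases hc : c = 0
  · refine F.Q_three ((F.setup.ρ_ker _ hx₁C).1 (iso_ext fun w => ?_)) hx₁2 hx₁1
    rw [hρ₁, hc, sieg_zero, act_one]
  · obtain ⟨u, hu⟩ := exists_pl6_one hc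
    have hxi := F.comm_pt hx₁C hx₁2 (w := inW u) (by
      rw [hρ₁, sieg_diff, inW, pr_vmk, yc_vmk, pl6_comm, hu, zero_mul, zero_smul, add_zero]; rfl)
    obtain ⟨a, ha⟩ := F.form_of_sieg hx₁C hxi hρ₁
    exact F.form_three hL hE ha hx₁2 hc

/-- Isometries with many fixed vectors are transformations at singular points. -/
theorem sieg_of_fixed {k : Iso8} (hk : k ∈ Om) (h2 : k * k = 1) (hcount : 16 < Nat.card {x : Vec // act k x = x}) :
    ∃ h ∈ Om, ∃ c, ∀ w, act (h * k * h⁻¹) w = sieg c w := by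
  obtain ⟨h, hh, hS⟩ := shape_exists hk h2
  rcases hS with ⟨c, hc⟩ | ⟨c, hc4, hc⟩
  · exact ⟨h, hh, c, hc⟩
  rcases (show c = 0 ∨ c ∈ [e2, g2, dd] by simpa using hc4) with rfl | hc3
  · obtain ⟨P, hP, hPe⟩ := exists_order_three piFun_add (fun x => (piFun_facts x).1) (fun x => (piFun_facts x).2.1)
    have hPinv : ∀ x, act P⁻¹ x = piFun (piFun x) := fun x => by
      conv_lhs => rw [← (piFun_facts x).2.1, ← hPe, ← act_mul, inv_mul_cancel, act_one]
    refine ⟨P⁻¹ * h, mul_mem (inv_mem hP) hh, e0, fun w => ?_⟩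
    rw [show P⁻¹ * h * k * (P⁻¹ * h)⁻¹ = P⁻¹ * (h * k * h⁻¹) * P by group, act_mul, act_mul, hPinv, hc, sieg_zero,
      hPe, ← (piFun_facts (piFun w)).2.2.1, (piFun_facts _).2.1, (piFun_facts _).2.1]
  · exfalso
    have h1 : Nat.card {x : Vec // act k x = x} = Nat.card {x : Vec // tAf (sieg c x) = x} := by
      refine Nat.card_congr
        { toFun := fun x => ⟨act h x.1, by
            rw [← hc, act_mul, act_mul, ← act_mul h⁻¹, inv_mul_cancel, act_one, x.2]⟩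
          invFun := fun x => ⟨act h⁻¹ x.1, ?_⟩
          left_inv := fun x => Subtype.ext (show act h⁻¹ (act h x.1) = _ by
            rw [← act_mul, inv_mul_cancel, act_one])
          right_inv := fun x => Subtype.ext (show act h (act h⁻¹ x.1) = _ by
            rw [← act_mul, mul_inv_cancel, act_one]) }
      have e := x.2
      rw [← hc, act_mul, act_mul] at e
      conv_rhs => rw [← e, ← act_mul h⁻¹ h, inv_mul_cancel, act_one]
    rw [h1, Nat.card_eq_fintype_card, fixed_count c hc3] at hcount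
    exact lt_irrefl _ hcount

/-- The exponents of the reference involution are given by one of two singular vectors. -/
theorem quad_form {y : G} (Y : F.Quad y) : ∃ k ∈ [e2, g2], ∀ r ∈ F.R', pl6 (F.phi r) e0 = 0 →
    pl6 (F.phi r) e1 = 0 → y * r * y⁻¹ = r * F.zi (pl6 k (F.phi r)) 0 := by
  let AC : W6 → ZMod 2 → Prop := fun c s => ∃ r ∈ F.R', F.phi r = c ∧ y * r * y⁻¹ = r * F.zi s 0
  have hzi : ∀ a b, y * F.zi a b * y⁻¹ = F.zi a b := fun a b => conj_eq_iff_comm.2 (F.zi_comm Y.cz Y.ci a b)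
  have hsum : ∀ c c' s s', AC c s → AC c' s' → AC (c + c') (s + s') := by
    rintro c c' s s' ⟨r, hr, hrc, e⟩ ⟨r', hr', hrc', e'⟩
    refine ⟨r * r', mul_mem hr hr', by rw [F.phi_mul hr hr', hrc, hrc'], ?_⟩
    calc y * (r * r') * y⁻¹ = (y * r * y⁻¹) * (y * r' * y⁻¹) := by group
      _ = r * (F.zi s 0 * r') * F.zi s' 0 := by rw [e, e']; group
      _ = r * r' * (F.zi s 0 * F.zi s' 0) := by rw [← F.central_R' hr']; group
      _ = _ := by rw [F.zi_add, add_zero]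
  have huniq : ∀ {r : G}, r ∈ F.R' → ∀ {s}, AC (F.phi r) s → y * r * y⁻¹ = r * F.zi s 0 := by
    rintro r hr s ⟨r', hr', hrc, e⟩
    obtain ⟨a, b, rfl⟩ := F.phi_eq hr' hr hrc
    rw [show y * (r' * F.zi a b) * y⁻¹ = (y * r' * y⁻¹) * (y * F.zi a b * y⁻¹) by group, e, hzi, mul_assoc,
      mul_assoc r', F.zi_add, F.zi_add, add_comm s, zero_add, add_zero]
  have himage : ∀ u, q6 (sig e0 e1 u + u) = 0 → AC (sig e0 e1 u + u) 0 := by
    intro u hq
    obtain ⟨r, hr, hru⟩ := F.phi_surj u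
    have hr' : y * r * y⁻¹ ∈ F.R' := F.norm_R' Y.cz Y.ci hr
    set m := y * r * y⁻¹ * r⁻¹ with hm
    have hmR : m ∈ F.R' := mul_mem hr' (inv_mem hr)
    have hmphi : F.phi m = sig e0 e1 u + u := by
      rw [hm, F.phi_mul hr' (inv_mem hr), F.phi_conj Y.cz Y.rho hr, F.phi_inv hr, hru]
    refine ⟨m, hmR, hmphi, ?_⟩
    have hinv : m⁻¹ = m := by
      refine inv_eq_of_mul_eq_one_right ?_
      rw [F.square_rule hmR, hmphi, hq, F.zi_zero]
    calc y * m * y⁻¹ = (y * y) * r * (y * y)⁻¹ * r⁻¹ * m⁻¹ := by rw [hm]; group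
      _ = m * F.zi 0 0 := by rw [Y.sq, hinv, F.zi_zero]; group
  have h0 : AC e0 0 := tAf_pl_one.1 ▸ himage g1 (by rw [tAf_pl_one.1]; exact ref_facts.1)
  have h1 : AC e1 0 := tAf_pl_one.2 ▸ himage g0 (by rw [tAf_pl_one.2]; exact ref_facts.2.1)
  have hd : AC dd 1 := by
    obtain ⟨r, hr, hrd⟩ := F.phi_surj dd
    exact ⟨r, hr, hrd, Y.alpha r hr hrd⟩
  obtain ⟨α, h2⟩ : ∃ α, AC e2 α := by
    obtain ⟨r, hr, hre⟩ := F.phi_surj e2
    obtain ⟨α, e⟩ := F.quad_conj_R' Y.cz Y.ci Y.sq Y.rho Y.comm hr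
      (by rw [hre]; decide +kernel) (by rw [hre]; decide +kernel)
    exact ⟨α, r, hr, hre, e⟩
  have h3 : AC g2 (α + 1) := by
    have h := hsum _ _ _ _ h2 hd
    rwa [dd, ← add_assoc, w6_add_self, zero_add] at h
  obtain ⟨k, hk, hk0, hk1, hk2, hk3⟩ : ∃ k ∈ [e2, g2], pl6 k e0 = 0 ∧ pl6 k e1 = 0 ∧ pl6 k e2 = α ∧
      pl6 k g2 = α + 1 := by
    rcases two_cases α with rfl | rfl
    · exact ⟨e2, by simp, by decide +kernel⟩
    · exact ⟨g2, by simp, by decide +kernel⟩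
  refine ⟨k, hk, fun r hr p0 p1 => huniq hr ?_⟩
  have hsm : ∀ (t : ZMod 2) c s, AC c s → AC (t • c) (t * s) := by
    intro t c s h
    rcases two_cases t with rfl | rfl
    · rw [zero_smul, zero_mul]
      exact ⟨1, one_mem _, by rw [← F.zi_zero, F.phi_zi], by rw [F.zi_zero]; group⟩
    · rw [one_smul, one_mul]; exact h
  have hs := span_four (F.phi r) p0 p1
  rw [hs]
  simp only [pl6_add_right, pl6_smul_right, hk0, hk1, hk2, hk3]
  exact hsum _ _ _ _ (hsum _ _ _ _ (hsum _ _ _ _ (hsm _ _ _ h0) (hsm _ _ _ h1)) (hsm _ _ _ h2)) (hsm _ _ _ h3)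

/-- An involution centralizing modulo the second involution a large part of the second group is conjugate to one with
image a transformation at a point. -/
theorem near_sieg {x : G} (hx : x ∈ centralizer ({z} : Set G)) (hxi : x ∈ centralizer ({F.pt} : Set G))
    (hx2 : x * x = 1) (h : ∀ r ∈ F.R', pl6 (F.phi r) e0 = 0 → pl6 (F.phi r) e1 = 0 → ∃ t,
      x * r * x⁻¹ = r * F.zi 0 t) :
    ∃ h ∈ Om, ∃ c, ∀ w, act (h * ρ (g⁻¹ * x * g) * h⁻¹) w = sieg c w := by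
  classical
  have hxC' : g⁻¹ * x * g ∈ centralizer ({z} : Set G) := mem_cz.2 (by
    calc g⁻¹ * x * g * z = g⁻¹ * (x * F.pt) * g := by group
      _ = g⁻¹ * (F.pt * x) * g := by rw [mem_cz.1 hxi]
      _ = _ := by group)
  refine F.sieg_of_fixed (F.setup.ρ_mem _ hxC') (by
    rw [← F.setup.ρ_mul _ hxC' _ hxC', show g⁻¹ * x * g * (g⁻¹ * x * g) = g⁻¹ * (x * x) * g by group, hx2,
      mul_one, inv_mul_cancel, F.setup.ρ_one]) ?_
  choose r hr hrc using fun c : {c : W6 // pl6 c e0 = 0 ∧ pl6 c e1 = 0} => F.phi_surj c.1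
  have hfix : ∀ (c) (s : ZMod 2), act (ρ (g⁻¹ * x * g)) (F.vi (r c * F.zi s 0)) = F.vi (r c * F.zi s 0) := by
    intro c s
    have hm : r c * F.zi s 0 ∈ F.R' := mul_mem (hr c) (F.zi_R' s 0)
    have hphi : F.phi (r c * F.zi s 0) = c.1 := by rw [F.phi_mul (hr c) (F.zi_R' s 0), F.phi_zi, add_zero, hrc]
    obtain ⟨t, e⟩ := h _ hm (by rw [hphi]; exact c.2.1) (by rw [hphi]; exact c.2.2)
    rw [← F.si.ρ_act x hxi _ hm.1, e, F.si.v_mul _ hm.1 _ (F.zi_mem 0 t).2]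
    have h0 : F.vi (F.zi 0 t) = 0 := by
      rcases two_cases t with rfl | rfl
      · rw [F.zi_zero]; exact F.si.v_one
      · rw [F.zi_pt]; exact F.si.v_z
    show F.vi (r c * F.zi s 0) + F.vi (F.zi 0 t) = _
    rw [h0, add_zero]
  let f : {c : W6 // pl6 c e0 = 0 ∧ pl6 c e1 = 0} × ZMod 2 → {v : Vec // act (ρ (g⁻¹ * x * g)) v = v} := fun p =>
    ⟨F.vi (r p.1 * F.zi p.2 0), hfix p.1 p.2⟩
  have hinj : Function.Injective f := by
    rintro ⟨c, s⟩ ⟨c', s'⟩ e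
    replace e : F.vi (r c * F.zi s 0) = F.vi (r c' * F.zi s' 0) := congrArg Subtype.val e
    obtain ⟨t, ht⟩ : ∃ t, r c * F.zi s 0 = r c' * F.zi s' 0 * F.zi 0 t := by
      rcases (F.si.v_eq (mul_mem (hr c).1 (F.zi_mem s 0).2) (mul_mem (hr c').1 (F.zi_mem s' 0).2)).1 e with h' | h'
      · exact ⟨0, by rw [h', F.zi_zero, mul_one]⟩
      · exact ⟨1, by rw [h', F.zi_pt]⟩
    have hc : c.1 = c'.1 := by
      have h' := congrArg F.phi ht
      rwa [F.phi_mul (hr c) (F.zi_R' s 0), F.phi_mul (mul_mem (hr c') (F.zi_R' s' 0)) (F.zi_R' 0 t),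
        F.phi_mul (hr c') (F.zi_R' s' 0), F.phi_zi, F.phi_zi, F.phi_zi, add_zero, add_zero, add_zero, hrc, hrc] at h'
    obtain rfl : c = c' := Subtype.ext hc
    rw [mul_assoc, F.zi_add, add_zero, zero_add] at ht
    rw [(F.zi_inj (mul_left_cancel ht)).1]
  have hle := Nat.card_le_card_of_injective f hinj
  rw [Nat.card_prod, Nat.card_zmod, Nat.card_eq_fintype_card, perp_count] at hle
  omega

/-- Involutions with image of full range. -/
theorem quad_three {xL xE x : G} {c : W6} (hL : F.Form e0 e1 xL) (hE : F.Form aE cE xE) (hc : c ∈ [e2, g2, dd])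
    (hx : x ∈ centralizer ({z} : Set G)) (hx2 : x * x = 1) (hx1 : x ≠ 1)
    (hρ : ∀ w, act (ρ x) w = tAf (sieg c w)) : F.InThree xL xE x := by
  obtain ⟨w, hw⟩ := range_pt c hc
  have hxi := F.comm_pt hx hx2 (w := w) (by rw [hρ, hw])
  obtain ⟨y, Y⟩ := F.quad_exists
  obtain ⟨k, hk, hform⟩ := F.quad_form Y
  obtain ⟨r, hr, hrc⟩ := F.phi_surj c
  have hcp : pl6 c e0 = 0 ∧ pl6 c e1 = 0 :=
    (by decide +kernel : ∀ c ∈ [e2, g2, dd], pl6 c e0 = 0 ∧ pl6 c e1 = 0) c hc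
  have hqR : y⁻¹ * x * r⁻¹ ∈ F.R := by
    refine ⟨(F.setup.ρ_ker _ (mul_mem (mul_mem (inv_mem Y.cz) hx) (inv_mem hr.2))).1 ?_,
      Subgroup.mul_mem _ (Subgroup.mul_mem _ (Subgroup.inv_mem _ Y.ci) hxi) (Subgroup.inv_mem _ (F.R'_ci hr))⟩
    have e : ρ x = ρ y * ρ r := iso_ext fun w => by rw [act_mul, hρ, Y.rho, F.rho_R' hr, hrc]
    rw [F.setup.ρ_mul _ (mul_mem (inv_mem Y.cz) hx) _ (inv_mem hr.2), F.setup.ρ_mul _ (inv_mem Y.cz) x hx,
      F.setup.ρ_inv hr.2, F.setup.ρ_inv Y.cz, e]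
    group
  obtain ⟨q, hq, rfl⟩ : ∃ q ∈ F.R, x = y * q * r := ⟨_, hqR, by group⟩
  set a := pr (v q) with ha
  have hyinv : y⁻¹ = y := inv_eq_of_mul_eq_one_right Y.sq
  have hyr := hform r hr (hrc ▸ hcp.1) (hrc ▸ hcp.2)
  rw [hrc] at hyr
  have hsq : y * q * r * (y * q * r) = (y * q * y⁻¹) * r * F.zi (pl6 k c) 0 * q * r := by
    calc y * q * r * (y * q * r) = (y * q * y⁻¹) * (y * r * y) * q * r := by group
      _ = _ := by rw [show y * r * y = y * r * y⁻¹ by rw [hyinv], hyr]; group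
  rw [hx2] at hsq
  have hperp : pl6 a e0 = 0 ∧ pl6 a e1 = 0 := by
    refine sig_fix a ?_
    have hyq : y * q * y⁻¹ ∈ F.R := F.norm_R Y.cz Y.ci hq
    have hv : pr (v (y * q * y⁻¹)) = sig e0 e1 a := by rw [F.setup.ρ_act y Y.cz q hq.1, Y.rho, tAf, pr_vmk]
    have e : y * q * y⁻¹ * F.zi (pl6 a c + pl6 k c) (pl6 a c) * q * F.zi 0 (q6 c) = 1 := by
      rw [hsq, show (y * q * y⁻¹) * r * F.zi (pl6 k c) 0 * q * r = (y * q * y⁻¹) * (r * (F.zi (pl6 k c) 0 * q)) * r by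
        group, ← F.central_R hq, ← mul_assoc r, F.swap_rule hq hr, hrc, ← ha]
      calc y * q * y⁻¹ * F.zi (pl6 a c + pl6 k c) (pl6 a c) * q * F.zi 0 (q6 c)
          = y * q * y⁻¹ * F.zi (pl6 a c + pl6 k c) (pl6 a c + 0) * q * F.zi 0 (q6 c) := by rw [add_zero]
        _ = y * q * y⁻¹ * F.zi (pl6 a c) (pl6 a c) * (F.zi (pl6 k c) 0 * q) * (r * r) := by
          rw [← F.zi_add, F.square_rule hr, hrc]; group
        _ = y * q * y⁻¹ * F.zi (pl6 a c) (pl6 a c) * (q * F.zi (pl6 k c) 0) * (r * r) := by rw [F.central_R hq]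
        _ = y * q * y⁻¹ * F.zi (pl6 a c) (pl6 a c) * q * (F.zi (pl6 k c) 0 * r) * r := by group
        _ = y * q * y⁻¹ * F.zi (pl6 a c) (pl6 a c) * q * (r * F.zi (pl6 k c) 0) * r := by rw [F.central_R' hr]
        _ = _ := by group
    have h := congrArg (fun w => pr (v w)) e
    simp only [F.pr_mul (mul_mem (mul_mem hyq.1 (F.zi_R _ _).1) hq.1) (F.zi_R _ _).1,
      F.pr_mul (mul_mem hyq.1 (F.zi_R _ _).1) hq.1, F.pr_mul hyq.1 (F.zi_R _ _).1, hv, F.pr_v_zi, F.setup.v_one,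
      add_zero] at h
    rw [show pr (0 : Vec) = 0 from by decide +kernel] at h
    exact add_eq_zero6.1 h
  have hyq : y * q = q * y := Y.comm q hq.1 (by rw [pl_inW, ← ha, hperp.1]) (by rw [pl_inW, ← ha, hperp.2])
  have heq : (q6 a + pl6 a c + pl6 k c = 0) ∧ (q6 c + pl6 a c = 0) := by
    have hfm : F.Form a c (q * r) := ⟨q, hq, r, hr, rfl, hrc, rfl⟩
    have e : F.zi (q6 a + pl6 a c) (q6 c + pl6 a c) * F.zi (pl6 k c) 0 = 1 := by
      rw [hsq, ← F.form_sq hfm]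
      calc q * r * (q * r) * F.zi (pl6 k c) 0 = q * r * q * (r * F.zi (pl6 k c) 0) := by group
        _ = q * r * (q * F.zi (pl6 k c) 0) * r := by rw [F.central_R' hr]; group
        _ = q * r * F.zi (pl6 k c) 0 * q * r := by rw [F.central_R hq]; group
        _ = _ := by rw [conj_eq_iff_comm.2 hyq]
    rw [F.zi_add, add_zero] at e
    exact F.zi_eq_one e
  -- move to the neighbour
  have hfin : ∀ q₁ ∈ F.R, pr (v q₁) + k ∈ [0, e0, e1, e0 + e1] → y * q₁ * r ∈ centralizer ({z} : Set G) →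
      (y * q₁ * r) * (y * q₁ * r) = 1 → F.InThree xL xE (y * q₁ * r) := by
    intro q₁ hq₁ hak hC h2
    have hCi : y * q₁ * r ∈ centralizer ({F.pt} : Set G) :=
      Subgroup.mul_mem _ (Subgroup.mul_mem _ Y.ci hq₁.2) (F.R'_ci hr)
    have h' := F.near_sieg hC hCi h2 fun r₁ hr₁ p0 p1 => by
      obtain ⟨t, ht⟩ : ∃ t, r * r₁ * r⁻¹ = r₁ * F.zi 0 t := by
        rcases F.si.core.comm_eq r hr.1 r₁ hr₁.1 with e | e
        · exact ⟨0, by rw [F.zi_zero, mul_one]; exact mul_inv_eq_one.1 e⟩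
        · refine ⟨1, ?_⟩
          rw [F.zi_pt, show r * r₁ * r⁻¹ = r * r₁ * r⁻¹ * r₁⁻¹ * r₁ by group, e]
          exact (mem_cz.1 (F.R'_ci hr₁)).symm
      refine ⟨pl6 (pr (v q₁)) (F.phi r₁) + t, ?_⟩
      have hl : pl6 k (F.phi r₁) + pl6 (pr (v q₁)) (F.phi r₁) = 0 := by
        rw [← pl6_add_left, add_comm k]
        exact span_perp _ hak _ p0 p1
      calc y * q₁ * r * r₁ * (y * q₁ * r)⁻¹
          = y * (q₁ * (r * r₁ * r⁻¹) * q₁⁻¹) * y⁻¹ := by group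
        _ = y * ((q₁ * r₁ * q₁⁻¹) * (q₁ * F.zi 0 t * q₁⁻¹)) * y⁻¹ := by rw [ht]; group
        _ = y * (F.zi (pl6 (pr (v q₁)) (F.phi r₁)) (pl6 (pr (v q₁)) (F.phi r₁)) * r₁ * F.zi 0 t) * y⁻¹ := by
          rw [F.conj_R' hq₁ hr₁, conj_eq_iff_comm.2 (F.central_R hq₁ 0 t)]
        _ = y * (r₁ * F.zi (pl6 (pr (v q₁)) (F.phi r₁)) (pl6 (pr (v q₁)) (F.phi r₁) + t)) * y⁻¹ := by
          rw [← F.central_R' hr₁, mul_assoc r₁, F.zi_add, add_zero]
        _ = (y * r₁ * y⁻¹) * (y * F.zi (pl6 (pr (v q₁)) (F.phi r₁)) (pl6 (pr (v q₁)) (F.phi r₁) + t) * y⁻¹) := by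
          group
        _ = r₁ * F.zi (pl6 k (F.phi r₁)) 0 *
            F.zi (pl6 (pr (v q₁)) (F.phi r₁)) (pl6 (pr (v q₁)) (F.phi r₁) + t) := by
          rw [hform r₁ hr₁ p0 p1, conj_eq_iff_comm.2 (F.zi_comm Y.cz Y.ci _ _)]
        _ = _ := by rw [mul_assoc, F.zi_add, hl, zero_add]
    have hx' : g⁻¹ * (y * q₁ * r) * g ∈ centralizer ({z} : Set G) := mem_cz.2 (by
      calc g⁻¹ * (y * q₁ * r) * g * z = g⁻¹ * ((y * q₁ * r) * F.pt) * g := by group
        _ = g⁻¹ * (F.pt * (y * q₁ * r)) * g := by rw [mem_cz.1 hCi]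
        _ = _ := by group)
    have hne : y * q₁ * r ≠ 1 := fun e => by
      have h1 := congrArg pr (congrArg (fun w => act (ρ w) (inW g1)) e)
      simp only [F.setup.ρ_mul _ (mul_mem Y.cz (F.setup.le hq₁.1)) r hr.2,
        F.setup.ρ_mul _ Y.cz _ (F.setup.le hq₁.1), F.setup.ρ_of_mem hq₁.1, mul_one, act_mul, F.setup.ρ_one,
        act_one, Y.rho, F.rho_R' hr] at h1
      rw [tAf, pr_vmk, inW, sieg_perp _ (yc_vmk _ _ _), pr_vmk] at h1
      exact absurd h1 (by decide +kernel)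
    refine F.inThree_conj (y := g⁻¹ * (y * q₁ * r) * g) (isConj_iff.2 ⟨g⁻¹, by group⟩)
      (F.sieg_three hL hE hx' ?_ ?_ h')
    · rw [show g⁻¹ * (y * q₁ * r) * g * (g⁻¹ * (y * q₁ * r) * g) = g⁻¹ * ((y * q₁ * r) * (y * q₁ * r)) * g by group,
        h2]
      group
    · intro e
      refine hne ?_
      calc y * q₁ * r = g * (g⁻¹ * (y * q₁ * r) * g) * g⁻¹ := by group
        _ = 1 := by rw [e]; group
  rcases quad_equations k hk c hc a hperp.1 hperp.2 heq.1 heq.2 with h | h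
  · exact hfin q hq h hx hx2
  · obtain ⟨s, hs, hvs⟩ := F.exists_partner_elt
    obtain ⟨q', hq', hp', e1⟩ := F.partner_conj hr hs hvs
    have hys : y * s = s * y := Y.comm s hs (by rw [hvs, pl_comm, pl_f0]; rfl) (by rw [hvs, pl_comm, pl_f0]; rfl)
    obtain ⟨e, he⟩ : ∃ e : ZMod 2, s * q * s⁻¹ = q * F.zi e 0 := by
      rcases F.setup.conj_or hq.1 hs with h | h
      · exact ⟨0, by rw [h, F.zi_zero, mul_one]⟩
      · exact ⟨1, by rw [h, F.zi_z]⟩
    have e2 : r * q' = q' * r := by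
      rw [F.swap_rule hq' hr, hp', pl6_self, F.zi_zero, one_mul]
    have hx' : s * (y * q * r) * s⁻¹ = y * (q * F.zi e 0 * q') * r := by
      calc s * (y * q * r) * s⁻¹ = (s * y * s⁻¹) * (s * q * s⁻¹) * (s * r * s⁻¹) := by group
        _ = y * (q * F.zi e 0) * (q' * r) := by rw [conj_eq_iff_comm.2 hys.symm, he, e1, e2]
        _ = _ := by group
    refine F.inThree_conj (isConj_iff.2 ⟨s, hx'⟩) (hfin _ (mul_mem (mul_mem hq (F.zi_R e 0)) hq') ?_ ?_ ?_)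
    · rw [F.pr_mul (mul_mem hq.1 (F.zi_R e 0).1) hq'.1, F.pr_mul hq.1 (F.zi_R e 0).1, hp', F.pr_v_zi, add_zero, hrc]
      exact h
    · rw [← hx']; exact mul_mem (mul_mem (F.setup.le hs) hx) (inv_mem (F.setup.le hs))
    · rw [← hx', show s * (y * q * r) * s⁻¹ * (s * (y * q * r) * s⁻¹) = s * ((y * q * r) * (y * q * r)) * s⁻¹ by group,
        hx2]
      group

/-- All involutions are conjugate to one of three. -/
theorem three {xL xE : G} (hL : F.Form e0 e1 xL) (hE : F.Form aE cE xE) {x : G} (hx2 : x * x = 1) (hx1 : x ≠ 1) :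
    F.InThree xL xE x := by
  obtain ⟨k, hk⟩ := conj_into F.setup hx2 hx1
  set x₁ := k * x * k⁻¹ with hx₁
  refine F.inThree_conj (isConj_iff.2 ⟨k, hx₁.symm⟩) ?_
  have hx₁2 : x₁ * x₁ = 1 := by
    rw [hx₁, show k * x * k⁻¹ * (k * x * k⁻¹) = k * (x * x) * k⁻¹ by group, hx2]; group
  have hx₁1 : x₁ ≠ 1 := fun e => hx1 (by rw [hx₁] at e; simpa using e)
  have h2 : ρ x₁ * ρ x₁ = 1 := by rw [← F.setup.ρ_mul _ hk _ hk, hx₁2, F.setup.ρ_one]
  obtain ⟨h, hh, hS⟩ := shape_exists (F.setup.ρ_mem _ hk) h2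
  rcases hS with ⟨c, hc⟩ | ⟨c, hc4, hc⟩
  · exact F.sieg_three hL hE hk hx₁2 hx₁1 ⟨h, hh, c, hc⟩
  rcases (show c = 0 ∨ c ∈ [e2, g2, dd] by simpa using hc4) with rfl | hc3
  · obtain ⟨P, hP, hPe⟩ := exists_order_three piFun_add (fun x => (piFun_facts x).1) (fun x => (piFun_facts x).2.1)
    have hPinv : ∀ x, act P⁻¹ x = piFun (piFun x) := fun x => by
      conv_lhs => rw [← (piFun_facts x).2.1, ← hPe, ← act_mul, inv_mul_cancel, act_one]
    refine F.sieg_three hL hE hk hx₁2 hx₁1 ⟨P⁻¹ * h, mul_mem (inv_mem hP) hh, e0, fun w => ?_⟩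
    rw [show P⁻¹ * h * ρ x₁ * (P⁻¹ * h)⁻¹ = P⁻¹ * (h * ρ x₁ * h⁻¹) * P by group, act_mul, act_mul, hPinv, hc,
      sieg_zero, hPe, ← (piFun_facts (piFun w)).2.2.1, (piFun_facts _).2.1, (piFun_facts _).2.1]
  · obtain ⟨m, hm, rfl⟩ := F.setup.ρ_surj h hh
    refine F.inThree_conj (isConj_iff.2 ⟨m, rfl⟩)
      (F.quad_three hL hE hc3 (mul_mem (mul_mem hm hk) (inv_mem hm)) ?_ ?_ fun w => ?_)
    · rw [show m * x₁ * m⁻¹ * (m * x₁ * m⁻¹) = m * (x₁ * x₁) * m⁻¹ by group, hx₁2]; group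
    · exact fun e => hx₁1 (by simpa using e)
    · rw [F.setup.ρ_mul _ (mul_mem hm hk) _ (inv_mem hm), F.setup.ρ_mul m hm x₁ hk, F.setup.ρ_inv hm, hc]

end Pt

end

end CfsgLib.Spor.CoOneClasses
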