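import Cfsg.Agent.Lib.Spor.CoOneType.Basic
import Mathlib.GroupTheory.Index

/-!
# Coordinates at a singular point of the orthogonal space of plus type in dimension eight over two elements
-/

set_option autoImplicit false
set_option synthInstance.maxSize 4096

namespace CfsgLib.Spor.CoOneClasses

open Matrix Cfsg.Geo CfsgLib.Perm.Trans.Quad
open CfsgLib.Spor.CoOneType (Vec qf Iso8 Om act act_one act_mul act_add act_zero act_injective qf_act pol_act iso_ext
  two_cases qf_nd five_le om_mem_of_omegaGL om_index vec_add_self)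

noncomputable section

/-- The coordinates in dimension six. -/
abbrev Ix6 : Type := Fin 3 ⊕ Fin 3

/-- The vectors in dimension six. -/
abbrev W6 : Type := Ix6 → ZMod 2

/-- The form in dimension six. -/
abbrev q6 : W6 → ZMod 2 := Cfsg.quadFormPlus 3 (ZMod 2)

/-- The polar form. -/
abbrev pl (x y : Vec) : ZMod 2 := QuadraticMap.polar qf x y

/-- The polar form in dimension six. -/
abbrev pl6 (x y : W6) : ZMod 2 := QuadraticMap.polar q6 x y

theorem q6_nd : IsNondegenerateQuadraticForm q6 := quadFormPlus_nd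

/-- A vector of the six-space from its coordinates. -/
def mk6 (a₀ a₁ a₂ b₀ b₁ b₂ : ZMod 2) : W6 := Sum.elim ![a₀, a₁, a₂] ![b₀, b₁, b₂]

/-- A vector from its parts. -/
def vmk (α β : ZMod 2) (u : W6) : Vec :=
  Sum.elim ![α, u (.inl 0), u (.inl 1), u (.inl 2)] ![β, u (.inr 0), u (.inr 1), u (.inr 2)]

/-- The first coordinate. -/
def xc (v : Vec) : ZMod 2 := v (.inl 0)

/-- The coordinate paired with the first one. -/
def yc (v : Vec) : ZMod 2 := v (.inr 0)

/-- The part in the six-space. -/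
def pr (v : Vec) : W6 := mk6 (v (.inl 1)) (v (.inl 2)) (v (.inl 3)) (v (.inr 1)) (v (.inr 2)) (v (.inr 3))

theorem vmk_eta (v : Vec) : vmk (xc v) (yc v) (pr v) = v := by
  funext i
  rcases i with i | i <;> fin_cases i <;> rfl

theorem xc_vmk (α β : ZMod 2) (u : W6) : xc (vmk α β u) = α := rfl

theorem yc_vmk (α β : ZMod 2) (u : W6) : yc (vmk α β u) = β := rfl

theorem pr_vmk (α β : ZMod 2) (u : W6) : pr (vmk α β u) = u := by
  funext i
  rcases i with i | i <;> fin_cases i <;> rfl

theorem vmk_add (α β α' β' : ZMod 2) (u u' : W6) :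
    vmk α β u + vmk α' β' u' = vmk (α + α') (β + β') (u + u') := by
  funext i
  rcases i with i | i <;> fin_cases i <;> rfl

theorem vmk_congr {α α' β β' : ZMod 2} {u u' : W6} (h₁ : α = α') (h₂ : β = β') (h₃ : u = u') :
    vmk α β u = vmk α' β' u' := by rw [h₁, h₂, h₃]

theorem xc_add (v w : Vec) : xc (v + w) = xc v + xc w := rfl

theorem yc_add (v w : Vec) : yc (v + w) = yc v + yc w := rfl

theorem pr_add (v w : Vec) : pr (v + w) = pr v + pr w := by
  funext i
  rcases i with i | i <;> fin_cases i <;> rfl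

theorem q6_eq (u : W6) :
    q6 u = u (.inl 0) * u (.inr 0) + u (.inl 1) * u (.inr 1) + u (.inl 2) * u (.inr 2) := by
  show ∑ i : Fin 3, _ = _
  rw [Fin.sum_univ_three]

theorem qf_vmk (α β : ZMod 2) (u : W6) : qf (vmk α β u) = α * β + q6 u := by
  rw [q6_eq]
  show ∑ i : Fin 4, _ = _
  rw [Fin.sum_univ_four]
  show α * β + u (.inl 0) * u (.inr 0) + u (.inl 1) * u (.inr 1) + u (.inl 2) * u (.inr 2) = _
  ring

theorem q6_add (u u' : W6) : q6 (u + u') = q6 u + q6 u' + pl6 u u' := by
  simp only [QuadraticMap.polar]; ring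

theorem qf_add (x y : Vec) : qf (x + y) = qf x + qf y + pl x y := by
  simp only [QuadraticMap.polar]; ring

theorem pl_vmk (α β α' β' : ZMod 2) (u u' : W6) :
    pl (vmk α β u) (vmk α' β' u') = α * β' + β * α' + pl6 u u' := by
  simp only [QuadraticMap.polar, vmk_add, qf_vmk]; ring

theorem pl_eq (x y : Vec) : pl x y = xc x * yc y + yc x * xc y + pl6 (pr x) (pr y) := by
  conv_lhs => rw [← vmk_eta x, ← vmk_eta y, pl_vmk]

/-- The fixed singular vector. -/
def w0 : Vec := vmk 1 0 0

/-- Its partner. -/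
def f0 : Vec := vmk 0 1 0

theorem xc_w0 : xc w0 = 1 := rfl

theorem yc_w0 : yc w0 = 0 := rfl

theorem pr_w0 : pr w0 = 0 := pr_vmk _ _ _

theorem xc_f0 : xc f0 = 0 := rfl

theorem yc_f0 : yc f0 = 1 := rfl

theorem pr_f0 : pr f0 = 0 := pr_vmk _ _ _

theorem qf_w0 : qf w0 = 0 := by decide +kernel

theorem w0_ne : w0 ≠ 0 := by decide +kernel

theorem qf_f0 : qf f0 = 0 := by decide +kernel

theorem pl6_comm (u u' : W6) : pl6 u u' = pl6 u' u := QuadraticMap.polar_comm q6 u u'

theorem pl6_add_left (u u' c : W6) : pl6 (u + u') c = pl6 u c + pl6 u' c := q6_nd.polar_bilinear.add_left u u' c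

theorem pl6_add_right (c u u' : W6) : pl6 c (u + u') = pl6 c u + pl6 c u' :=
  q6_nd.polar_bilinear.add_right c u u'

theorem pl6_smul_left (a : ZMod 2) (x y : W6) : pl6 (a • x) y = a * pl6 x y :=
  q6_nd.polar_bilinear.smul_left a x y

theorem pl6_smul_right (a : ZMod 2) (x y : W6) : pl6 x (a • y) = a * pl6 x y :=
  q6_nd.polar_bilinear.smul_right a x y

theorem pl6_zero_right (u : W6) : pl6 u 0 = 0 := pzero_right q6_nd u

theorem pl6_zero_left (u : W6) : pl6 0 u = 0 := pzero_left q6_nd u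

theorem pl6_self (u : W6) : pl6 u u = 0 := by
  show QuadraticMap.polar q6 u u = 0
  rw [pself q6_nd, show (2 : ZMod 2) = 0 from by decide, zero_mul]

theorem w6_add_self (v : W6) : v + v = 0 := funext fun _ => CharTwo.add_self_eq_zero _

theorem add_eq_zero6 {u u' : W6} : u + u' = 0 ↔ u = u' := by
  refine ⟨fun h => ?_, fun h => by rw [h, w6_add_self]⟩
  calc u = u + (u' + u') := by rw [w6_add_self, add_zero]
    _ = (u + u') + u' := (add_assoc _ _ _).symm
    _ = u' := by rw [h, zero_add]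

theorem add_eq_zero8 {u u' : Vec} : u + u' = 0 ↔ u = u' := by
  refine ⟨fun h => ?_, fun h => by rw [h, vec_add_self]⟩
  calc u = u + (u' + u') := by rw [vec_add_self, add_zero]
    _ = (u + u') + u' := (add_assoc _ _ _).symm
    _ = u' := by rw [h, zero_add]

theorem pl_comm (x y : Vec) : pl x y = pl y x := QuadraticMap.polar_comm qf x y

theorem pl_add_left (x x' y : Vec) : pl (x + x') y = pl x y + pl x' y := qf_nd.polar_bilinear.add_left x x' y

theorem pl_add_right (x y y' : Vec) : pl x (y + y') = pl x y + pl x y' := qf_nd.polar_bilinear.add_right x y y'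

theorem pl_smul_left (a : ZMod 2) (x y : Vec) : pl (a • x) y = a * pl x y :=
  qf_nd.polar_bilinear.smul_left a x y

theorem pl_smul_right (a : ZMod 2) (x y : Vec) : pl x (a • y) = a * pl x y :=
  qf_nd.polar_bilinear.smul_right a x y

theorem pl_w0 (v : Vec) : pl v w0 = yc v := by
  rw [pl_eq, xc_w0, yc_w0, pr_w0, pl6_zero_right]; ring

theorem pl_f0 (v : Vec) : pl v f0 = xc v := by
  rw [pl_eq, xc_f0, yc_f0, pr_f0, pl6_zero_right]; ring

theorem exists_pl_one {u : Vec} (hu : u ≠ 0) : ∃ y, pl u y = 1 := by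
  by_contra hcon
  push Not at hcon
  have h0 : ∀ y, pl u y = 0 := fun y => (two_cases _).resolve_right (hcon y)
  obtain ⟨⟨x, hx⟩, y, hy⟩ := qf_nd.nondegenerate u hu
  exact hx ((QuadraticMap.polar_comm qf x u).trans (h0 x))

theorem exists_pl6_one {u : W6} (hu : u ≠ 0) : ∃ y, pl6 u y = 1 := by
  by_contra hcon
  push Not at hcon
  have h0 : ∀ y, pl6 u y = 0 := fun y => (two_cases _).resolve_right (hcon y)
  obtain ⟨⟨x, hx⟩, y, hy⟩ := q6_nd.nondegenerate u hu
  exact hx ((QuadraticMap.polar_comm q6 x u).trans (h0 x))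

/-- The inclusion of the six-space. -/
def inW (u : W6) : Vec := vmk 0 0 u

theorem qf_inW (u : W6) : qf (inW u) = q6 u := by rw [inW, qf_vmk]; ring

theorem pl_inW (x : Vec) (u : W6) : pl x (inW u) = pl6 (pr x) u := by
  rw [pl_eq, inW, xc_vmk, yc_vmk, pr_vmk]; ring

theorem pl_inW_inW (u u' : W6) : pl (inW u) (inW u') = pl6 u u' := by rw [pl_inW, inW, pr_vmk]

theorem decomp (v : Vec) : v = inW (pr v) + xc v • w0 + yc v • f0 := by
  rcases two_cases (xc v) with e | e <;> rcases two_cases (yc v) with e' | e' <;>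
    conv_lhs => rw [← vmk_eta v, e, e']
  all_goals
    rw [e, e']
    simp [inW, w0, f0, vmk_add]

/-- The transformation attached to a vector of the six-space. -/
def sieg (c : W6) (v : Vec) : Vec := vmk (xc v + pl6 (pr v) c + yc v * q6 c) (yc v) (pr v + yc v • c)

theorem sieg_vmk (c : W6) (α β : ZMod 2) (u : W6) :
    sieg c (vmk α β u) = vmk (α + pl6 u c + β * q6 c) β (u + β • c) := by
  rw [sieg, xc_vmk, yc_vmk, pr_vmk]

theorem sieg_zero (v : Vec) : sieg 0 v = v := by
  rw [sieg, pl6_zero_right, show q6 0 = 0 from qzero q6_nd, smul_zero, mul_zero, add_zero, add_zero, add_zero,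
    vmk_eta]

theorem sieg_sieg (c d : W6) (v : Vec) : sieg c (sieg d v) = sieg (c + d) v := by
  rw [← vmk_eta v, sieg_vmk, sieg_vmk, sieg_vmk]
  rcases two_cases (yc v) with h | h <;> rw [h]
  · simp only [zero_smul, add_zero, zero_mul, pl6_add_right]
    refine vmk_congr ?_ rfl rfl
    ring
  · simp only [one_smul, one_mul, pl6_add_right, pl6_add_left, q6_add]
    refine vmk_congr ?_ rfl ?_
    · rw [pl6_comm d c]; ring
    · abel

theorem sieg_inv (c : W6) (v : Vec) : sieg c (sieg c v) = v := by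
  rw [sieg_sieg, w6_add_self, sieg_zero]

theorem sieg_w0 (c : W6) : sieg c w0 = w0 := by
  rw [w0, sieg_vmk, pl6_zero_left, zero_mul, zero_smul, add_zero, add_zero, add_zero]

theorem sieg_perp (c : W6) {v : Vec} (hv : yc v = 0) : pr (sieg c v) = pr v := by
  rw [sieg, pr_vmk, hv, zero_smul, add_zero]

theorem sieg_f0 (c : W6) : pr (sieg c f0) = c := by
  rw [f0, sieg_vmk, pr_vmk, one_smul, zero_add]

theorem sieg_f0_diff (c : W6) : sieg c f0 + f0 = vmk (q6 c) 0 c := by
  rw [f0, sieg_vmk, vmk_add, pl6_zero_left]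
  refine vmk_congr ?_ (by decide) ?_
  · ring
  · rw [one_smul, zero_add, add_zero]

/-- The difference of a transformation from the identity. -/
theorem sieg_diff (c : W6) (v : Vec) :
    sieg c v + v = vmk (pl6 (pr v) c + yc v * q6 c) 0 (yc v • c) := by
  conv_lhs => rw [← vmk_eta v, sieg_vmk, vmk_add]
  refine vmk_congr ?_ (CharTwo.add_self_eq_zero _) ?_
  · linear_combination xc v * CharTwo.two_eq_zero (R := ZMod 2)
  · rw [add_comm, ← add_assoc, w6_add_self, zero_add]

theorem act_smul (g : Iso8) (a : ZMod 2) (x : Vec) : act g (a • x) = a • act g x := mulVec_smul _ _ _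

theorem yc_act {g : Iso8} (hw : act g w0 = w0) (v : Vec) : yc (act g v) = yc v := by
  rw [← pl_w0, ← pl_w0]
  conv_lhs => rw [← hw]
  exact pol_act g v w0

theorem qf_sieg (c : W6) (v : Vec) : qf (sieg c v) = qf v := by
  rw [← vmk_eta v, sieg_vmk, qf_vmk, qf_vmk, q6_add, pl6_smul_right, show q6 (yc v • c) = yc v ^ 2 * q6 c from
    qsmul q6_nd _ _]
  linear_combination (yc v * pl6 (pr v) c + yc v ^ 2 * q6 c) * CharTwo.two_eq_zero (R := ZMod 2)

/-- An isometry from a linear map preserving the form. -/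
theorem exists_iso (f : Vec →ₗ[ZMod 2] Vec) (hf : ∀ x, qf (f x) = qf x) : ∃ g : Iso8, ∀ x, act g x = f x := by
  have hinj : Function.Injective f := by
    intro a b e
    by_contra hne
    have hd : a + b ≠ 0 := fun h => hne (add_eq_zero8.1 h)
    obtain ⟨y, hy⟩ := exists_pl_one hd
    have h0 : f (a + b) = 0 := by rw [map_add, e, vec_add_self]
    have h1 : pl (f (a + b)) (f y) = pl (a + b) y := by
      simp only [QuadraticMap.polar, ← map_add f, hf]
    rw [h0, hy] at h1
    exact zero_ne_one ((pzero_left qf_nd _).symm.trans h1)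
  have hu : IsUnit (LinearMap.toMatrix' f) := by
    rw [← Matrix.mulVec_injective_iff_isUnit]
    intro a b e
    simp only [LinearMap.toMatrix'_mulVec] at e
    exact hinj e
  refine ⟨⟨hu.unit, mem_iso.2 fun x => ?_⟩, fun x => ?_⟩
  · rw [IsUnit.unit_spec, LinearMap.toMatrix'_mulVec, hf]
  · show (hu.unit : Matrix Fi22Eight.Ix Fi22Eight.Ix (ZMod 2)) *ᵥ x = _
    rw [IsUnit.unit_spec, LinearMap.toMatrix'_mulVec]

theorem mem_om_of_cube {g : Iso8} (hg : g * g * g = 1) : g ∈ Om := by
  have h2 : g * g ∈ Om := Subgroup.mul_self_mem_of_index_two om_index g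
  have : g = (g * g)⁻¹ := (inv_eq_of_mul_eq_one_right hg).symm
  rw [this]
  exact inv_mem h2

/-- The transformation at a singular vector. -/
def tvec (u a x : Vec) : Vec := x + pl x u • a + pl x a • u + (qf a * pl x u) • u

/-- The transformations lie in the simple group. -/
theorem exists_tvec {u a : Vec} (hu : qf u = 0) (hua : pl u a = 0) : ∃ g ∈ Om, ∀ x, act g x = tvec u a x := by
  obtain ⟨g, hg, hgE⟩ := ein_eGroup qf_nd hu hua
  refine ⟨⟨g, eGroup_le_iso hg⟩, om_mem_of_omegaGL (eGroup_le_omega qf_nd five_le hg), fun x => ?_⟩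
  show (g : Matrix Fi22Eight.Ix Fi22Eight.Ix (ZMod 2)) *ᵥ x = _
  rw [hgE x, sub_eq_add_neg, sub_eq_add_neg, ← neg_smul, ← neg_smul, CharTwo.neg_eq, CharTwo.neg_eq]
  rfl

theorem tvec_w0 (c : W6) (x : Vec) : tvec w0 (inW c) x = sieg c x := by
  rw [tvec, pl_w0, pl_inW, qf_inW]
  conv_lhs => rw [← vmk_eta x]
  rw [yc_vmk, pr_vmk, sieg]
  rcases two_cases (yc x) with e | e <;> rw [e] <;>
    rcases two_cases (pl6 (pr x) c) with e' | e' <;> rw [e'] <;>
    rcases two_cases (q6 c) with e'' | e'' <;> rw [e''] <;>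
    simp [inW, w0, vmk_add]

theorem exists_S (c : W6) : ∃ g ∈ Om, ∀ x, act g x = sieg c x := by
  obtain ⟨g, hg, h⟩ := exists_tvec qf_w0 (a := inW c) (by rw [pl_comm, pl_w0]; rfl)
  exact ⟨g, hg, fun x => by rw [h, tvec_w0]⟩

/-- The transformation of the six-space at a singular vector. -/
def sig (l d u : W6) : W6 := u + pl6 u l • d + pl6 u d • l + (q6 d * pl6 u l) • l

theorem exists_sig {l d : W6} (hl : q6 l = 0) (hld : pl6 l d = 0) :
    ∃ g ∈ Om, ∀ x, act g x = vmk (xc x) (yc x) (sig l d (pr x)) := by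
  obtain ⟨g, hg, h⟩ := exists_tvec (u := inW l) (a := inW d) (by rw [qf_inW, hl]) (by rw [pl_inW_inW, hld])
  refine ⟨g, hg, fun x => ?_⟩
  rw [h, tvec, pl_inW, pl_inW, qf_inW, sig]
  conv_lhs => rw [← vmk_eta x]
  rw [pr_vmk]
  rcases two_cases (pl6 (pr x) l) with e | e <;> rw [e] <;>
    rcases two_cases (pl6 (pr x) d) with e' | e' <;> rw [e'] <;>
    rcases two_cases (q6 d) with e'' | e'' <;> rw [e''] <;>
    simp [inW, vmk_add]

/-- An isometry fixing the reference vector and acting trivially on the quotient of its perp. -/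
theorem eq_sieg {g : Iso8} (hw : act g w0 = w0) (hg : ∀ v, yc v = 0 → pr (act g v) = pr v) :
    ∀ v, act g v = sieg (pr (act g f0)) v := by
  set c := pr (act g f0) with hc
  have hf : act g f0 = sieg c f0 := by
    have h := qf_act g f0
    rw [← vmk_eta (act g f0), yc_act hw, qf_vmk, qf_f0, yc_f0, ← hc, mul_one, CharTwo.add_eq_zero] at h
    conv_lhs => rw [← vmk_eta (act g f0), yc_act hw, yc_f0, ← hc, h]
    rw [f0, sieg_vmk, pl6_zero_left]
    refine vmk_congr ?_ rfl ?_
    · ring
    · rw [one_smul, zero_add]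
  have hW : ∀ u, act g (inW u) = sieg c (inW u) := by
    intro u
    have hy : yc (act g (inW u)) = 0 := (yc_act hw _).trans (yc_vmk _ _ _)
    have hp : pr (act g (inW u)) = u := (hg _ (yc_vmk _ _ _)).trans (pr_vmk _ _ _)
    have h := pol_act g (inW u) f0
    change pl (act g (inW u)) (act g f0) = pl (inW u) f0 at h
    rw [pl_f0, inW, xc_vmk, hf] at h
    rw [pl_eq, ← inW, hy, hp, f0, sieg_vmk, xc_vmk, yc_vmk, pr_vmk, one_smul, zero_add, zero_mul, add_zero, mul_one,
      CharTwo.add_eq_zero] at h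
    conv_lhs => rw [← vmk_eta (act g (inW u)), hy, hp, h]
    rw [inW, sieg_vmk]
    refine vmk_congr ?_ rfl ?_
    · ring
    · rw [zero_smul, add_zero]
  intro v
  conv_lhs => rw [decomp v, act_add, act_add, act_smul, act_smul, hW, hw, hf]
  conv_rhs => rw [← vmk_eta v]
  rw [inW, f0, w0, sieg_vmk, sieg_vmk, sieg_vmk, pl6_zero_left]
  rcases two_cases (xc v) with e | e <;> rcases two_cases (yc v) with e' | e' <;>
    simp [e, e', vmk_add] <;> exact vmk_congr (by ring) rfl rfl

end

end CfsgLib.Spor.CoOneClasses
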