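import Cfsg.Agent.Lib.Spor.CoOneClasses.Orbits
import Mathlib.GroupTheory.Nilpotent

/-!
# The two reference products are not conjugate
-/

set_option autoImplicit false
set_option synthInstance.maxSize 4096

namespace CfsgLib.Spor.CoOneClasses

open Subgroup
open CfsgLib.Spor.CoOneType (Vec qf Iso8 Om Setup mem_cz conj_eq_iff_comm act act_one act_mul act_add act_zero
  act_injective qf_act pol_act iso_ext two_cases qf_nd move_singular vec_add_self)

noncomputable section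

theorem kperp_count : 16 < Fintype.card {w : Vec // KPerp aE cE w} := by decide +kernel

theorem comb_yc : ∀ p, yc (comb aE cE p) = 0 := by decide +kernel

theorem comb_commute : ∀ p, pl6 (pr (comb aE cE p)) aE = 0 → pl6 (pr (comb aE cE p)) cE = 0 →
    comb aE cE p = 0 ∨ comb aE cE p = w0 := by decide +kernel

theorem comb_singular : ∀ p, qf (comb aE cE p) = 0 → comb aE cE p = 0 ∨ comb aE cE p = w0 := by decide +kernel

theorem AnisPair.shift {a c : W6} (h : AnisPair a c) : AnisPair (a + c) c := by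
  obtain ⟨h1, h2, h3⟩ := h
  refine ⟨?_, h2, ?_⟩
  · rw [q6_add, h1, h2, h3]; decide
  · rw [pl6_add_left, h3, pl6_self, add_zero]

variable {G : Type*} [Group G] [Finite G] {z : G} {Q : Subgroup G} {v : G → Vec} {ρ : G → Iso8}

namespace Pt

variable {g : G} (F : Pt z Q v ρ g)
include F

/-- The possible conjugates of the central involution centralizing the data of the reference product. -/
theorem cent_ref {y u : G} (hy : F.Form aE cE y) (hu : u ∈ centralizer ({z} : Set G)) (huy : u * y = y * u)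
    (hQ : ∀ q ∈ Q, q * y = y * q → u * q = q * u) (hz : IsConj z u) : u = z ∨ u = F.pt ∨ u = F.pt * z := by
  classical
  obtain ⟨k, hk⟩ := isConj_iff.1 hz
  have S := F.setup
  have hu2 : u * u = 1 := by
    rw [← hk, show k * z * k⁻¹ * (k * z * k⁻¹) = k * (z * z) * k⁻¹ by group, S.zz]; group
  have hu1 : u ≠ 1 := fun e => S.z_ne (by
    calc z = k⁻¹ * (k * z * k⁻¹) * k := by group
      _ = 1 := by rw [hk, e]; group)
  have hK : ∀ w, KPerp aE cE w → ∃ q ∈ Q, v q = w ∧ u * q = q * u := by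
    intro w hw
    obtain ⟨q, hq, rfl⟩ := S.v_surj w
    exact ⟨q, hq, rfl, hQ q hq (F.form_comm hy (F.mem_R.2 ⟨hq, hw.1⟩) hw.2.1 hw.2.2)⟩
  by_cases huQ : u ∈ Q
  · obtain ⟨p, hp⟩ := bound_anis.1 (v u) fun w hw => by
      obtain ⟨q, hq, rfl, e⟩ := hK w hw
      exact (S.v_comm u huQ q hq).2 e
    have huR : u ∈ F.R := F.mem_R.2 ⟨huQ, by rw [hp]; exact comb_yc p⟩
    obtain ⟨h1, h2⟩ := F.form_comm_iff hy huR huy
    rw [hp] at h1 h2
    rcases comb_commute p h1 h2 with e | e <;> rw [e] at hp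
    · rcases (S.v_ker u huQ).1 hp with e' | e'
      · exact absurd e' hu1
      · exact Or.inl e'
    · rcases (S.v_eq huQ F.mem).1 (hp.trans F.val.symm) with e' | e'
      · exact Or.inr (Or.inl e')
      · exact Or.inr (Or.inr e')
  exfalso
  have hfix : ∀ w, KPerp aE cE w → act (ρ u) w = w := by
    intro w hw
    obtain ⟨q, hq, rfl, e⟩ := hK w hw
    rw [← S.ρ_act u hu q hq, conj_eq_iff_comm.2 e]
  have hρ2 : ρ u * ρ u = 1 := by rw [← S.ρ_mul _ hu _ hu, hu2, S.ρ_one]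
  have hcount : 16 < Nat.card {x : Vec // act (ρ u) x = x} := by
    refine lt_of_lt_of_le (kperp_count.trans_eq Nat.card_eq_fintype_card.symm) ?_
    exact Nat.card_le_card_of_injective (fun w : {w : Vec // KPerp aE cE w} => (⟨w.1, hfix _ w.2⟩ :
      {x : Vec // act (ρ u) x = x})) fun a b e => Subtype.ext (congrArg (fun x => x.1) e)
  obtain ⟨h, hh, c', hc'⟩ := F.sieg_of_fixed (S.ρ_mem u hu) hρ2 hcount
  obtain ⟨m, hm, rfl⟩ := S.ρ_surj h hh
  have hx : m * u * m⁻¹ ∈ centralizer ({z} : Set G) := mul_mem (mul_mem hm hu) (inv_mem hm)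
  have hρ : ∀ w, act (ρ (m * u * m⁻¹)) w = sieg c' w := fun w => by
    rw [S.ρ_mul _ (mul_mem hm hu) _ (inv_mem hm), S.ρ_mul m hm u hu, S.ρ_inv hm, hc']
  have hc0 : c' ≠ 0 := by
    intro e
    have h1 : m * u * m⁻¹ ∈ Q := (S.ρ_ker _ hx).1 (iso_ext fun w => by rw [hρ, e, sieg_zero, act_one])
    exact huQ (by simpa [mul_assoc] using S.norm (inv_mem hm) h1)
  rcases two_cases (q6 c') with hq | hq
  · refine huQ ((S.ρ_ker u hu).1 (iso_ext fun w => ?_))
    have hsing : ∀ w, qf (act (ρ u) w + w) = 0 := by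
      intro w
      have e : act (ρ u) w + w = act (ρ m)⁻¹ (sieg c' (act (ρ m) w) + act (ρ m) w) := by
        rw [← hc', act_add, ← act_mul (ρ m)⁻¹ (ρ m * ρ u * (ρ m)⁻¹),
          show (ρ m)⁻¹ * (ρ m * ρ u * (ρ m)⁻¹) = ρ u * (ρ m)⁻¹ by group, act_mul, ← act_mul (ρ m)⁻¹ (ρ m),
          inv_mul_cancel, act_one]
      rw [e, qf_act, sieg_diff, qf_vmk, show q6 (yc (act (ρ m) w) • c') = yc (act (ρ m) w) ^ 2 * q6 c' from
        CfsgLib.Perm.Trans.Quad.qsmul q6_nd _ _, hq]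
      ring
    have hcomb : ∀ w, act (ρ u) w + w = 0 ∨ act (ρ u) w + w = w0 := by
      intro w
      obtain ⟨p, hp⟩ := bound_anis.1 (act (ρ u) w + w) fun k hk => by
        have h : pl (act (ρ u) w) (act (ρ u) k) = pl w k := pol_act _ w k
        rw [hfix k hk] at h
        rw [pl_add_left, h, CharTwo.add_self_eq_zero]
      rw [hp]
      exact comb_singular p (hp ▸ hsing w)
    have hone : ∀ w, yc w = 1 → act (ρ u) w = w := by
      intro w hw
      rcases hcomb w with e | e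
      · exact add_eq_zero8.1 e
      · exfalso
        have e' : act (ρ u) w = w + w0 := by rw [← e, add_comm _ w, ← add_assoc, vec_add_self, zero_add]
        have h := qf_act (ρ u) w
        rw [e', qf_add, qf_w0, add_zero, pl_w0, hw, add_eq_left] at h
        exact one_ne_zero h
    rw [act_one]
    rcases two_cases (yc w) with e | e
    · have h1 := hone (w + f0) (by rw [yc_add, e, yc_f0, zero_add])
      rw [act_add, hone f0 yc_f0] at h1
      exact add_right_cancel h1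
    · exact hone w e
  · obtain ⟨y₀, hy₀⟩ := exists_pl6_one hc0
    have hx2 : m * u * m⁻¹ * (m * u * m⁻¹) = 1 := by
      rw [show m * u * m⁻¹ * (m * u * m⁻¹) = m * (u * u) * m⁻¹ by group, hu2]; group
    have hxi := F.comm_pt hx hx2 (w := inW y₀) (by
      rw [hρ, sieg_diff, inW, pr_vmk, yc_vmk, pl6_comm, hy₀, zero_mul, zero_smul, add_zero]; rfl)
    obtain ⟨a, ha⟩ := F.form_of_sieg hx hxi hρ
    obtain ⟨h1, h2⟩ := (F.form_invol ha).1 hx2
    rw [hq] at h2
    exact F.anis_not_z ha ⟨h1.trans h2.symm, hq, h2.symm⟩ (hz.trans (isConj_iff.2 ⟨m, rfl⟩))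

/-- The same for all anisotropic products. -/
theorem cent_anis {a c : W6} {x u : G} (hx : F.Form a c x) (ha : AnisPair a c)
    (hu : u ∈ centralizer ({z} : Set G)) (hux : u * x = x * u)
    (hQ : ∀ q ∈ Q, q * x = x * q → u * q = q * u) (hz : IsConj z u) : u = z ∨ u = F.pt ∨ u = F.pt * z := by
  obtain ⟨y, hy⟩ := F.exists_form aE cE
  obtain ⟨h, hh, hh', e⟩ := F.form_anis hx ha hy
  have hzc : h * z * h⁻¹ = z := conj_eq_iff_comm.2 (mem_cz.1 hh)
  have hpc : h * F.pt * h⁻¹ = F.pt := conj_eq_iff_comm.2 (mem_cz.1 hh')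
  have hinj : Function.Injective fun b : G => h * b * h⁻¹ := fun b b' e' =>
    mul_left_cancel (mul_right_cancel e')
  rcases F.cent_ref hy (u := h * u * h⁻¹) (mul_mem (mul_mem hh hu) (inv_mem hh))
    (by
      rw [← e, show h * u * h⁻¹ * (h * x * h⁻¹) = h * (u * x) * h⁻¹ by group, hux]; group)
    (fun q hq hqy => by
      have hq' : h⁻¹ * q * h ∈ Q := by simpa using F.setup.norm (inv_mem hh) hq
      have h1 := hQ _ hq' (by
        rw [show x = h⁻¹ * y * h by rw [← e]; group,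
          show h⁻¹ * q * h * (h⁻¹ * y * h) = h⁻¹ * (q * y) * h by group, hqy]
        group)
      calc h * u * h⁻¹ * q = h * (u * (h⁻¹ * q * h)) * h⁻¹ := by group
        _ = h * (h⁻¹ * q * h * u) * h⁻¹ := by rw [h1]
        _ = _ := by group)
    (hz.trans (isConj_iff.2 ⟨h, rfl⟩)) with h1 | h1 | h1
  · exact Or.inl (hinj (h1.trans hzc.symm))
  · exact Or.inr (Or.inl (hinj (h1.trans hpc.symm)))
  · refine Or.inr (Or.inr (hinj (h1.trans ?_)))
    show _ = h * (F.pt * z) * h⁻¹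
    rw [show h * (F.pt * z) * h⁻¹ = (h * F.pt * h⁻¹) * (h * z * h⁻¹) by group, hpc, hzc]

/-- Exchanging the roles of the two involutions. -/
theorem exchange {a c : W6} {x : G} (hx : F.Form a c x) (ha : AnisPair a c) :
    ∃ m : G, m * F.pt * m⁻¹ = z ∧
      ∃ (k : G) (F' : Pt z Q v ρ k) (a' c' : W6), AnisPair a' c' ∧ F'.Form a' c' (m * x * m⁻¹) := by
  have S := F.setup
  have hz' : g⁻¹ * z * g ∈ Q := mem_map_conj.1 F.z_mem
  have hz'ne : g⁻¹ * z * g ≠ z := fun e => F.pt_ne (by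
    calc F.pt = g * (g⁻¹ * z * g) * g⁻¹ := by rw [e]
      _ = z := by group)
  have hz'1 : g⁻¹ * z * g ≠ 1 := fun e => S.z_ne (by
    calc z = g * (g⁻¹ * z * g) * g⁻¹ := by group
      _ = 1 := by rw [e]; group)
  obtain ⟨h, hh, hhw⟩ := move_singular (S.v_ne hz' hz'1 hz'ne) w0_ne ((S.v_sq _ hz').2 (by
    rw [show g⁻¹ * z * g * (g⁻¹ * z * g) = g⁻¹ * (z * z) * g by group, S.zz]; group)) qf_w0
  obtain ⟨c₀, hc₀, rfl⟩ := S.ρ_surj h hh
  set m := c₀ * g⁻¹ with hm
  have hk : m * z * m⁻¹ = c₀ * (g⁻¹ * z * g) * c₀⁻¹ := by rw [hm]; group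
  have F' : Pt z Q v ρ m := ⟨S, by rw [hk]; exact S.norm hc₀ hz', by rw [hk, S.ρ_act c₀ hc₀ _ hz', hhw]⟩
  have hpt : m * F.pt * m⁻¹ = z := by
    rw [hm, show c₀ * g⁻¹ * F.pt * (c₀ * g⁻¹)⁻¹ = c₀ * z * c₀⁻¹ by group]
    exact conj_eq_iff_comm.2 (mem_cz.1 hc₀)
  obtain ⟨q, hq, r, hr, hqa, hrc, hxe⟩ := hx
  have hcent : ∀ {b : G}, b * F.pt = F.pt * b → m * b * m⁻¹ ∈ centralizer ({z} : Set G) := fun {b} hb =>
    mem_cz.2 (by
      rw [← hpt, show m * b * m⁻¹ * (m * F.pt * m⁻¹) = m * (b * F.pt) * m⁻¹ by group, hb]; group)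
  have hcent' : ∀ {b : G}, b * z = z * b → m * b * m⁻¹ ∈ centralizer ({F'.pt} : Set G) := fun {b} hb =>
    mem_cz.2 (by
      show m * b * m⁻¹ * (m * z * m⁻¹) = m * z * m⁻¹ * (m * b * m⁻¹)
      rw [show m * b * m⁻¹ * (m * z * m⁻¹) = m * (b * z) * m⁻¹ by group, hb]; group)
  have hr'' : m * q * m⁻¹ ∈ F'.R' := ⟨⟨q, hq.1, rfl⟩, hcent (mem_cz.1 hq.2)⟩
  have hq'' : m * r * m⁻¹ ∈ F'.R := by
    refine ⟨?_, hcent' (mem_cz.1 hr.2)⟩
    rw [hm, show c₀ * g⁻¹ * r * (c₀ * g⁻¹)⁻¹ = c₀ * (g⁻¹ * r * g) * c₀⁻¹ by group]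
    exact S.norm hc₀ (mem_map_conj.1 hr.1)
  have hzi : ∀ s t : ZMod 2, m * F.zi s t * m⁻¹ = F'.zi t s := by
    intro s t
    rcases two_cases s with rfl | rfl <;> rcases two_cases t with rfl | rfl
    · rw [F.zi_zero, F'.zi_zero]; group
    · rw [F.zi_pt, F'.zi_z, hpt]
    · rw [F.zi_z, F'.zi_pt]
    · rw [show F.zi 1 1 = F.zi 1 0 * F.zi 0 1 by rw [F.zi_add]; rfl,
        show F'.zi 1 1 = F'.zi 0 1 * F'.zi 1 0 by rw [F'.zi_add]; rfl, F.zi_z, F.zi_pt, F'.zi_z, F'.zi_pt,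
        show m * (z * F.pt) * m⁻¹ = (m * z * m⁻¹) * (m * F.pt * m⁻¹) by group, hpt]
  have hqa' : q6 (pr (v (m * r * m⁻¹))) = 1 := by
    have h1 := F'.sq_R hq''
    rw [show m * r * m⁻¹ * (m * r * m⁻¹) = m * (r * r) * m⁻¹ by group, F.square_rule hr, hzi, hrc, ha.2.1] at h1
    exact (F'.zi_inj h1).1.symm
  have hqc' : q6 (F'.phi (m * q * m⁻¹)) = 1 := by
    have h1 := F'.square_rule hr''
    rw [show m * q * m⁻¹ * (m * q * m⁻¹) = m * (q * q) * m⁻¹ by group, F.sq_R hq, hzi, hqa, ha.1] at h1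
    exact (F'.zi_inj h1).2.symm
  set p := pl6 (pr (v (m * r * m⁻¹))) (F'.phi (m * q * m⁻¹)) with hp
  have hform : F'.Form (pr (v (m * r * m⁻¹))) (F'.phi (m * q * m⁻¹)) (m * x * m⁻¹) := by
    refine ⟨F'.zi p p * (m * r * m⁻¹), mul_mem (F'.zi_R p p) hq'', m * q * m⁻¹, hr'', ?_, rfl, ?_⟩
    · rw [F'.pr_mul (F'.zi_R p p).1 hq''.1, F'.pr_v_zi, zero_add]
    · calc m * x * m⁻¹ = m * q * m⁻¹ * (m * r * m⁻¹) := by rw [hxe]; group
        _ = F'.zi p p * (m * r * m⁻¹ * (m * q * m⁻¹)) := F'.swap_rule hq'' hr''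
        _ = _ := by group
  refine ⟨m, hpt, m, F', _, _, ⟨hqa', hqc', ?_⟩, hform⟩
  have h2 := (F'.form_invol hform).1 (by
    rw [show m * x * m⁻¹ * (m * x * m⁻¹) = m * (x * x) * m⁻¹ by group,
      F.anis_invol ⟨q, hq, r, hr, hqa, hrc, hxe⟩ ha]
    group)
  exact h2.1.symm.trans hqa'

end Pt

theorem isPGroup_conj {H : Subgroup G} (h : IsPGroup 2 H) (m : G) :
    IsPGroup 2 (H.map (MulAut.conj m).toMonoidHom : Subgroup G) := h.map _

theorem card_conj (H : Subgroup G) (m : G) :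
    Nat.card (H.map (MulAut.conj m).toMonoidHom : Subgroup G) = Nat.card H :=
  card_map_of_injective (show Function.Injective (MulAut.conj m).toMonoidHom from (MulAut.conj m).injective)

/-- An anisotropic product conjugate to the given element, with a large centralizing 2-group. -/
def Grown (z : G) (Q : Subgroup G) (v : G → Vec) (ρ : G → Iso8) (E : G) (n : ℕ) : Prop :=
  ∃ (k : G) (F : Pt z Q v ρ k) (a c : W6) (x : G) (T : Subgroup G), AnisPair a c ∧ F.Form a c x ∧ IsConj x E ∧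
    IsPGroup 2 T ∧ T ≤ centralizer ({z} : Set G) ⊓ centralizer ({x} : Set G) ∧ 2 ^ n ≤ Nat.card T

/-- A two-subgroup below a larger one of the same group has a larger normalizer in it. -/
theorem exists_normalizer_growth {T S : Subgroup G} (hS : IsPGroup 2 S) (hle : T ≤ S) (hne : T ≠ S) :
    ∃ N : Subgroup G, T ≤ N ∧ N ≤ S ∧ N ≤ normalizer (T : Set G) ∧ 2 * Nat.card T ≤ Nat.card N := by
  haveI : Fact (Nat.Prime 2) := ⟨Nat.prime_two⟩
  haveI : Group.IsNilpotent S := hS.isNilpotent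
  have hlt : T.subgroupOf S < ⊤ := lt_top_iff_ne_top.2 fun e => hne (le_antisymm hle (by
    rwa [subgroupOf_eq_top] at e))
  have h := Group.normalizerCondition_of_isNilpotent (T.subgroupOf S) hlt
  set N := (normalizer ((T.subgroupOf S : Subgroup S) : Set S)).map S.subtype with hN
  have hTN : T ≤ N := fun t ht => ⟨⟨t, hle ht⟩, h.le ht, rfl⟩
  refine ⟨N, hTN, map_subtype_le _, ?_, ?_⟩
  · rintro _ ⟨n, hn, rfl⟩
    rw [SetLike.mem_coe, mem_normalizer_iff] at hn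
    rw [mem_normalizer_iff]
    intro t
    constructor
    · intro ht
      exact (hn ⟨t, hle ht⟩).1 ht
    · intro ht
      have hts : t ∈ S := by
        have h' := hle ht
        have := mul_mem (mul_mem (inv_mem n.2) h') n.2
        simpa [mul_assoc] using this
      exact (hn ⟨t, hts⟩).2 ht
  · obtain ⟨b, hb⟩ := (hS.to_le (map_subtype_le _ : N ≤ S)).exists_card_eq
    obtain ⟨a, ha⟩ := (hS.to_le hle).exists_card_eq
    have hlt' : Nat.card T < Nat.card N := by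
      refine lt_of_le_of_ne (card_le_of_le hTN) fun e => ?_
      obtain ⟨n, hn, hn'⟩ := SetLike.exists_of_lt h
      have e' : T = N := eq_of_le_of_card_ge hTN e.ge
      exact hn' (show (n : G) ∈ T by rw [e']; exact ⟨n, hn, rfl⟩)
    rw [ha, hb] at hlt' ⊢
    rw [← pow_succ']
    exact Nat.pow_le_pow_right (by norm_num) ((Nat.pow_lt_pow_iff_right (by norm_num)).1 hlt')

/-- A two-group in a subgroup is below one at least as large as any other. -/
theorem exists_large_above {T B H : Subgroup G} (hT : IsPGroup 2 T) (hTH : T ≤ H) (hB : IsPGroup 2 B) (hBH : B ≤ H) :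
    ∃ S : Subgroup G, T ≤ S ∧ S ≤ H ∧ IsPGroup 2 S ∧ Nat.card B ≤ Nat.card S := by
  haveI : Fact (Nat.Prime 2) := ⟨Nat.prime_two⟩
  obtain ⟨P, hP⟩ := (hT.of_equiv (subgroupOfEquivOfLe hTH).symm).exists_le_sylow
  obtain ⟨P', hP'⟩ := (hB.of_equiv (subgroupOfEquivOfLe hBH).symm).exists_le_sylow
  refine ⟨(P : Subgroup H).map H.subtype, fun t ht => ⟨⟨t, hTH ht⟩, hP ht, rfl⟩, map_subtype_le _,
    P.isPGroup'.map _, ?_⟩
  have h1 : Nat.card B ≤ Nat.card (P' : Subgroup H) := by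
    rw [← Nat.card_congr (subgroupOfEquivOfLe hBH).toEquiv]; exact card_le_of_le hP'
  have h2 : Nat.card (P' : Subgroup H) = Nat.card (P : Subgroup H) := by
    rw [P.card_eq_multiplicity, P'.card_eq_multiplicity]
  rwa [h2, ← card_map_of_injective (f := H.subtype) H.subtype_injective] at h1

/-- The growth step. -/
theorem grown_succ {E : G} {B : Subgroup G} (hB : IsPGroup 2 B) (hBE : B ≤ centralizer ({E} : Set G))
    (hBc : 131072 ≤ Nat.card B) {n : ℕ} (h : Grown z Q v ρ E n) : Grown z Q v ρ E (n + 1) := by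
  classical
  haveI : Fact (Nat.Prime 2) := ⟨Nat.prime_two⟩
  obtain ⟨g, F, a, c, x, T, ha, hx, hxE, hT, hTD, hTn⟩ := h
  have S := F.setup
  set D := centralizer ({z} : Set G) ⊓ centralizer ({x} : Set G) with hD
  obtain ⟨T₁, hTT₁, hmax⟩ := Finite.exists_le_maximal (p := fun U : Subgroup G => IsPGroup 2 U ∧ U ≤ D) ⟨hT, hTD⟩
  obtain ⟨hT₁, hT₁D⟩ := hmax.prop
  have hmax' : ∀ U : Subgroup G, IsPGroup 2 U → U ≤ D → T₁ ≤ U → U = T₁ := fun U h1 h2 h3 =>
    hmax.eq_of_ge ⟨h1, h2⟩ h3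
  have hQ₀T : Q ⊓ centralizer ({x} : Set G) ≤ T₁ := by
    have hQ2 : IsPGroup 2 Q := IsPGroup.of_card (n := 9) (by rw [S.card]; rfl)
    have hle : T₁ ≤ normalizer ((Q ⊓ centralizer ({x} : Set G) : Subgroup G) : Set G) := by
      intro t ht
      obtain ⟨h1, h2⟩ := hT₁D ht
      rw [mem_normalizer_iff]
      intro q
      constructor
      · rintro ⟨hq, hq'⟩
        exact ⟨S.norm h1 hq, Subgroup.mul_mem _ (Subgroup.mul_mem _ h2 hq') (Subgroup.inv_mem _ h2)⟩
      · rintro ⟨hq, hq'⟩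
        refine ⟨by simpa [mul_assoc] using S.norm (inv_mem h1) hq, ?_⟩
        have := Subgroup.mul_mem _ (Subgroup.mul_mem _ (Subgroup.inv_mem _ h2) hq') h2
        simpa [mul_assoc] using this
    have hsup := IsPGroup.to_sup_of_normal_right' hT₁ (hQ2.to_le inf_le_left) hle
    have e := hmax' _ hsup (sup_le hT₁D (le_inf (inf_le_left.trans fun q hq => S.le hq) inf_le_right)) le_sup_left
    exact e ▸ le_sup_right
  obtain ⟨w, hw⟩ := isConj_iff.1 hxE.symm
  obtain ⟨S₂, hTS, hS₂x, hS₂, hS₂c⟩ := exists_large_above hT₁ (hT₁D.trans inf_le_right)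
    (isPGroup_conj hB w) (show B.map (MulAut.conj w).toMonoidHom ≤ centralizer ({x} : Set G) by
      rintro _ ⟨b, hb, rfl⟩
      refine mem_cz.2 ?_
      show w * b * w⁻¹ * x = x * (w * b * w⁻¹)
      rw [← hw, show w * b * w⁻¹ * (w * E * w⁻¹) = w * (b * E) * w⁻¹ by group, mem_cz.1 (hBE hb)]
      group)
  rw [card_conj] at hS₂c
  have hT₁ne : T₁ ≠ S₂ := fun e => by
    have h1 := F.anis_cent_bound hx ha hT₁ hT₁D
    rw [e] at h1
    omega
  obtain ⟨N, hTN, hNS, hNn, hNc⟩ := exists_normalizer_growth hS₂ hTS hT₁ne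
  have hNx : N ≤ centralizer ({x} : Set G) := hNS.trans hS₂x
  have hzx : z * x = x * z := (mem_cz.1 (F.form_cz hx)).symm
  have hzT : z ∈ T₁ := hQ₀T ⟨S.core.mem, mem_cz.2 hzx⟩
  have himg : ∀ m ∈ N, m * z * m⁻¹ = z ∨ m * z * m⁻¹ = F.pt ∨ m * z * m⁻¹ = F.pt * z := by
    intro m hm
    have hmT := (mem_normalizer_iff.1 (hNn hm) z).1 hzT
    have hcomm : ∀ t ∈ T₁, m * z * m⁻¹ * t = t * (m * z * m⁻¹) := by
      intro t ht
      have ht' : m⁻¹ * t * m ∈ T₁ := by
        refine (mem_normalizer_iff.1 (hNn hm) _).2 ?_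
        rwa [show m * (m⁻¹ * t * m) * m⁻¹ = t by group]
      calc m * z * m⁻¹ * t = m * (z * (m⁻¹ * t * m)) * m⁻¹ := by group
        _ = m * ((m⁻¹ * t * m) * z) * m⁻¹ := by rw [mem_cz.1 (hT₁D ht').1]
        _ = _ := by group
    exact F.cent_anis hx ha (hT₁D hmT).1 (mem_cz.1 (hT₁D hmT).2)
      (fun q hq hqx => hcomm q (hQ₀T ⟨hq, mem_cz.2 hqx⟩)) (isConj_iff.2 ⟨m, rfl⟩)
  obtain ⟨m₀, hm₀, hne₀⟩ : ∃ m ∈ N, m * z * m⁻¹ ≠ z := by
    by_contra hcon
    push Not at hcon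
    have e := hmax' N (hS₂.to_le hNS) (fun m hm => ⟨mem_cz.2 (conj_eq_iff_comm.1 (hcon m hm)), hNx hm⟩) hTN
    rw [e] at hNc
    have : 0 < Nat.card T₁ := Nat.card_pos
    omega
  set i := m₀ * z * m₀⁻¹ with hi
  have hpz_ne : F.pt * z ≠ F.pt ∧ F.pt * z ≠ z :=
    ⟨fun e => S.z_ne (mul_eq_left.1 e), fun e => F.pt_ne_one (mul_eq_right.1 e)⟩
  have horb : ∀ m ∈ N, m * z * m⁻¹ = z ∨ m * z * m⁻¹ = i := by
    intro m hm
    by_contra hcon
    push Not at hcon
    let O := {y : G // ∃ d ∈ N, d * z * d⁻¹ = y}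
    let f : O → Fin 3 := fun y => if y.1 = z then 0 else if y.1 = F.pt then 1 else 2
    have hf : Function.Bijective f := by
      constructor
      · rintro ⟨_, d, hd, rfl⟩ ⟨_, d', hd', rfl⟩ e
        apply Subtype.ext
        show d * z * d⁻¹ = d' * z * d'⁻¹
        rcases himg d hd with h1 | h1 | h1 <;> rcases himg d' hd' with h2 | h2 | h2 <;>
          first
          | exact h1.trans h2.symm
          | (simp [f, h1, h2, F.pt_ne, hpz_ne.1, hpz_ne.2] at e)
      · have hrest : (∃ d ∈ N, d * z * d⁻¹ = F.pt) ∧ (∃ d ∈ N, d * z * d⁻¹ = F.pt * z) := by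
          rcases (himg m₀ hm₀).resolve_left hne₀ with h1 | h1 <;>
            rcases (himg m hm).resolve_left hcon.1 with h2 | h2
          · exact absurd (h2.trans h1.symm) hcon.2
          · exact ⟨⟨m₀, hm₀, h1⟩, m, hm, h2⟩
          · exact ⟨⟨m, hm, h2⟩, m₀, hm₀, h1⟩
          · exact absurd (h2.trans h1.symm) hcon.2
        intro j
        fin_cases j
        · exact ⟨⟨z, 1, one_mem _, by group⟩, by simp [f]⟩
        · exact ⟨⟨F.pt, hrest.1⟩, by simp [f, F.pt_ne]⟩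
        · exact ⟨⟨F.pt * z, hrest.2⟩, by simp [f, hpz_ne.1, hpz_ne.2]⟩
    have hdiv := card_orbit_conj N z
    rw [Nat.card_eq_of_bijective f hf, Nat.card_fin] at hdiv
    obtain ⟨b, hb⟩ := (hS₂.to_le hNS).exists_card_eq
    rw [hb] at hdiv
    exact absurd (Nat.prime_three.dvd_of_dvd_pow ⟨_, hdiv.symm⟩) (by norm_num)
  have hiz : i * z = z * i := by
    rcases (himg m₀ hm₀).resolve_left hne₀ with e | e <;> rw [← hi] at e <;> rw [e]
    · exact F.pz
    · rw [← mul_assoc z, ← F.pz]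
  have hfix : ∀ m ∈ N, m * (i * z) * m⁻¹ = i * z := by
    intro m hm
    have e : m * i * m⁻¹ = m * m₀ * z * (m * m₀)⁻¹ := by rw [hi]; group
    have hzi' : m * z * m⁻¹ ≠ m * i * m⁻¹ := fun e' => hne₀ (mul_left_cancel (mul_right_cancel e')).symm
    rw [show m * (i * z) * m⁻¹ = (m * i * m⁻¹) * (m * z * m⁻¹) by group]
    rcases horb m hm with h1 | h1 <;> rcases horb (m * m₀) (mul_mem hm hm₀) with h2 | h2 <;>
      rw [← e] at h2 <;> rw [h1, h2] at hzi' ⊢
    · exact absurd rfl hzi'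
    · exact hiz.symm
    · exact absurd rfl hzi'
  have hcard : 2 ^ (n + 1) ≤ Nat.card N := by
    have := card_le_of_le hTT₁
    rw [pow_succ']
    omega
  have key : ∀ {a c : W6} {x : G} {N : Subgroup G}, F.Form a c x → AnisPair a c → IsConj x E → IsPGroup 2 N →
      N ≤ centralizer ({x} : Set G) → (∀ m ∈ N, m * F.pt * m⁻¹ = F.pt) → 2 ^ (n + 1) ≤ Nat.card N →
      Grown z Q v ρ E (n + 1) := by
    intro a c x N hx ha hxE hN hNx hNp hN'
    obtain ⟨m, hmz, k, F', a', c', ha', hx'⟩ := F.exchange hx ha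
    refine ⟨k, F', a', c', _, N.map (MulAut.conj m).toMonoidHom, ha', hx',
      (isConj_iff.2 ⟨m, rfl⟩ : IsConj x _).symm.trans hxE, isPGroup_conj hN m, ?_, by rwa [card_conj]⟩
    rintro _ ⟨b, hb, rfl⟩
    refine ⟨mem_cz.2 ?_, mem_cz.2 ?_⟩
    · show m * b * m⁻¹ * z = z * (m * b * m⁻¹)
      rw [← hmz, show m * b * m⁻¹ * (m * F.pt * m⁻¹) = m * (b * F.pt) * m⁻¹ by group,
        conj_eq_iff_comm.1 (hNp b hb)]
      group
    · show m * b * m⁻¹ * (m * x * m⁻¹) = m * x * m⁻¹ * (m * b * m⁻¹)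
      rw [show m * b * m⁻¹ * (m * x * m⁻¹) = m * (b * x) * m⁻¹ by group, mem_cz.1 (hNx hb)]
      group
  rcases (himg m₀ hm₀).resolve_left hne₀ with e | e <;> rw [← hi] at e <;> rw [e] at hfix
  · obtain ⟨s, hs, hvs⟩ := F.exists_partner_elt
    have hs' : s * (F.pt * z) * s⁻¹ = F.pt := by
      have h1 : s * F.pt * s⁻¹ = F.pt * z := by
        rcases S.conj_or F.mem hs with h | h
        · exfalso
          have h' := (S.v_comm s hs _ F.mem).2 (conj_eq_iff_comm.1 h)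
          rw [hvs, F.val] at h'
          exact absurd h' (by decide +kernel)
        · exact h
      rw [show s * (F.pt * z) * s⁻¹ = (s * F.pt * s⁻¹) * (s * z * s⁻¹) by group, h1, S.cz hs,
        mul_inv_cancel_right, mul_assoc, S.zz, mul_one]
    refine key (F.form_partner hx hs hvs) ha.shift ((isConj_iff.2 ⟨s, rfl⟩ : IsConj x _).symm.trans hxE)
      (isPGroup_conj (hS₂.to_le hNS) s) ?_ ?_ (by rwa [card_conj])
    · rintro _ ⟨b, hb, rfl⟩
      refine mem_cz.2 ?_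
      show s * b * s⁻¹ * (s * x * s⁻¹) = s * x * s⁻¹ * (s * b * s⁻¹)
      rw [show s * b * s⁻¹ * (s * x * s⁻¹) = s * (b * x) * s⁻¹ by group, mem_cz.1 (hNx hb)]
      group
    · rintro _ ⟨b, hb, rfl⟩
      show s * b * s⁻¹ * F.pt * (s * b * s⁻¹)⁻¹ = F.pt
      conv_lhs => rw [← hs']
      rw [show s * b * s⁻¹ * (s * (F.pt * z) * s⁻¹) * (s * b * s⁻¹)⁻¹ = s * (b * (F.pt * z) * b⁻¹) * s⁻¹ by group,
        hfix b hb, hs']
  · refine key hx ha hxE (hS₂.to_le hNS) hNx (fun m hm => ?_) hcard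
    have h1 := hfix m hm
    rwa [mul_assoc F.pt z z, S.zz, mul_one] at h1

namespace Pt

variable {g : G} (F : Pt z Q v ρ g)
include F

/-- The singular and the anisotropic products are not conjugate. -/
theorem sing_not_anis {xL xE : G} (hL : F.Form e0 e1 xL) (hE : F.Form aE cE xE) : ¬ IsConj xL xE := by
  intro hcon
  haveI : Fact (Nat.Prime 2) := ⟨Nat.prime_two⟩
  obtain ⟨h, hh⟩ := isConj_iff.1 hcon
  have hcL := F.card_sing_cent hL
  have hB : IsPGroup 2 (F.M ⊓ centralizer ({xL} : Set G) : Subgroup G) :=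
    IsPGroup.of_card (n := 17) (by rw [hcL]; norm_num)
  set B := (F.M ⊓ centralizer ({xL} : Set G)).map (MulAut.conj h).toMonoidHom with hBdef
  have hBE : B ≤ centralizer ({xE} : Set G) := by
    rintro _ ⟨b, ⟨-, hb⟩, rfl⟩
    refine mem_cz.2 ?_
    show h * b * h⁻¹ * xE = xE * (h * b * h⁻¹)
    rw [← hh, show h * b * h⁻¹ * (h * xL * h⁻¹) = h * (b * xL) * h⁻¹ by group, mem_cz.1 hb]
    group
  have hall : ∀ n, Grown z Q v ρ xE n := by
    intro n
    induction n with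
    | zero => exact ⟨g, F, aE, cE, xE, ⊥, ref_anis, hE, IsConj.refl _, IsPGroup.of_bot, bot_le, by simp⟩
    | succ n ih => exact grown_succ (isPGroup_conj hB h) hBE (by rw [card_conj, hcL]) ih
  obtain ⟨k, F', a, c, x, T, ha, hx, -, hT, hle, hc⟩ := hall 16
  have := F'.anis_cent_bound hx ha hT hle
  omega

end Pt

/-- Exactly three classes of involutions. -/
theorem three_classes (S : Setup z Q v ρ) {g : G} (hgQ : g * z * g⁻¹ ∈ Q) (hne : g * z * g⁻¹ ≠ z) :
    ∃ a b c : G, orderOf a = 2 ∧ orderOf b = 2 ∧ orderOf c = 2 ∧ ¬ IsConj a b ∧ ¬ IsConj a c ∧ ¬ IsConj b c ∧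
      ∀ x : G, orderOf x = 2 → IsConj x a ∨ IsConj x b ∨ IsConj x c := by
  haveI : Fact (Nat.Prime 2) := ⟨Nat.prime_two⟩
  obtain ⟨k, F⟩ := exists_pt S hgQ hne
  obtain ⟨xL, hL⟩ := F.exists_form e0 e1
  obtain ⟨xE, hE⟩ := F.exists_form aE cE
  refine ⟨z, xL, xE, orderOf_eq_prime (by rw [pow_two, S.zz]) S.z_ne,
    orderOf_eq_prime (by rw [pow_two, F.sing_invol hL ref_sing])
      (fun e => F.form_notMem hL ref_sing.2.2.2.2.1 (e ▸ one_mem Q)),
    orderOf_eq_prime (by rw [pow_two, F.anis_invol hE ref_anis])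
      (fun e => F.form_notMem hE ref_anis.ne.2.1 (e ▸ one_mem Q)),
    F.sing_not_z hL ref_sing, F.anis_not_z hE ref_anis, F.sing_not_anis hL hE, fun x hx => ?_⟩
  refine F.three hL hE ?_ fun e => by rw [e, orderOf_one] at hx; omega
  rw [← pow_two, ← hx, pow_orderOf_eq_one]

end

end CfsgLib.Spor.CoOneClasses
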