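import Cfsg.Agent.Lib.Spor.CoOneClasses.Point

/-!
# Products of elements of the two parts
-/

set_option autoImplicit false
set_option synthInstance.maxSize 1024

namespace CfsgLib.Spor.CoOneClasses

open Subgroup
open CfsgLib.Spor.CoOneType (Vec qf Iso8 Om Setup mem_cz conj_eq_iff_comm act act_one act_mul iso_ext two_cases qf_nd)

noncomputable section

variable {G : Type*} [Group G] [Finite G] {z : G} {Q : Subgroup G} {v : G → Vec} {ρ : G → Iso8}

/-- Prescribed products with two independent vectors. -/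
theorem solve_pair {a c : W6} (ha : a ≠ 0) (hc : c ≠ 0) (hac : c ≠ a) (s t : ZMod 2) :
    ∃ m, pl6 m a = s ∧ pl6 m c = t := by
  obtain ⟨y₁, h₁⟩ := exists_pl6_one ha
  obtain ⟨y₂, h₂⟩ := exists_pl6_one hc
  obtain ⟨y₃, h₃⟩ := exists_pl6_one (fun h => hac (add_eq_zero6.1 h).symm : a + c ≠ 0)
  rw [pl6_comm] at h₁ h₂ h₃
  rw [pl6_add_right] at h₃
  have key : ∃ m n, pl6 m a = 1 ∧ pl6 m c = 0 ∧ pl6 n a = 0 ∧ pl6 n c = 1 := by
    rcases two_cases (pl6 y₁ c) with e | e <;> rcases two_cases (pl6 y₂ a) with e' | e'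
    · exact ⟨y₁, y₂, h₁, e, e', h₂⟩
    · refine ⟨y₁, y₁ + y₂, h₁, e, ?_, ?_⟩
      · rw [pl6_add_left, h₁, e']; decide
      · rw [pl6_add_left, e, h₂]; decide
    · refine ⟨y₁ + y₂, y₂, ?_, ?_, e', h₂⟩
      · rw [pl6_add_left, h₁, e']; decide
      · rw [pl6_add_left, e, h₂]; decide
    · rcases two_cases (pl6 y₃ a) with f | f
      · rw [f, zero_add] at h₃
        refine ⟨y₁ + y₃, y₃, ?_, ?_, f, h₃⟩
        · rw [pl6_add_left, h₁, f]; decide
        · rw [pl6_add_left, e, h₃]; decide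
      · rw [f] at h₃
        have h₃' : pl6 y₃ c = 0 := by
          rcases two_cases (pl6 y₃ c) with g | g <;> rw [g] at h₃ ⊢
          exact absurd h₃ (by decide)
        refine ⟨y₃, y₁ + y₃, f, h₃', ?_, ?_⟩
        · rw [pl6_add_left, h₁, f]; decide
        · rw [pl6_add_left, e, h₃']; decide
  obtain ⟨m, n, hm, hm', hn, hn'⟩ := key
  refine ⟨s • m + t • n, ?_, ?_⟩
  · rw [pl6_add_left, pl6_smul_left, pl6_smul_left, hm, hn]; ring
  · rw [pl6_add_left, pl6_smul_left, pl6_smul_left, hm', hn']; ring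

namespace Pt

variable {g : G} (F : Pt z Q v ρ g)

/-- An element with given parameters. -/
def Form (F : Pt z Q v ρ g) (a c : W6) (x : G) : Prop :=
  ∃ q ∈ F.R, ∃ r ∈ F.R', pr (v q) = a ∧ F.phi r = c ∧ x = q * r

/-- Conjugacy inside the centralizer of the involution. -/
def CConj (_F : Pt z Q v ρ g) (x y : G) : Prop :=
  ∃ h ∈ centralizer ({z} : Set G), h * x * h⁻¹ = y

include F

theorem cconj_refl (x : G) : F.CConj x x := ⟨1, one_mem _, by group⟩

theorem cconj_trans {x y w : G} (h₁ : F.CConj x y) (h₂ : F.CConj y w) : F.CConj x w := by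
  obtain ⟨a, ha, rfl⟩ := h₁
  obtain ⟨b, hb, rfl⟩ := h₂
  exact ⟨b * a, mul_mem hb ha, by group⟩

theorem cconj_symm {x y : G} (h : F.CConj x y) : F.CConj y x := by
  obtain ⟨a, ha, rfl⟩ := h
  exact ⟨a⁻¹, inv_mem ha, by group⟩

theorem cconj_isConj {x y : G} (h : F.CConj x y) : IsConj x y := by
  obtain ⟨a, -, e⟩ := h
  exact isConj_iff.2 ⟨a, e⟩

theorem conj_R {s q : G} (hs : s ∈ F.R) (hq : q ∈ F.R) :
    s * q * s⁻¹ = F.zi (pl6 (pr (v s)) (pr (v q))) 0 * q := by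
  have hiff := F.setup.v_comm s hs.1 q hq.1
  have hp : QuadraticMap.polar qf (v s) (v q) = pl6 (pr (v s)) (pr (v q)) := by
    rw [F.v_of_R hs, F.v_of_R hq]
    show pl (vmk _ 0 _) (vmk _ 0 _) = _
    rw [pl_vmk, pr_vmk, pr_vmk]; ring
  rcases two_cases (pl6 (pr (v s)) (pr (v q))) with e | e <;> rw [e] at hp ⊢
  · rw [F.zi_zero, one_mul]; exact conj_eq_iff_comm.2 (hiff.1 hp)
  · rcases F.setup.conj_or hq.1 hs.1 with e' | e'
    · rw [hiff.2 (conj_eq_iff_comm.1 e')] at hp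
      exact absurd hp zero_ne_one
    · rw [e', F.setup.cz hq.1, F.zi_z]

theorem conj_R' {s r : G} (hs : s ∈ F.R) (hr : r ∈ F.R') :
    s * r * s⁻¹ = F.zi (pl6 (pr (v s)) (F.phi r)) (pl6 (pr (v s)) (F.phi r)) * r := by
  have h := F.swap_rule hs hr
  set p := pl6 (pr (v s)) (F.phi r)
  have h2 : s * r = F.zi p p * (r * s) := by
    rw [h, ← mul_assoc, F.zi_add, CharTwo.add_self_eq_zero, F.zi_zero, one_mul]
  rw [h2]; group

theorem form_sq {a c : W6} {x : G} (hx : F.Form a c x) :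
    x * x = F.zi (q6 a + pl6 a c) (q6 c + pl6 a c) := by
  obtain ⟨q, hq, r, hr, rfl, rfl, rfl⟩ := hx
  have h := F.swap_rule hq hr
  set p := pl6 (pr (v q)) (F.phi r)
  calc q * r * (q * r) = q * (r * q) * r := by group
    _ = (q * F.zi p p) * q * r * r := by rw [h]; group
    _ = F.zi p p * (q * q) * (r * r) := by rw [F.central_R hq]; group
    _ = _ := by rw [F.sq_R hq, F.square_rule hr, F.zi_add, F.zi_add]; congr 1 <;> ring

theorem form_invol {a c : W6} {x : G} (hx : F.Form a c x) :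
    x * x = 1 ↔ q6 a = pl6 a c ∧ q6 c = pl6 a c := by
  rw [F.form_sq hx]
  constructor
  · intro h
    obtain ⟨h1, h2⟩ := F.zi_eq_one h
    exact ⟨CharTwo.add_eq_zero.1 h1, CharTwo.add_eq_zero.1 h2⟩
  · rintro ⟨h1, h2⟩
    rw [h1, h2, CharTwo.add_self_eq_zero, F.zi_zero]

theorem form_cz {a c : W6} {x : G} (hx : F.Form a c x) : x ∈ centralizer ({z} : Set G) := by
  obtain ⟨q, hq, r, hr, -, -, rfl⟩ := hx
  exact mul_mem (F.setup.le hq.1) hr.2

theorem form_ci {a c : W6} {x : G} (hx : F.Form a c x) : x ∈ centralizer ({F.pt} : Set G) := by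
  obtain ⟨q, hq, r, hr, -, -, rfl⟩ := hx
  exact mul_mem hq.2 (F.R'_ci hr)

theorem form_rho {a c : W6} {x : G} (hx : F.Form a c x) : ∀ w, act (ρ x) w = sieg c w := by
  obtain ⟨q, hq, r, hr, -, rfl, rfl⟩ := hx
  intro w
  rw [F.setup.ρ_mul q (F.setup.le hq.1) r hr.2, F.setup.ρ_of_mem hq.1, one_mul, F.rho_R' hr]

theorem form_notMem {a c : W6} {x : G} (hx : F.Form a c x) (hc : c ≠ 0) : x ∉ Q := by
  intro hQ
  have h := congrArg pr (F.form_rho hx f0)
  rw [F.setup.ρ_of_mem hQ, act_one, sieg_f0, pr_f0] at h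
  exact hc h.symm

theorem phi_inv {r : G} (hr : r ∈ F.R') : F.phi r⁻¹ = F.phi r := by
  have h := F.phi_mul (inv_mem hr) hr
  rw [inv_mul_cancel, ← F.zi_zero, F.phi_zi] at h
  exact add_eq_zero6.1 h.symm

/-- Conjugating the second part by a partner of the reference point. -/
theorem partner_conj {r s : G} (hr : r ∈ F.R') (hs : s ∈ Q) (hvs : v s = f0) :
    ∃ q' ∈ F.R, pr (v q') = F.phi r ∧ s * r * s⁻¹ = r * q' := by
  set q' := r⁻¹ * s * r * s⁻¹ with hq'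
  have hq'Q : q' ∈ Q := by
    rw [hq']
    exact mul_mem (by simpa using F.setup.norm (inv_mem (F.R'_cz hr)) hs) (inv_mem hs)
  have hv : v q' = vmk (q6 (F.phi r)) 0 (F.phi r) := by
    rw [hq', F.setup.v_mul _ (by simpa using F.setup.norm (inv_mem (F.R'_cz hr)) hs) _ (inv_mem hs),
      F.setup.v_inv hs, show r⁻¹ * s * r = r⁻¹ * s * r⁻¹⁻¹ by rw [inv_inv],
      F.setup.ρ_act _ (inv_mem (F.R'_cz hr)) s hs, F.rho_R' (inv_mem hr), F.phi_inv hr, hvs, sieg_f0_diff]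
  exact ⟨q', F.mem_R.2 ⟨hq'Q, by rw [hv]; rfl⟩, by rw [hv, pr_vmk], by rw [hq']; group⟩

/-- A partner exists. -/
theorem exists_partner_elt : ∃ s ∈ Q, v s = f0 := F.setup.v_surj f0

theorem form_mul_zi {a c : W6} {x : G} (hx : F.Form a c x) (s t : ZMod 2) : F.Form a c (F.zi s t * x) := by
  obtain ⟨q, hq, r, hr, rfl, rfl, rfl⟩ := hx
  exact ⟨F.zi s t * q, mul_mem (F.zi_R s t) hq, r, hr,
    by rw [F.pr_mul (F.zi_R s t).1 hq.1, F.pr_v_zi, zero_add], rfl, by group⟩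

/-- Conjugating a product by a partner of the reference point. -/
theorem form_partner {a c : W6} {x s : G} (hx : F.Form a c x) (hs : s ∈ Q) (hvs : v s = f0) :
    F.Form (a + c) c (s * x * s⁻¹) := by
  obtain ⟨q, hq, r, hr, rfl, rfl, rfl⟩ := hx
  obtain ⟨q', hq'R, hp', e1⟩ := F.partner_conj hr hs hvs
  have e2 : r * q' = q' * r := by
    rw [F.swap_rule hq'R hr, hp', pl6_self, F.zi_zero, one_mul]
  obtain ⟨e, he⟩ : ∃ e : ZMod 2, s * q * s⁻¹ = q * F.zi e 0 := by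
    rcases F.setup.conj_or hq.1 hs with h | h
    · exact ⟨0, by rw [h, F.zi_zero, mul_one]⟩
    · exact ⟨1, by rw [h, F.zi_z]⟩
  refine ⟨q * F.zi e 0 * q', mul_mem (mul_mem hq (F.zi_R e 0)) hq'R, r, hr, ?_, rfl, ?_⟩
  · rw [F.pr_mul (mul_mem hq.1 (F.zi_R e 0).1) hq'R.1, F.pr_mul hq.1 (F.zi_R e 0).1, hp', F.pr_v_zi, add_zero]
  · calc s * (q * r) * s⁻¹ = (s * q * s⁻¹) * (s * r * s⁻¹) := by group
      _ = q * F.zi e 0 * (q' * r) := by rw [he, e1, e2]
      _ = _ := by group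

/-- Adding the second parameter to the first one. -/
theorem form_shift {a c : W6} {x : G} (hx : F.Form a c x) : ∃ y, F.CConj x y ∧ F.Form (a + c) c y := by
  obtain ⟨s, hs, hvs⟩ := F.exists_partner_elt
  exact ⟨_, ⟨s, F.setup.le hs, rfl⟩, F.form_partner hx hs hvs⟩

/-- Elements with the same admissible parameters are conjugate. -/
theorem form_same {a c : W6} {x y : G} (hx : F.Form a c x) (hy : F.Form a c y) (ha : a ≠ 0) (hc : c ≠ 0)
    (hac : c ≠ a) : ∃ h ∈ F.R, h * x * h⁻¹ = y := by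
  obtain ⟨q, hq, r, hr, rfl, rfl, rfl⟩ := hx
  obtain ⟨q', hq', r', hr', hqa, hrc, rfl⟩ := hy
  obtain ⟨s, t, e1⟩ : ∃ s t, q⁻¹ * q' = F.zi s t := F.zi_of_zero (mul_mem (inv_mem hq) hq') (by
    rw [F.pr_mul (inv_mem hq.1) hq'.1, F.setup.v_inv hq.1, hqa, w6_add_self])
  obtain ⟨s', t', e2⟩ := F.phi_eq hr hr' hrc.symm
  obtain ⟨m, hm1, hm2⟩ := solve_pair ha hc hac ((s + s') + (t + t')) (t + t')
  obtain ⟨w, hw, hwm⟩ := F.R_surj m
  refine ⟨w, hw, ?_⟩
  have e3 : q' * r' = F.zi (s + s') (t + t') * (q * r) := by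
    rw [eq_mul_of_inv_mul_eq e1, e2]
    calc q * F.zi s t * (r * F.zi s' t') = F.zi s t * q * (r * F.zi s' t') := by rw [F.central_R hq]
      _ = F.zi s t * ((q * r) * F.zi s' t') := by group
      _ = F.zi s t * (F.zi s' t' * (q * r)) := by
        rw [F.zi_comm (mul_mem (F.setup.le hq.1) hr.2) (mul_mem hq.2 (F.R'_ci hr))]
      _ = _ := by rw [← mul_assoc, F.zi_add]
  rw [e3]
  calc w * (q * r) * w⁻¹ = (w * q * w⁻¹) * (w * r * w⁻¹) := by group
    _ = F.zi (pl6 m (pr (v q))) 0 * (q * F.zi (pl6 m (F.phi r)) (pl6 m (F.phi r))) * r := by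
      rw [F.conj_R hw hq, F.conj_R' hw hr, hwm]; group
    _ = F.zi (pl6 m (pr (v q))) 0 * F.zi (pl6 m (F.phi r)) (pl6 m (F.phi r)) * (q * r) := by
      rw [F.central_R hq]; group
    _ = _ := by
      rw [F.zi_add, zero_add, hm1, hm2]
      congr 2
      linear_combination (t + t') * CharTwo.two_eq_zero (R := ZMod 2)

theorem exists_form (a c : W6) : ∃ x, F.Form a c x := by
  obtain ⟨q, hq, hqa⟩ := F.R_surj a
  obtain ⟨r, hr, hrc⟩ := F.phi_surj c
  exact ⟨q * r, q, hq, r, hr, hqa, hrc, rfl⟩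

theorem form_conj {l d a c : W6} {x k : G} (hk : k ∈ centralizer ({z} : Set G))
    (hki : k ∈ centralizer ({F.pt} : Set G)) (hρ : ∀ w, act (ρ k) w = vmk (xc w) (yc w) (sig l d (pr w)))
    (hx : F.Form a c x) : F.Form (sig l d a) (sig l d c) (k * x * k⁻¹) := by
  obtain ⟨q, hq, r, hr, rfl, rfl, rfl⟩ := hx
  exact ⟨k * q * k⁻¹, F.norm_R hk hki hq, k * r * k⁻¹, F.norm_R' hk hki hr, F.pr_conj hk hρ hq.1,
    F.phi_conj hk hρ hr, by group⟩

/-- Conjugacy inside the centralizer of both involutions. -/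
def MConj (F : Pt z Q v ρ g) (x y : G) : Prop :=
  ∃ h ∈ centralizer ({z} : Set G), h ∈ centralizer ({F.pt} : Set G) ∧ h * x * h⁻¹ = y

theorem mconj_cconj {x y : G} (h : F.MConj x y) : F.CConj x y := by
  obtain ⟨a, ha, -, e⟩ := h
  exact ⟨a, ha, e⟩

theorem mconj_trans {x y w : G} (h₁ : F.MConj x y) (h₂ : F.MConj y w) : F.MConj x w := by
  obtain ⟨a, ha, ha', rfl⟩ := h₁
  obtain ⟨b, hb, hb', rfl⟩ := h₂
  exact ⟨b * a, mul_mem hb ha, mul_mem hb' ha', by group⟩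

theorem form_word : ∀ (w : List (ℕ × ℕ)), (∀ p ∈ w, Adm p) → ∀ {a c : W6} {x : G}, F.Form a c x →
    ∃ y, F.MConj x y ∧ F.Form (wf w a) (wf w c) y
  | [], _, _, _, x, hx => ⟨x, ⟨1, one_mem _, one_mem _, by group⟩, hx⟩
  | p :: w, hw, a, c, x, hx => by
    obtain ⟨y, hxy, hy⟩ := form_word w (fun q hq => hw q (List.mem_cons_of_mem _ hq)) hx
    obtain ⟨h1, h2⟩ := hw p List.mem_cons_self
    obtain ⟨k, hk, hki, hρ⟩ := F.sig_lift h1 h2
    exact ⟨k * y * k⁻¹, F.mconj_trans hxy ⟨k, hk, hki, rfl⟩, F.form_conj hk hki hρ hy⟩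

end Pt

theorem wf_add : ∀ (w : List (ℕ × ℕ)) (u u' : W6), wf w (u + u') = wf w u + wf w u'
  | [], _, _ => rfl
  | p :: w, u, u' => by
    show st p (wf w (u + u')) = _
    rw [wf_add w, st, sig_add]; rfl

theorem q6_wf : ∀ (w : List (ℕ × ℕ)), (∀ p ∈ w, Adm p) → ∀ u : W6, q6 (wf w u) = q6 u
  | [], _, _ => rfl
  | p :: w, hw, u => by
    show q6 (st p (wf w u)) = _
    rw [st, q6_sig (hw p List.mem_cons_self).1 (hw p List.mem_cons_self).2,
      q6_wf w fun q hq => hw q (List.mem_cons_of_mem _ hq)]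

theorem pl6_wf : ∀ (w : List (ℕ × ℕ)), (∀ p ∈ w, Adm p) → ∀ u u' : W6, pl6 (wf w u) (wf w u') = pl6 u u'
  | [], _, _, _ => rfl
  | p :: w, hw, u, u' => by
    show pl6 (st p (wf w u)) (st p (wf w u')) = _
    rw [st, st, pl6_sig (hw p List.mem_cons_self).1 (hw p List.mem_cons_self).2,
      pl6_wf w fun q hq => hw q (List.mem_cons_of_mem _ hq)]

theorem wf_fix {u : W6} : ∀ (w : List (ℕ × ℕ)), (∀ p ∈ w, st p u = u) → wf w u = u
  | [], _ => rfl
  | p :: w, hw => by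
    show st p (wf w u) = u
    rw [wf_fix w fun q hq => hw q (List.mem_cons_of_mem _ hq), hw p List.mem_cons_self]

theorem wf_ne {w : List (ℕ × ℕ)} (hw : ∀ p ∈ w, Adm p) {u u' : W6} (h : u ≠ u') : wf w u ≠ wf w u' := by
  intro e
  obtain ⟨y, hy⟩ := exists_pl6_one (fun h' => h (add_eq_zero6.1 h') : u + u' ≠ 0)
  rw [← pl6_wf w hw, wf_add, e, w6_add_self, pl6_zero_left] at hy
  exact zero_ne_one hy

theorem wf_zero {w : List (ℕ × ℕ)} : wf w (0 : W6) = 0 := by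
  have h := wf_add w 0 0
  rw [add_zero] at h
  exact add_eq_left.1 h.symm

/-- The parameters of a singular pair. -/
def SingPair (a c : W6) : Prop := q6 a = 0 ∧ q6 c = 0 ∧ pl6 a c = 0 ∧ a ≠ 0 ∧ c ≠ 0 ∧ c ≠ a

/-- The parameters of an anisotropic pair. -/
def AnisPair (a c : W6) : Prop := q6 a = 1 ∧ q6 c = 1 ∧ pl6 a c = 1

theorem AnisPair.ne {a c : W6} (h : AnisPair a c) : a ≠ 0 ∧ c ≠ 0 ∧ c ≠ a := by
  refine ⟨fun e => ?_, fun e => ?_, fun e => ?_⟩
  · have := h.2.2; rw [e, pl6_zero_left] at this; exact zero_ne_one this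
  · have := h.2.2; rw [e, pl6_zero_right] at this; exact zero_ne_one this
  · have := h.2.2; rw [e, pl6_self] at this; exact zero_ne_one this

theorem ref_sing : SingPair e0 e1 :=
  ⟨ref_facts.1, ref_facts.2.1, ref_facts.2.2.1, ref_facts.2.2.2.1, ref_facts.2.2.2.2.1, ref_facts.2.2.2.2.2.1⟩

theorem ref_anis : AnisPair aE cE := ⟨ref_facts.2.2.2.2.2.2.1, ref_facts.2.2.2.2.2.2.2.1, ref_facts.2.2.2.2.2.2.2.2⟩

namespace Pt

variable {g : G} (F : Pt z Q v ρ g)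
include F

theorem mconj_of_R {x y : G} (h : ∃ k ∈ F.R, k * x * k⁻¹ = y) : F.MConj x y := by
  obtain ⟨k, hk, e⟩ := h
  exact ⟨k, F.setup.le hk.1, hk.2, e⟩

/-- Singular pairs give conjugate elements. -/
theorem form_sing {a c : W6} {x y : G} (hx : F.Form a c x) (h : SingPair a c) (hy : F.Form e0 e1 y) :
    F.MConj x y := by
  obtain ⟨h1, h2, h3, h4, h5, h6⟩ := h
  obtain ⟨w, hw, hwa⟩ := sing_reach a h1 h4
  have hadm := singTbl_adm w hw
  obtain ⟨x₁, hx₁, hf₁⟩ := F.form_word w hadm hx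
  rw [hwa] at hf₁
  obtain ⟨w', hw', hwc⟩ := sing2_reach (wf w c) (by rw [q6_wf w hadm, h2])
    (fun e => h5 (not_not.1 fun hne => wf_ne hadm hne (e.trans wf_zero.symm)))
    (fun e => wf_ne hadm h6 (e.trans hwa.symm)) (by rw [← hwa, pl6_wf w hadm, h3])
  have hadm' := sing2Tbl_adm w' hw'
  obtain ⟨x₂, hx₂, hf₂⟩ := F.form_word w' (fun p hp => (hadm' p hp).1) hf₁
  rw [hwc, wf_fix w' fun p hp => (hadm' p hp).2] at hf₂
  exact F.mconj_trans hx₁ (F.mconj_trans hx₂ (F.mconj_of_R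
    (F.form_same hf₂ hy ref_sing.2.2.2.1 ref_sing.2.2.2.2.1 ref_sing.2.2.2.2.2)))

/-- Anisotropic pairs give conjugate elements. -/
theorem form_anis {a c : W6} {x y : G} (hx : F.Form a c x) (h : AnisPair a c) (hy : F.Form aE cE y) :
    F.MConj x y := by
  obtain ⟨h1, h2, h3⟩ := h
  obtain ⟨w, hw, hwa⟩ := nons_reach a h1
  have hadm := nonsTbl_adm w hw
  obtain ⟨x₁, hx₁, hf₁⟩ := F.form_word w hadm hx
  rw [hwa] at hf₁
  obtain ⟨w', hw', hwc⟩ := nons2_reach (wf w c) (by rw [q6_wf w hadm, h2]) (by rw [← hwa, pl6_wf w hadm, h3])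
  have hadm' := nons2Tbl_adm w' hw'
  obtain ⟨x₂, hx₂, hf₂⟩ := F.form_word w' (fun p hp => (hadm' p hp).1) hf₁
  rw [hwc, wf_fix w' fun p hp => (hadm' p hp).2] at hf₂
  exact F.mconj_trans hx₁ (F.mconj_trans hx₂ (F.mconj_of_R
    (F.form_same hf₂ hy ref_anis.ne.1 ref_anis.ne.2.1 ref_anis.ne.2.2)))

/-- Involutions among the products: trivial, singular and anisotropic parameters. -/
theorem form_cases {a c : W6} {x : G} (hx : F.Form a c x) (h2 : x * x = 1) (hc : c ≠ 0) :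
    (q6 c = 0 ∧ (a = 0 ∨ a = c)) ∨ SingPair a c ∨ AnisPair a c := by
  obtain ⟨h1, h1'⟩ := (F.form_invol hx).1 h2
  rcases two_cases (pl6 a c) with e | e <;> rw [e] at h1 h1'
  · by_cases ha : a = 0 ∨ a = c
    · exact Or.inl ⟨h1', ha⟩
    · push Not at ha
      exact Or.inr (Or.inl ⟨h1, h1', e, ha.1, hc, ha.2.symm⟩)
  · exact Or.inr (Or.inr ⟨h1, h1', e⟩)

end Pt

end

end CfsgLib.Spor.CoOneClasses
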