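import Cfsg.Agent.Lib.Spor.CoOneClasses.Six

/-!
# Invariant functions on the six-space, and isometries fixing a hyperplane
-/

set_option autoImplicit false
set_option synthInstance.maxSize 4096

namespace CfsgLib.Spor.CoOneClasses

open CfsgLib.Perm.Trans.Quad
open CfsgLib.Spor.CoOneType (Vec qf Iso8 act act_one act_add qf_act pol_act iso_ext two_cases vec_add_self)

noncomputable section

theorem single_mem : ∀ i : Ix6, (Pi.single i 1 : W6) ∈ [e0, e1, e2, g0, g1, g2] := by decide +kernel

theorem additive_zero {f : W6 → ZMod 2} (hf : ∀ a b, f (a + b) = f a + f b)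
    (h : ∀ c ∈ [e0, e1, e2, g0, g1, g2], f c = 0) : ∀ a, f a = 0 := by
  obtain ⟨m, hm⟩ := exists_repr hf
  have hm0 : m = 0 := funext fun i => by
    rw [← pl6_single i m, pl6_comm, ← hm]
    exact h _ (single_mem _)
  intro a
  rw [hm, hm0, pl6_zero_right]

theorem smul_of_join {c m : W6} (h : m = 0 ∨ m = c) : ∃ s : ZMod 2, m = s • c := by
  rcases h with h | h
  · exact ⟨0, by rw [h, zero_smul]⟩
  · exact ⟨1, by rw [h, one_smul]⟩

/-- An invariant biadditive function is a multiple of the polar form. -/
theorem invariant_form {b : W6 → W6 → ZMod 2} (hl : ∀ a a' c, b (a + a') c = b a c + b a' c)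
    (hr : ∀ a c c', b a (c + c') = b a c + b a c')
    (hinv : ∀ l d, q6 l = 0 → pl6 l d = 0 → ∀ a c, b (sig l d a) (sig l d c) = b a c) :
    ∃ s : ZMod 2, ∀ a c, b a c = s * pl6 a c := by
  choose M hM using fun c => exists_repr (f := fun a => b a c) (fun a a' => hl a a' c)
  have hMadd : ∀ c c', M (c + c') = M c + M c' := fun c c' => repr_unique fun a => by
    rw [pl6_add_right, ← hM c a, ← hM c' a, ← hM (c + c') a, hr]
  have hMσ : ∀ l d, q6 l = 0 → pl6 l d = 0 → ∀ c, M (sig l d c) = sig l d (M c) := fun l d h1 h2 c =>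
    repr_unique fun a' => by
      obtain ⟨a, rfl⟩ := sig_surjective h1 h2 a'
      rw [pl6_sig h1 h2, ← hM c a, ← hM (sig l d c) (sig l d a)]
      exact hinv l d h1 h2 a c
  have hj : ∀ c ∈ joins, ∃ s : ZMod 2, M c = s • c := fun c hc =>
    smul_of_join (fix_join c hc (M c) fun l d h1 h2 h3 => by rw [← hMσ l d h1 h2, h3])
  obtain ⟨s0, hs0⟩ := hj e0 (by simp [joins])
  refine ⟨s0, ?_⟩
  have hjoin : ∀ x y p p' : W6, x + y ∈ joins → x ∈ joins → y ∈ joins → pl6 p x = 1 → pl6 p y = 0 → pl6 p' x = 0 →
      pl6 p' y = 1 → ∀ s : ZMod 2, M x = s • x → M y = s • y := by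
    intro x y p p' hxy hx hy h1 h2 h3 h4 s hs
    obtain ⟨t, ht⟩ := hj y hy
    obtain ⟨t', ht'⟩ := hj _ hxy
    have h := hMadd x y
    rw [ht', hs, ht] at h
    have e1 := congrArg (pl6 p) h
    have e2 := congrArg (pl6 p') h
    simp only [pl6_add_right, pl6_smul_right, h1, h2, h3, h4] at e1 e2
    simp only [mul_zero, mul_one, add_zero, zero_add] at e1 e2
    rw [ht, ← e2, e1]
  have h1 := hjoin e0 e1 g0 g1 (by simp [joins]) (by simp [joins]) (by simp [joins]) (by decide +kernel)
    (by decide +kernel) (by decide +kernel) (by decide +kernel) s0 hs0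
  have h2 := hjoin e0 e2 g0 g2 (by simp [joins]) (by simp [joins]) (by simp [joins]) (by decide +kernel)
    (by decide +kernel) (by decide +kernel) (by decide +kernel) s0 hs0
  have h3 := hjoin e0 g1 g0 e1 (by simp [joins]) (by simp [joins]) (by simp [joins]) (by decide +kernel)
    (by decide +kernel) (by decide +kernel) (by decide +kernel) s0 hs0
  have h4 := hjoin e0 g2 g0 e2 (by simp [joins]) (by simp [joins]) (by simp [joins]) (by decide +kernel)
    (by decide +kernel) (by decide +kernel) (by decide +kernel) s0 hs0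
  have h5 := hjoin e1 g0 g1 e0 (by rw [add_comm]; simp [joins]) (by simp [joins]) (by simp [joins]) (by decide +kernel)
    (by decide +kernel) (by decide +kernel) (by decide +kernel) s0 h1
  intro a c
  have hz := additive_zero (f := fun c => b a c + s0 * pl6 a c)
    (fun c c' => by rw [hr, pl6_add_right]; ring) (fun c hc => by
      have hMc : M c = s0 • c := by
        simp only [List.mem_cons, List.not_mem_nil, or_false] at hc
        rcases hc with rfl | rfl | rfl | rfl | rfl | rfl
        · exact hs0
        · exact h1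
        · exact h2
        · exact h5
        · exact h3
        · exact h4
      rw [hM c a, hMc, pl6_smul_right, CharTwo.add_self_eq_zero]) c
  exact CharTwo.add_eq_zero.1 hz

/-- An invariant additive function vanishes. -/
theorem invariant_linear {f : W6 → ZMod 2} (hf : ∀ a b, f (a + b) = f a + f b)
    (hinv : ∀ l d, q6 l = 0 → pl6 l d = 0 → ∀ a, f (sig l d a) = f a) : ∀ a, f a = 0 := by
  obtain ⟨m, hm⟩ := exists_repr hf
  have h : m = 0 := gens_fix_none m fun p hp => by
    obtain ⟨h1, h2⟩ := gens_adm p hp
    refine repr_unique fun a' => ?_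
    obtain ⟨a, rfl⟩ := sig_surjective h1 h2 a'
    rw [st, pl6_sig h1 h2, ← hm, ← hm, hinv _ _ h1 h2]
  intro a
  rw [hm, h, pl6_zero_right]

/-- An isometry fixing the perpendicular space of a singular vector is trivial. -/
theorem fix_hyperplane {g : Iso8} {u : Vec} (hu : qf u = 0) (hu0 : u ≠ 0)
    (h : ∀ x, pl u x = 0 → act g x = x) : g = 1 := by
  obtain ⟨y, hy⟩ := exists_pl_one hu0
  refine iso_ext fun x => ?_
  rw [act_one]
  have hy' : act g y = y := by
    set d := act g y + y with hd
    have hperp : ∀ x, pl u x = 0 → pl x d = 0 := fun x hx => by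
      rw [hd, pl_add_right]
      have h2 := pol_act g x y
      rw [h x hx] at h2
      rw [show pl x (act g y) = pl x y from h2, CharTwo.add_self_eq_zero]
    have hkey : ∀ x, pl x (d + pl y d • u) = 0 := fun x => by
      rw [pl_add_right, pl_smul_right, pl_comm x u]
      rcases two_cases (pl u x) with e | e
      · rw [hperp x e, e, mul_zero, add_zero]
      · have h3 : pl (x + y) d = 0 := hperp _ (by rw [pl_add_right, e, hy]; decide)
        rw [pl_add_left] at h3
        rw [e, mul_one]; exact h3
    have hd0 : d + pl y d • u = 0 := by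
      by_contra hne
      obtain ⟨x, hx⟩ := exists_pl_one hne
      rw [pl_comm, hkey] at hx
      exact zero_ne_one hx
    have hde : d = pl y d • u := add_eq_zero8.1 hd0
    have hback : act g y = y + d := by rw [hd, add_comm y, add_assoc, vec_add_self, add_zero]
    have hq := qf_act g y
    rcases two_cases (pl y d) with e | e
    · rw [e, zero_smul] at hde; rw [hback, hde, add_zero]
    · exfalso
      rw [e, one_smul] at hde
      rw [hback, qf_add, hde, hu, pl_comm, hy, add_zero] at hq
      exact one_ne_zero (add_eq_left.1 hq)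
  rcases two_cases (pl u x) with e | e
  · exact h x e
  · have h3 := h (x + y) (by rw [pl_add_right, e, hy]; decide)
    rw [act_add, hy'] at h3
    exact add_right_cancel h3

end

end CfsgLib.Spor.CoOneClasses
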