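import Cfsg.Agent.Lib.Spor.CoOneClasses.Forms

/-!
# Normal forms of the involutions of the orthogonal group of plus type in dimension eight over two elements
-/

set_option autoImplicit false
set_option synthInstance.maxSize 4096

namespace CfsgLib.Spor.CoOneClasses

open Subgroup
open CfsgLib.Spor.CoOneType (Vec qf Iso8 Om act act_one act_mul act_add act_zero act_injective qf_act pol_act iso_ext
  two_cases qf_nd vec_add_self move_singular move_value IsReflAct exists_refl' refl_notMem isReflAct_of_conj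
  isReflAct_unique)

noncomputable section

/-- The difference from the identity preserves sums. -/
theorem diff_add (k : Iso8) (x y : Vec) : act k (x + y) + (x + y) = (act k x + x) + (act k y + y) := by
  rw [act_add]; abel

theorem diff_pl {k : Iso8} (h2 : k * k = 1) (x y : Vec) : pl (act k x + x) (act k y + y) = 0 := by
  have h : pl x (act k y) = pl (act k x) y := by
    have h1 : pl (act k x) (act k (act k y)) = pl x (act k y) := pol_act k x (act k y)
    rw [← act_mul, h2, act_one] at h1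
    exact h1.symm
  have h3 : pl (act k x) (act k y) = pl x y := pol_act k x y
  rw [pl_add_left, pl_add_right, pl_add_right, h3, h]
  linear_combination (pl x y + pl (act k x) y) * CharTwo.two_eq_zero (R := ZMod 2)

/-- The vector representing the quadratic values of the difference. -/
theorem exists_centre {k : Iso8} (h2 : k * k = 1) :
    ∃ m, act k m = m ∧ ∀ x, qf (act k x + x) = pl x m := by
  let f : Vec →+ ZMod 2 := AddMonoidHom.mk' (fun x => qf (act k x + x)) fun x y => by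
    rw [diff_add, qf_add, diff_pl h2, add_zero]
  set m : Vec := vmk (f f0) (f w0) (Classical.choose (exists_repr (f := fun u => f (inW u))
    (fun a b => by rw [show inW (a + b) = inW a + inW b by simp [inW, vmk_add], map_add]))) with hm
  have hspec := Classical.choose_spec (exists_repr (f := fun u => f (inW u))
    (fun a b => by rw [show inW (a + b) = inW a + inW b by simp [inW, vmk_add], map_add]))
  have hall : ∀ x, qf (act k x + x) = pl x m := fun x => by
    show f x = _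
    have hs : ∀ (a : ZMod 2) (u : Vec), f (a • u) = a * f u := fun a u => by
      rcases two_cases a with rfl | rfl
      · rw [zero_smul, map_zero, zero_mul]
      · rw [one_smul, one_mul]
    conv_lhs => rw [decomp x, map_add, map_add, hs, hs, hspec (pr x)]
    rw [hm, pl_eq, xc_vmk, yc_vmk, pr_vmk]
    ring
  refine ⟨m, ?_, hall⟩
  by_contra hne
  obtain ⟨y, hy⟩ := exists_pl_one (fun h => hne (add_eq_zero8.1 h) : act k m + m ≠ 0)
  have h1 : act k (act k y) = y := by rw [← act_mul, h2, act_one]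
  have h : pl (act k m) y = pl m y := by
    conv_lhs => rw [← h1]
    rw [show pl (act k m) (act k (act k y)) = pl m (act k y) from pol_act k m (act k y), pl_comm m, pl_comm m,
      ← hall, ← hall, h1, add_comm]
  rw [pl_add_left, h, CharTwo.add_self_eq_zero] at hy
  exact zero_ne_one hy

/-- An alternate involution of the six-space is trivial or a transformation at two singular vectors. -/
theorem six_alt (s : W6 → W6) (hadd : ∀ a b, s (a + b) = s a + s b) (hs : ∀ u, s (s u) = u)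
    (hq : ∀ u, q6 (s u) = q6 u) (halt : ∀ u, q6 (s u + u) = 0) :
    (∀ u, s u = u) ∨ ∃ l₁ l₂, SingPair l₁ l₂ ∧ ∀ u, s u = sig l₁ l₂ u := by
  have hpl : ∀ a b, pl6 (s a) (s b) = pl6 a b := fun a b => by
    simp only [QuadraticMap.polar, ← hadd, hq]
  set d : W6 → W6 := fun u => s u + u with hd
  have dadd : ∀ a b, d (a + b) = d a + d b := fun a b => by simp only [hd, hadd]; abel
  have dsmul : ∀ (t : ZMod 2) a, d (t • a) = t • d a := fun t a => by
    rcases two_cases t with rfl | rfl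
    · have h := dadd 0 0
      rw [add_zero] at h
      rw [zero_smul, zero_smul]
      exact add_eq_left.1 h.symm
    · rw [one_smul, one_smul]
  have dsym : ∀ a b, pl6 a (d b) = pl6 b (d a) := fun a b => by
    have h : pl6 a (s b) = pl6 b (s a) := by
      rw [← hpl, hs, pl6_comm]
    simp only [hd, pl6_add_right, h, pl6_comm a b]
  have dq : ∀ a, q6 (d a) = 0 := halt
  have dorth : ∀ a b, pl6 (d a) (d b) = 0 := fun a b => by
    have h := dq (a + b)
    rw [dadd, q6_add, dq, dq] at h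
    simpa using h
  have dself : ∀ a, pl6 a (d a) = 0 := fun a => by
    have h := dq a
    simp only [hd] at h ⊢
    rw [q6_add, hq, CharTwo.add_self_eq_zero, zero_add] at h
    rw [pl6_add_right, pl6_self, pl6_comm, h, add_zero]
  by_cases hid : ∀ u, s u = u
  · exact Or.inl hid
  right
  push Not at hid
  obtain ⟨u₀, hu₀⟩ := hid
  have hl₁ : d u₀ ≠ 0 := fun h => hu₀ (add_eq_zero6.1 h)
  obtain ⟨u₁, hu₁⟩ := exists_pl6_one hl₁
  rw [pl6_comm] at hu₁
  set l₁ := d u₀
  set l₂ := d u₁ with hl₂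
  have h02 : pl6 u₀ l₂ = 1 := (dsym u₀ u₁).trans hu₁
  have h01 : pl6 u₀ l₁ = 0 := dself u₀
  have h12 : pl6 u₁ l₂ = 0 := dself u₁
  have hne₂ : l₂ ≠ 0 := fun e => by rw [e, pl6_zero_right] at h02; exact zero_ne_one h02
  have hne : l₂ ≠ l₁ := fun e => by rw [e, h01] at h02; exact zero_ne_one h02
  refine ⟨l₁, l₂, ⟨dq _, dq _, dorth _ _, hl₁, hne₂, hne⟩, ?_⟩
  suffices key : ∀ u, pl6 u l₁ = 0 → pl6 u l₂ = 0 → d u = 0 by
    intro u
    set u' := u + pl6 u l₂ • u₀ + pl6 u l₁ • u₁ with hu'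
    have h := key u' (by
      rw [hu', pl6_add_left, pl6_add_left, pl6_smul_left, pl6_smul_left, h01, hu₁, mul_zero, add_zero, mul_one,
        CharTwo.add_self_eq_zero]) (by
      rw [hu', pl6_add_left, pl6_add_left, pl6_smul_left, pl6_smul_left, h02, h12, mul_zero, add_zero, mul_one,
        CharTwo.add_self_eq_zero])
    rw [hu', dadd, dadd, dsmul, dsmul] at h
    rw [sig, dq u₁, zero_mul, zero_smul, add_zero]
    calc s u = d u + u := by simp only [hd]; rw [add_assoc, w6_add_self, add_zero]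
      _ = (pl6 u l₂ • l₁ + pl6 u l₁ • l₂) + u := by
        rw [add_assoc] at h
        rw [add_eq_zero6.1 h]
      _ = _ := by abel
  intro u₂ g1 g2
  by_contra hl₃
  obtain ⟨y, hy⟩ := exists_pl6_one hl₃
  set l₃ := d u₂ with hl₃def
  set u₃ := y + pl6 y l₂ • u₀ + pl6 y l₁ • u₁ with hu₃
  have g31 : pl6 u₃ l₁ = 0 := by
    rw [hu₃, pl6_add_left, pl6_add_left, pl6_smul_left, pl6_smul_left, h01, hu₁, mul_zero, add_zero, mul_one,
      CharTwo.add_self_eq_zero]
  have g32 : pl6 u₃ l₂ = 0 := by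
    rw [hu₃, pl6_add_left, pl6_add_left, pl6_smul_left, pl6_smul_left, h02, h12, mul_zero, add_zero, mul_one,
      CharTwo.add_self_eq_zero]
  have g03 : pl6 u₀ l₃ = 0 := (dsym u₀ u₂).trans g1
  have g13 : pl6 u₁ l₃ = 0 := (dsym u₁ u₂).trans g2
  have g33 : pl6 u₃ l₃ = 1 := by
    rw [hu₃, pl6_add_left, pl6_add_left, pl6_smul_left, pl6_smul_left, g03, g13]
    simp [pl6_comm y, hy]
  set l₄ := d u₃ with hl₄
  have g24 : pl6 u₂ l₄ = 1 := (dsym u₂ u₃).trans g33
  have g04 : pl6 u₀ l₄ = 0 := (dsym u₀ u₃).trans g31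
  have g14 : pl6 u₁ l₄ = 0 := (dsym u₁ u₃).trans g32
  have g23 : pl6 u₂ l₃ = 0 := dself u₂
  have g34 : pl6 u₃ l₄ = 0 := dself u₃
  have orth : ∀ a b, pl6 (d a) (d b) = 0 := dorth
  let ψ : (ZMod 2 × ZMod 2 × ZMod 2 × ZMod 2) × (ZMod 2 × ZMod 2 × ZMod 2 × ZMod 2) → W6 := fun p =>
    (p.1.1 • u₀ + p.1.2.1 • u₁ + p.1.2.2.1 • u₂ + p.1.2.2.2 • u₃) +
      (p.2.1 • l₁ + p.2.2.1 • l₂ + p.2.2.2.1 • l₃ + p.2.2.2.2 • l₄)
  have hrec : ∀ p, pl6 (ψ p) l₂ = p.1.1 ∧ pl6 (ψ p) l₁ = p.1.2.1 ∧ pl6 (ψ p) l₄ = p.1.2.2.1 ∧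
      pl6 (ψ p) l₃ = p.1.2.2.2 := by
    intro p
    simp only [ψ, pl6_add_left, pl6_smul_left, h01, h02, hu₁, h12, g1, g2, g31, g32, g03, g13, g33, g24, g04, g14,
      g23, g34, show pl6 l₁ l₁ = 0 from orth _ _, show pl6 l₂ l₁ = 0 from orth _ _, show pl6 l₃ l₁ = 0 from orth _ _,
      show pl6 l₄ l₁ = 0 from orth _ _, show pl6 l₁ l₂ = 0 from orth _ _, show pl6 l₂ l₂ = 0 from orth _ _,
      show pl6 l₃ l₂ = 0 from orth _ _, show pl6 l₄ l₂ = 0 from orth _ _, show pl6 l₁ l₃ = 0 from orth _ _,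
      show pl6 l₂ l₃ = 0 from orth _ _, show pl6 l₃ l₃ = 0 from orth _ _, show pl6 l₄ l₃ = 0 from orth _ _,
      show pl6 l₁ l₄ = 0 from orth _ _, show pl6 l₂ l₄ = 0 from orth _ _, show pl6 l₃ l₄ = 0 from orth _ _,
      show pl6 l₄ l₄ = 0 from orth _ _]
    simp
  have hinj : Function.Injective ψ := by
    rintro ⟨⟨a, b, c, e⟩, x₁, x₂, x₃, x₄⟩ ⟨⟨a', b', c', e'⟩, y₁, y₂, y₃, y₄⟩ h
    obtain ⟨r1, r2, r3, r4⟩ := hrec ⟨⟨a, b, c, e⟩, x₁, x₂, x₃, x₄⟩
    obtain ⟨r1', r2', r3', r4'⟩ := hrec ⟨⟨a', b', c', e'⟩, y₁, y₂, y₃, y₄⟩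
    rw [h] at r1 r2 r3 r4
    obtain rfl := r1.symm.trans r1'
    obtain rfl := r2.symm.trans r2'
    obtain rfl := r3.symm.trans r3'
    obtain rfl := r4.symm.trans r4'
    replace h := add_left_cancel h
    have k2 := congrArg (pl6 u₀) h
    have k1 := congrArg (pl6 u₁) h
    have k4 := congrArg (pl6 u₂) h
    have k3 := congrArg (pl6 u₃) h
    simp only [pl6_add_right, pl6_smul_right, h01, h02, hu₁, h12, g1, g2, g31, g32, g03, g13, g33, g24, g04, g14,
      g23, g34, mul_zero, mul_one, add_zero, zero_add] at k1 k2 k3 k4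
    rw [k1, k2, k3, k4]
  have h := Fintype.card_le_of_injective ψ hinj
  simp [Fintype.card_prod] at h

/-- A word lifts to the simple group. -/
theorem word_elt : ∀ (w : List (ℕ × ℕ)), (∀ p ∈ w, Adm p) →
    ∃ h ∈ Om, ∀ x, act h x = vmk (xc x) (yc x) (wf w (pr x))
  | [], _ => ⟨1, one_mem _, fun x => by rw [act_one]; exact (vmk_eta x).symm⟩
  | p :: w, hw => by
    obtain ⟨h, hh, he⟩ := word_elt w fun q hq => hw q (List.mem_cons_of_mem _ hq)
    obtain ⟨k, hk, hke⟩ := exists_sig (hw p List.mem_cons_self).1 (hw p List.mem_cons_self).2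
    exact ⟨k * h, mul_mem hk hh, fun x => by rw [act_mul, he, hke, xc_vmk, yc_vmk, pr_vmk]; rfl⟩

theorem wf_smul (w : List (ℕ × ℕ)) (s : ZMod 2) (u : W6) : wf w (s • u) = s • wf w u := by
  rcases two_cases s with rfl | rfl
  · rw [zero_smul, zero_smul, wf_zero]
  · rw [one_smul, one_smul]

theorem wf_sig (w : List (ℕ × ℕ)) (hw : ∀ p ∈ w, Adm p) (l d u : W6) :
    wf w (sig l d u) = sig (wf w l) (wf w d) (wf w u) := by
  simp only [sig, wf_add, wf_smul, q6_wf w hw, pl6_wf w hw]

/-- The reference transformation at two singular vectors. -/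
def tAf (x : Vec) : Vec := vmk (xc x) (yc x) (sig e0 e1 (pr x))

theorem exists_tA : ∃ g ∈ Om, ∀ x, act g x = tAf x := exists_sig ref_facts.1 ref_facts.2.2.1

theorem sig_e_invol (u : W6) : sig e0 e1 (sig e0 e1 u) = u := by revert u; decide +kernel

theorem tAf_sieg (c : W6) (x : Vec) : tAf (sieg c x) = sieg (sig e0 e1 c) (tAf x) := by
  rw [tAf, sieg, xc_vmk, yc_vmk, pr_vmk, tAf, sieg_vmk, sig_add, sig_smul, pl6_sig ref_facts.1 ref_facts.2.2.1,
    q6_sig ref_facts.1 ref_facts.2.2.1]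

theorem tAf_tAf (x : Vec) : tAf (tAf x) = x := by
  rw [tAf, tAf, xc_vmk, yc_vmk, pr_vmk, sig_e_invol, vmk_eta]

theorem reduce_c : ∀ c : W6, pl6 c e0 = 0 → pl6 c e1 = 0 →
    ∃ d : W6, c + sig e0 e1 d + d ∈ [0, e2, g2, dd] := by decide +kernel

theorem sig_fix : ∀ c : W6, sig e0 e1 c = c → pl6 c e0 = 0 ∧ pl6 c e1 = 0 := by decide +kernel

/-- The shapes of the normal forms. -/
def Shape (k : Iso8) : Prop :=
  (∃ c, ∀ x, act k x = sieg c x) ∨ ∃ c, (c = 0 ∨ c = e2 ∨ c = g2 ∨ c = dd) ∧ ∀ x, act k x = tAf (sieg c x)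

theorem shape_mem {k : Iso8} (h : Shape k) : k ∈ Om := by
  rcases h with ⟨c, hc⟩ | ⟨c, -, hc⟩
  · obtain ⟨g, hg, e⟩ := exists_S c
    exact (iso_ext fun x => by rw [e, hc] : g = k) ▸ hg
  · obtain ⟨g, hg, e⟩ := exists_S c
    obtain ⟨a, ha, ea⟩ := exists_tA
    exact (iso_ext fun x => by rw [act_mul, e, ea, hc] : a * g = k) ▸ mul_mem ha hg

/-- Involutions with alternate action at the reference point. -/
theorem shape_of_point {k : Iso8} (h2 : k * k = 1) (hw : act k w0 = w0)
    (halt : ∀ u, qf (act k (inW u) + inW u) = 0) : ∃ h ∈ Om, Shape (h * k * h⁻¹) := by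
  have hy : ∀ u, yc (act k (inW u)) = 0 := fun u => (yc_act hw _).trans (yc_vmk _ _ _)
  set s : W6 → W6 := fun u => pr (act k (inW u)) with hs
  have hpr : ∀ x, yc x = 0 → pr (act k x) = s (pr x) := fun x hx => by
    conv_lhs => rw [decomp x, hx, zero_smul, add_zero, act_add, act_smul, hw, pr_add]
    rcases two_cases (xc x) with e | e <;> rw [e]
    · rw [zero_smul, show pr (0 : Vec) = 0 from by decide +kernel, add_zero]
    · rw [one_smul, pr_w0, add_zero]
  have hadd : ∀ a b, s (a + b) = s a + s b := fun a b => by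
    simp only [hs]
    rw [show inW (a + b) = inW a + inW b by simp [inW, vmk_add], act_add, pr_add]
  have hss : ∀ u, s (s u) = u := fun u => by
    show s (pr (act k (inW u))) = u
    rw [← hpr _ (hy u), ← act_mul, h2, act_one, inW, pr_vmk]
  have hq : ∀ u, q6 (s u) = q6 u := fun u => by
    have h := qf_act k (inW u)
    rw [qf_inW, ← vmk_eta (act k (inW u)), qf_vmk, hy, mul_zero, zero_add] at h
    exact h
  have halt' : ∀ u, q6 (s u + u) = 0 := fun u => by
    have h := halt u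
    rw [← vmk_eta (act k (inW u)), hy] at h
    rw [inW, vmk_add, qf_vmk, add_zero, add_zero, mul_zero, zero_add] at h
    exact h
  rcases six_alt s hadd hss hq halt' with hid | ⟨l₁, l₂, ⟨q1, q2, q12, n1, n2, n21⟩, hsig⟩
  · refine ⟨1, one_mem _, Or.inl ⟨pr (act k f0), fun x => ?_⟩⟩
    rw [one_mul, inv_one, mul_one]
    exact eq_sieg hw (fun v hv => by rw [hpr v hv, hid]) x
  obtain ⟨w, hwm, hw1⟩ := sing_reach l₁ q1 n1
  have hadm := singTbl_adm w hwm
  obtain ⟨w', hwm', hw2⟩ := sing2_reach (wf w l₂) (by rw [q6_wf w hadm, q2])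
    (fun e => n2 (not_not.1 fun hne => wf_ne hadm hne (e.trans wf_zero.symm)))
    (fun e => wf_ne hadm n21 (e.trans hw1.symm)) (by rw [← hw1, pl6_wf w hadm, q12])
  have hadm' := sing2Tbl_adm w' hwm'
  obtain ⟨h₁, hh₁, e₁⟩ := word_elt w hadm
  obtain ⟨h₂, hh₂, e₂⟩ := word_elt w' fun p hp => (hadm' p hp).1
  set H := h₂ * h₁ with hH
  have hHact : ∀ x, act H x = vmk (xc x) (yc x) (wf w' (wf w (pr x))) := fun x => by
    rw [hH, act_mul, e₁, e₂, xc_vmk, yc_vmk, pr_vmk]
  set K := H * k * H⁻¹ with hK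
  have hHw : act H w0 = w0 := by rw [hHact, pr_w0, wf_zero, wf_zero]; rfl
  have hHiw : act H⁻¹ w0 = w0 := act_injective H (by rw [← act_mul, mul_inv_cancel, act_one, hHw])
  have hK2 : K * K = 1 := by
    rw [hK, show H * k * H⁻¹ * (H * k * H⁻¹) = H * (k * k) * H⁻¹ by group, h2]; group
  have hKw : act K w0 = w0 := by rw [hK, act_mul, act_mul, hHiw, hw, hHw]
  have hKpr : ∀ x, yc x = 0 → pr (act K x) = sig e0 e1 (pr x) := fun x hx => by
    have hy' : yc (act H⁻¹ x) = 0 := (yc_act hHiw x).trans hx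
    have hx' : wf w' (wf w (pr (act H⁻¹ x))) = pr x := by
      have h := congrArg pr (hHact (act H⁻¹ x))
      rw [← act_mul, mul_inv_cancel, act_one, pr_vmk] at h
      exact h.symm
    rw [hK, act_mul, act_mul, hHact, pr_vmk, hpr _ hy', hsig, wf_sig w hadm,
      wf_sig w' fun p hp => (hadm' p hp).1, hw1, hw2, wf_fix w' fun p hp => (hadm' p hp).2, hx']
  obtain ⟨A, hA, hAe⟩ := exists_tA
  set c := pr (act (A * K) f0) with hc
  have hS : ∀ x, act (A * K) x = sieg c x := eq_sieg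
    (by rw [act_mul, hKw, hAe, tAf, pr_w0, sig, pl6_zero_left, pl6_zero_left]; simp [w0, xc_vmk, yc_vmk])
    fun v hv => by rw [act_mul, hAe, tAf, pr_vmk, hKpr v hv, sig_e_invol]
  have hKe : ∀ x, act K x = tAf (sieg c x) := fun x => by
    rw [← hS, act_mul A K, hAe, tAf_tAf]
  have hc0 : sig e0 e1 c = c := by
    have h : act K (act K f0) = f0 := by rw [← act_mul, hK2, act_one]
    rw [hKe, hKe, tAf_sieg c (tAf (sieg c f0)), tAf_tAf, sieg_sieg] at h
    have h' := congrArg pr h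
    rw [sieg_f0, pr_f0] at h'
    exact add_eq_zero6.1 h'
  obtain ⟨d, hd⟩ := reduce_c c (sig_fix c hc0).1 (sig_fix c hc0).2
  obtain ⟨T, hT, hTe⟩ := exists_S d
  have hTinv : T⁻¹ = T := inv_eq_of_mul_eq_one_right (iso_ext fun x => by
    rw [act_mul, hTe, hTe, sieg_inv, act_one])
  refine ⟨T * H, mul_mem hT (mul_mem hh₂ hh₁), Or.inr ⟨c + sig e0 e1 d + d, by simpa using hd, fun x => ?_⟩⟩
  rw [show T * H * k * (T * H)⁻¹ = T * K * T⁻¹ by rw [hK]; group, hTinv, act_mul, act_mul, hTe, hKe, hTe, sieg_sieg]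
  have e : tAf (sieg (c + sig e0 e1 d + d) x) = sieg d (tAf (sieg (c + d) x)) := by
    have ed : sieg d (tAf (sieg (c + d) x)) = tAf (sieg (sig e0 e1 d) (sieg (c + d) x)) := by
      rw [tAf_sieg (sig e0 e1 d), sig_e_invol]
    rw [ed, sieg_sieg, show c + sig e0 e1 d + d = sig e0 e1 d + (c + d) by abel]
  rw [e]

/-- Alternate involutions. -/
theorem shape_alt {k : Iso8} (h2 : k * k = 1) (hD : ∀ x, qf (act k x + x) = 0) :
    ∃ h ∈ Om, Shape (h * k * h⁻¹) := by
  by_cases h1 : ∀ x, act k x = x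
  · exact ⟨1, one_mem _, Or.inl ⟨0, fun x => by rw [one_mul, inv_one, mul_one, h1, sieg_zero]⟩⟩
  push Not at h1
  obtain ⟨v₀, hv₀⟩ := h1
  set p := act k v₀ + v₀ with hp
  have hp0 : p ≠ 0 := fun h => hv₀ (add_eq_zero8.1 h)
  have hpk : act k p = p := by rw [hp, act_add, ← act_mul, h2, act_one, add_comm]
  obtain ⟨h, hh, hhp⟩ := move_singular hp0 w0_ne (hD v₀) qf_w0
  have e : ∀ x, act (h * k * h⁻¹) x + x = act h (act k (act h⁻¹ x) + act h⁻¹ x) := fun x => by
    rw [act_add, act_mul, act_mul, ← act_mul h h⁻¹ x, mul_inv_cancel, act_one]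
  obtain ⟨h', hh', hS⟩ := shape_of_point (k := h * k * h⁻¹) (by
      rw [show h * k * h⁻¹ * (h * k * h⁻¹) = h * (k * k) * h⁻¹ by group, h2]; group)
    (by
      have : act h⁻¹ w0 = p := by rw [← hhp, ← act_mul, inv_mul_cancel, act_one]
      rw [act_mul, act_mul, this, hpk, hhp])
    (fun u => by rw [e, qf_act, hD])
  exact ⟨h' * h, mul_mem hh' hh, by rwa [show h' * h * k * (h' * h)⁻¹ = h' * (h * k * h⁻¹) * h'⁻¹ by group]⟩

/-- Every involution of the simple group has a normal form. -/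
theorem shape_exists {k : Iso8} (hk : k ∈ Om) (h2 : k * k = 1) : ∃ h ∈ Om, Shape (h * k * h⁻¹) := by
  obtain ⟨m, hmk, hm⟩ := exists_centre h2
  by_cases hm0 : m = 0
  · exact shape_alt h2 fun x => by
      rw [hm, hm0]
      exact (pl_comm x 0).trans (CfsgLib.Perm.Trans.Quad.pzero_left qf_nd x)
  rcases two_cases (qf m) with hq | hq
  · obtain ⟨h, hh, hhm⟩ := move_singular hm0 w0_ne hq qf_w0
    have hinv : act h⁻¹ w0 = m := by rw [← hhm, ← act_mul, inv_mul_cancel, act_one]
    obtain ⟨h', hh', hS⟩ := shape_of_point (k := h * k * h⁻¹) (by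
        rw [show h * k * h⁻¹ * (h * k * h⁻¹) = h * (k * k) * h⁻¹ by group, h2]; group)
      (by rw [act_mul, act_mul, hinv, hmk, hhm])
      (fun u => by
        have e : act (h * k * h⁻¹) (inW u) + inW u = act h (act k (act h⁻¹ (inW u)) + act h⁻¹ (inW u)) := by
          rw [act_add, act_mul, act_mul, ← act_mul h h⁻¹ (inW u), mul_inv_cancel, act_one]
        rw [e, qf_act, hm, ← hinv]
        show QuadraticMap.polar qf _ _ = 0
        rw [pol_act]
        exact (pl_w0 _).trans (yc_vmk _ _ _))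
    exact ⟨h' * h, mul_mem hh' hh, by rwa [show h' * h * k * (h' * h)⁻¹ = h' * (h * k * h⁻¹) * h'⁻¹ by group]⟩
  · exfalso
    obtain ⟨r, hr⟩ := exists_refl' hq
    have hcomm : k * r * k⁻¹ = r := isReflAct_unique (hmk ▸ isReflAct_of_conj (g := k) hr) hr
    have hkr : k * r = r * k := mul_inv_eq_iff_eq_mul.1 hcomm
    have hr2 : r * r = 1 := iso_ext fun x => by
      rw [act_mul, hr x, hr, act_one]
      show x + pl x m • m + pl (x + pl x m • m) m • m = x
      rw [pl_add_left, pl_smul_left, show pl m m = 0 from CoOneType.pol_self m, mul_zero, add_zero, add_assoc,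
        vec_add_self, add_zero]
    have h2' : k * r * (k * r) = 1 := by
      calc k * r * (k * r) = k * (r * k) * r := by group
        _ = k * k * (r * r) := by rw [← hkr]; group
        _ = 1 := by rw [h2, hr2, mul_one]
    obtain ⟨h, hh, hS⟩ := shape_alt h2' fun x => by
      rw [act_mul, hr x, act_add, act_smul, hmk,
        show act k x + QuadraticMap.polar qf x m • m + x = (act k x + x) + pl x m • m by
          show act k x + pl x m • m + x = _
          abel]
      rw [qf_add, hm, pl_smul_right, pl_add_left,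
        show pl (act k x) m = pl x m by
          conv_lhs => rw [← hmk]
          exact pol_act k x m,
        show qf (pl x m • m) = pl x m ^ 2 * qf m from CfsgLib.Perm.Trans.Quad.qsmul qf_nd _ _, hq]
      rcases two_cases (pl x m) with e | e <;> rw [e] <;> decide
    have hmem : k * r ∈ Om := by
      have h' := mul_mem (mul_mem (inv_mem hh) (shape_mem hS)) hh
      rwa [show h⁻¹ * (h * (k * r) * h⁻¹) * h = k * r by group] at h'
    exact refl_notMem hq hr (by simpa [mul_assoc] using mul_mem (inv_mem hk) hmem)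

end

end CfsgLib.Spor.CoOneClasses
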