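import Cfsg.Agent.Lib.Spor.CoOneClasses.BoundData
import Cfsg.Agent.Lib.Spor.CoOneClasses.Classify
import Cfsg.Agent.Lib.Spor.CoOneType.Unip

/-!
# The reference products are not conjugate to the central involution
-/

set_option autoImplicit false
set_option synthInstance.maxSize 4096

namespace CfsgLib.Spor.CoOneClasses

open Subgroup
open CfsgLib.Spor.CoOneType (Vec qf Iso8 Om Setup mem_cz conj_eq_iff_comm act act_one act_mul act_add
  act_injective pol_act iso_ext two_cases qf_nd move_singular vec_add_self dMap dMap_apply card_range_mul)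

noncomputable section

/-- An involution has a fixed space of at least sixteen vectors. -/
theorem fix_ge {k : Iso8} (h2 : k * k = 1) : 16 ≤ Nat.card {x : Vec // act k x = x} := by
  have h := card_range_mul k
  have hle : (dMap k).range ≤ (dMap k).ker := by
    rintro _ ⟨x, rfl⟩
    show dMap k (dMap k x) = 0
    rw [dMap_apply, dMap_apply, act_add, ← act_mul, h2, act_one]
    exact add_eq_zero8.2 (add_comm _ _)
  have h1 := AddSubgroup.card_le_of_le hle
  have h3 : 256 ≤ Nat.card (dMap k).ker * Nat.card (dMap k).ker := h.symm.le.trans (Nat.mul_le_mul_right _ h1)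
  have h4 : 16 ≤ Nat.card (dMap k).ker := by nlinarith
  refine h4.trans (le_of_eq (Nat.card_congr (Equiv.subtypeEquivRight fun x => ?_)))
  show dMap k x = 0 ↔ _
  rw [dMap_apply, add_eq_zero8]

variable {G : Type*} [Group G] [Finite G] {z : G} {Q : Subgroup G} {v : G → Vec} {ρ : G → Iso8}

/-- The centralizer of an involution in the extraspecial group has order at least sixteen. -/
theorem cent_ge (S : Setup z Q v ρ) {t : G} (ht : t ∈ centralizer ({z} : Set G)) (ht2 : t * t = 1) :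
    16 ≤ Nat.card (Q ⊓ centralizer ({t} : Set G) : Subgroup G) := by
  classical
  have h2 : ρ t * ρ t = 1 := by rw [← S.ρ_mul t ht t ht, ht2, S.ρ_one]
  have hw := fix_ge h2
  choose q hq hqv using fun w : {x : Vec // act (ρ t) x = x} => S.v_surj w.1
  have key : ∀ {a : G}, a ∈ Q → act (ρ t) (v a) = v a → t * a * t⁻¹ = a ∨ t * a * t⁻¹ = a * z := fun ha h =>
    (S.v_eq (S.norm ht ha) ha).1 (by rw [S.ρ_act t ht _ ha, h])
  let Kf : Subgroup G :=
    { carrier := {a | a ∈ Q ∧ act (ρ t) (v a) = v a}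
      one_mem' := ⟨one_mem _, by rw [S.v_one]; exact CoOneType.act_zero _⟩
      mul_mem' := fun {a b} ha hb => ⟨mul_mem ha.1 hb.1, by rw [S.v_mul a ha.1 b hb.1, act_add, ha.2, hb.2]⟩
      inv_mem' := fun {a} ha => ⟨inv_mem ha.1, by rw [S.v_inv ha.1, ha.2]⟩ }
  have h32 : 32 ≤ Nat.card Kf := by
    let f : {x : Vec // act (ρ t) x = x} × ZMod 2 → Kf := fun p =>
      ⟨q p.1 * z ^ p.2.val, mul_mem (hq p.1) (pow_mem S.core.mem _), by
        have hv : v (q p.1 * z ^ p.2.val) = p.1.1 := by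
          rcases two_cases p.2 with e | e <;> rw [e]
          · rw [ZMod.val_zero, pow_zero, mul_one, hqv]
          · rw [ZMod.val_one, pow_one, S.v_mul_z (hq p.1), hqv]
        rw [hv, p.1.2]⟩
    have hinj : Function.Injective f := by
      rintro ⟨w, s⟩ ⟨w', s'⟩ e
      replace e : q w * z ^ s.val = q w' * z ^ s'.val := congrArg Subtype.val e
      have hv : ∀ (w) (s : ZMod 2), v (q w * z ^ s.val) = w.1 := fun w s => by
        rcases two_cases s with e | e <;> rw [e]
        · rw [ZMod.val_zero, pow_zero, mul_one, hqv]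
        · rw [ZMod.val_one, pow_one, S.v_mul_z (hq w), hqv]
      obtain rfl : w = w' := Subtype.ext (by rw [← hv w s, e, hv])
      have e' := mul_left_cancel e
      refine Prod.ext rfl ?_
      rcases two_cases s with rfl | rfl <;> rcases two_cases s' with rfl | rfl <;>
        first | rfl | (simp [ZMod.val_one] at e'; exact absurd e' S.z_ne) |
          (simp [ZMod.val_one] at e'; exact absurd e'.symm S.z_ne)
    have := Nat.card_le_card_of_injective f hinj
    rw [Nat.card_prod, Nat.card_zmod] at this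
    omega
  by_cases hall : ∀ a ∈ Kf, t * a = a * t
  · have hle : Kf ≤ Q ⊓ centralizer ({t} : Set G) := fun a ha =>
      ⟨ha.1, mem_centralizer_singleton_iff.2 (hall a ha).symm⟩
    have := h32.trans (card_le_of_le hle)
    omega
  push Not at hall
  obtain ⟨b, hb, hbt⟩ := hall
  have eb := (key hb.1 hb.2).resolve_left fun e => hbt (conj_eq_iff_comm.1 e)
  have hprod : ∀ a ∈ Kf, t * a ≠ a * t → a * b ∈ Q ⊓ centralizer ({t} : Set G) := by
    intro a ha hat
    have ea := (key ha.1 ha.2).resolve_left fun e => hat (conj_eq_iff_comm.1 e)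
    refine ⟨mul_mem ha.1 hb.1, mem_centralizer_singleton_iff.2 (conj_eq_iff_comm.1 ?_).symm⟩
    rw [show t * (a * b) * t⁻¹ = (t * a * t⁻¹) * (t * b * t⁻¹) by group, ea, eb, mul_assoc a, ← mul_assoc z,
      ← S.cz hb.1, mul_assoc b, S.zz, mul_one]
  let φ : Kf → (Q ⊓ centralizer ({t} : Set G) : Subgroup G) × Bool := fun a =>
    if h : t * a.1 = a.1 * t then (⟨a.1, a.2.1, mem_centralizer_singleton_iff.2 h.symm⟩, true)
    else (⟨a.1 * b, hprod a.1 a.2 h⟩, false)
  have hinj : Function.Injective φ := by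
    intro a a' e
    simp only [φ] at e
    split_ifs at e with h₁ h₂ h₂
    · exact Subtype.ext (congrArg (fun p => p.1.1) e)
    · simp at e
    · simp at e
    · exact Subtype.ext (mul_right_cancel (congrArg (fun p => p.1.1) e))
  have := Nat.card_le_card_of_injective φ hinj
  rw [Nat.card_prod, Nat.card_eq_fintype_card (α := Bool), Fintype.card_bool] at this
  omega

namespace Pt

variable {g : G} (F : Pt z Q v ρ g)
include F

/-- Elements of the extraspecial group of a neighbour. -/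
theorem inQ_facts {u j : G} (hu : u ∈ centralizer ({z} : Set G)) (hjQ : j * z * j⁻¹ ∈ Q) (hjne : j * z * j⁻¹ ≠ z)
    (huj : u ∈ Q.map (MulAut.conj j).toMonoidHom) (huQ : u ∉ Q) :
    (∃ w, act (ρ u) w + w = v (j * z * j⁻¹)) ∧
      ∀ q ∈ Q, act (ρ u) (v q) = v q → pl (v q) (v (j * z * j⁻¹)) = 0 → u * q = q * u := by
  have S := F.setup
  set i := j * z * j⁻¹ with hi
  have hi1 : i ≠ 1 := (S.conj j).z_ne
  obtain ⟨h, hh, hhw⟩ := move_singular (S.v_ne hjQ hi1 hjne) w0_ne ((S.v_sq i hjQ).2 (S.conj j).zz) qf_w0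
  obtain ⟨c, hc, rfl⟩ := S.ρ_surj h hh
  have hjc : c * j * z * (c * j)⁻¹ = c * i * c⁻¹ := by rw [hi]; group
  have F' : Pt z Q v ρ (c * j) := ⟨S, by rw [hjc]; exact S.norm hc hjQ, by rw [hjc, S.ρ_act c hc i hjQ, hhw]⟩
  set u' := c * u * c⁻¹ with hu'
  have hu'R : u' ∈ F'.R' := by
    refine ⟨mem_map_conj.2 ?_, Subgroup.mul_mem _ (Subgroup.mul_mem _ hc hu) (Subgroup.inv_mem _ hc)⟩
    rw [show (c * j)⁻¹ * u' * (c * j) = j⁻¹ * u * j by rw [hu']; group]
    exact mem_map_conj.1 huj
  have hρu' : ∀ x, act (ρ u') (act (ρ c) x) = act (ρ c) (act (ρ u) x) := fun x => by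
    rw [hu', S.ρ_mul _ (mul_mem hc hu) _ (inv_mem hc), S.ρ_mul c hc u hu, act_mul, act_mul, S.ρ_inv hc,
      ← act_mul (ρ c)⁻¹, inv_mul_cancel, act_one]
  have hphi : F'.phi u' ≠ 0 := by
    intro e
    obtain ⟨s, t, e'⟩ := F'.phi_zero hu'R e
    refine huQ ?_
    have : u' ∈ Q := e' ▸ (F'.zi_mem s t).1
    have h' := S.norm (inv_mem hc) this
    rw [hu'] at h'
    simpa [mul_assoc] using h'
  refine ⟨?_, fun q hq hfix hp => ?_⟩
  · obtain ⟨y, hy⟩ := exists_pl6_one hphi
    refine ⟨act (ρ c)⁻¹ (inW y), act_injective (ρ c) ?_⟩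
    rw [act_add, ← hρu', ← act_mul (ρ c) (ρ c)⁻¹, mul_inv_cancel, act_one, F'.rho_R' hu'R, sieg_diff, inW,
      pr_vmk, yc_vmk, pl6_comm, hy, zero_mul, zero_smul, add_zero, hhw]
    rfl
  · set q' := c * q * c⁻¹ with hq'
    have hq'Q : q' ∈ Q := S.norm hc hq
    have hv' : v q' = act (ρ c) (v q) := S.ρ_act c hc q hq
    have hq'R : q' ∈ F'.R := F'.mem_R.2 ⟨hq'Q, by
      rw [hv', ← pl_w0, ← hhw]
      exact (pol_act (ρ c) (v q) (v i)).trans hp⟩
    have hsw := F'.swap_rule hq'R hu'R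
    have he : pl6 (pr (v q')) (F'.phi u') = 0 := by
      have h1 : act (ρ u') (v q') = v q' := by rw [hv', hρu', hfix]
      rw [F'.rho_R' hu'R, ← add_eq_zero8, sieg_diff, (F'.mem_R.1 hq'R).2, zero_mul, add_zero, zero_smul] at h1
      exact congrArg xc h1
    rw [he, F'.zi_zero, one_mul] at hsw
    calc u * q = c⁻¹ * (u' * q') * c := by rw [hu', hq']; group
      _ = c⁻¹ * (q' * u') * c := by rw [hsw]
      _ = _ := by rw [hu', hq']; group

/-- Commuting with a product, inside the extraspecial group. -/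
theorem form_comm {a c : W6} {x q : G} (hx : F.Form a c x) (hq : q ∈ F.R) (h1 : pl6 (pr (v q)) a = 0)
    (h2 : pl6 (pr (v q)) c = 0) : q * x = x * q := by
  obtain ⟨q₀, hq₀, r₀, hr₀, rfl, rfl, rfl⟩ := hx
  have e1 : q * q₀ = q₀ * q := by
    have h := F.conj_R hq hq₀
    rw [h1, F.zi_zero, one_mul] at h
    exact conj_eq_iff_comm.1 h
  have e2 : q * r₀ = r₀ * q := by
    have h := F.conj_R' hq hr₀
    rw [h2, F.zi_zero, one_mul] at h
    exact conj_eq_iff_comm.1 h
  exact ((show Commute q q₀ from e1).mul_right e2).eq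

/-- The parameters read off from commuting with a product. -/
theorem form_comm_iff {a c : W6} {x q : G} (hx : F.Form a c x) (hq : q ∈ F.R) (h : q * x = x * q) :
    pl6 (pr (v q)) a = 0 ∧ pl6 (pr (v q)) c = 0 := by
  obtain ⟨q₀, hq₀, r₀, hr₀, rfl, rfl, rfl⟩ := hx
  have h' : q * (q₀ * r₀) * q⁻¹ = q₀ * r₀ := conj_eq_iff_comm.2 h
  rw [show q * (q₀ * r₀) * q⁻¹ = (q * q₀ * q⁻¹) * (q * r₀ * q⁻¹) by group, F.conj_R hq hq₀, F.conj_R' hq hr₀,
    show ∀ A B : G, A * q₀ * (B * r₀) = A * (q₀ * B) * r₀ from fun A B => by group, F.central_R hq₀] at h'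
  rw [← mul_assoc, F.zi_add, mul_assoc, mul_eq_right] at h'
  obtain ⟨h1, h2⟩ := F.zi_eq_one h'
  rw [zero_add] at h2
  rw [h2, add_zero] at h1
  exact ⟨h1, h2⟩

/-- The reference products are not conjugate to the central involution. -/
theorem form_not_z {a c : W6} {t : G} (ht : F.Form a c t) (ht2 : t * t = 1) (ha : a ≠ 0) (hc : c ≠ 0)
    (hac : c ≠ a) (hb : Bound a c) : ¬ IsConj z t := by
  classical
  intro hcon
  obtain ⟨k, hk⟩ := isConj_iff.1 hcon
  have S := F.setup
  have hzc := F.form_cz ht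
  have htQ : t ∉ Q := F.form_notMem ht hc
  have htne : t ≠ z := fun e => htQ (e ▸ S.core.mem)
  set Qt := Q.map (MulAut.conj k).toMonoidHom with hQt
  have St := S.conj k
  have hQ1 : Q.map (MulAut.conj (1 : G)).toMonoidHom = Q := by
    rw [map_one]; exact Subgroup.map_id Q
  have hzQt : z ∉ Qt := fun h => htQ (by
    have h' := mutual_conj S (j := 1) (k := k) (by
      rw [show (1 : G) * z * (1 : G)⁻¹ = z by group]; exact h) (by rw [hk]; simpa using htne.symm)
    rw [hQ1, hk] at h'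
    exact h')
  have hinter : ∀ b ∈ Q, b ∈ Qt → b = 1 := by
    intro b hb' hbt
    by_contra hb1
    have hb2 : b * b = 1 := by
      rcases S.core.sq_eq b hb' with e | e
      · exact e
      · rcases St.core.sq_eq b hbt with e' | e'
        · exact e'
        · exact absurd ((e.symm.trans e').trans hk).symm htne
    have hbz : b ≠ z := fun e => hzQt (e ▸ hbt)
    obtain ⟨j, rfl⟩ := S.all_conj F.mem F.pt_ne hb' hb2 (S.v_ne hb' hb1 hbz)
    have hne : j * z * j⁻¹ ≠ k * z * k⁻¹ := fun e => htQ (by rw [← hk, ← e]; exact hb')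
    have hmem := mutual_conj S (j := j) (k := k) hbt hne
    rw [hk] at hmem
    obtain ⟨⟨w, hw⟩, hcomm⟩ := F.inQ_facts hzc hb' hbz hmem htQ
    rw [F.form_rho ht, sieg_diff] at hw
    obtain ⟨m, hma, hmc⟩ := solve_pair ha hc hac 1 0
    obtain ⟨q, hq, hqm⟩ := F.R_surj m
    have hfix : act (ρ t) (v q) = v q := by
      rw [F.form_rho ht, ← add_eq_zero8, sieg_diff, (F.mem_R.1 hq).2, hqm, hmc, zero_mul, add_zero, zero_smul]
      decide +kernel
    have hp : pl (v q) (v (j * z * j⁻¹)) = 0 := by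
      rw [← hw, pl_eq, (F.mem_R.1 hq).2, yc_vmk, pr_vmk, hqm, pl6_smul_right, hmc]; ring
    have h := (F.form_comm_iff ht hq (hcomm q hq.1 hfix hp).symm).1
    rw [hqm, hma] at h
    exact one_ne_zero h
  set t' := k⁻¹ * z * k with ht'
  have hkt' : k * t' * k⁻¹ = z := by rw [ht']; group
  have htz : k⁻¹ * t * k = z := by rw [← hk]; group
  have ht'C : t' ∈ centralizer ({z} : Set G) := by
    rw [mem_cz]
    calc t' * z = k⁻¹ * (z * t) * k := by rw [ht', ← htz]; group
      _ = k⁻¹ * (t * z) * k := by rw [mem_cz.1 hzc]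
      _ = z * t' := by rw [ht', ← htz]; group
  have ht'2 : t' * t' = 1 := by
    rw [ht', show k⁻¹ * z * k * (k⁻¹ * z * k) = k⁻¹ * (z * z) * k by group, S.zz]; group
  set P : Subgroup G := (Q ⊓ centralizer ({t'} : Set G)).map (MulAut.conj k).toMonoidHom with hP
  have hP16 : 16 ≤ Nat.card P := by
    rw [hP, card_map_of_injective (show Function.Injective (MulAut.conj k).toMonoidHom from (MulAut.conj k).injective)]
    exact cent_ge S ht'C ht'2
  have hmemP : ∀ p ∈ P, p ∈ Qt ∧ p ∈ centralizer ({z} : Set G) ∧ p ∈ centralizer ({t} : Set G) := by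
    rintro _ ⟨n, ⟨hn, hn'⟩, rfl⟩
    refine ⟨⟨n, hn, rfl⟩, mem_cz.2 ?_, mem_cz.2 ?_⟩
    · show k * n * k⁻¹ * z = z * (k * n * k⁻¹)
      rw [← hkt', show k * n * k⁻¹ * (k * t' * k⁻¹) = k * (n * t') * k⁻¹ by group, mem_cz.1 hn']; group
    · show k * n * k⁻¹ * t = t * (k * n * k⁻¹)
      rw [← hk, show k * n * k⁻¹ * (k * z * k⁻¹) = k * (n * z) * k⁻¹ by group, S.cz hn]; group
  have hfixK : ∀ p ∈ P, ∀ w, KPerp a c w → act (ρ p) w = w := by
    intro p hp w ⟨hy, h1, h2⟩
    obtain ⟨hpQt, hpz, -⟩ := hmemP p hp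
    obtain ⟨q, hq, rfl⟩ := S.v_surj w
    have hqR : q ∈ F.R := F.mem_R.2 ⟨hq, hy⟩
    have hqt : q ∈ centralizer ({k * z * k⁻¹} : Set G) := by
      rw [hk]; exact mem_cz.2 (F.form_comm ht hqR h1 h2)
    have hd : p * q * p⁻¹ * q⁻¹ ∈ Qt := by
      rw [show p * q * p⁻¹ * q⁻¹ = p * (q * p⁻¹ * q⁻¹) by group]
      exact mul_mem hpQt (St.norm hqt (inv_mem hpQt))
    have h := mul_inv_eq_one.1 (hinter _ (mul_mem (S.norm hpz hq) (inv_mem hq)) hd)
    rw [← S.ρ_act p hpz q hq, h]
  obtain ⟨u₁, hu₁, hu₁'⟩ := solve_pair ha hc hac 1 0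
  obtain ⟨u₂, hu₂, hu₂'⟩ := solve_pair ha hc hac 0 1
  have hdiff : ∀ p ∈ P, ∀ u, ∃ e, act (ρ p) u + u = comb a c e := fun p hp u => hb.1 _ fun w hw => by
    have h : pl (act (ρ p) u) (act (ρ p) w) = pl u w := pol_act _ u w
    rw [hfixK p hp w hw] at h
    rw [pl_add_left, h, CharTwo.add_self_eq_zero]
  choose e he using fun p : P => hdiff p.1 p.2
  let coeff : P → _ := fun p => (e p f0, e p (inW u₁), e p (inW u₂))
  have hform : ∀ (p : P) x, act (ρ p.1) x = cand a c (coeff p) x := by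
    intro p x
    set x' := x + yc x • f0 + pl6 (pr x) a • inW u₁ + pl6 (pr x) c • inW u₂ with hx'
    have hK : KPerp a c x' := by
      have hpr : pr x' = pr x + pl6 (pr x) a • u₁ + pl6 (pr x) c • u₂ := by
        rw [hx', pr_add, pr_add, pr_add]
        rcases two_cases (yc x) with e | e <;> rcases two_cases (pl6 (pr x) a) with e' | e' <;>
          rcases two_cases (pl6 (pr x) c) with e'' | e'' <;>
          simp [e, e', e'', inW, pr_vmk, pr_f0, show pr (0 : Vec) = 0 from by decide +kernel]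
      refine ⟨?_, ?_, ?_⟩
      · rw [hx', yc_add, yc_add, yc_add]
        rcases two_cases (yc x) with e | e <;> rcases two_cases (pl6 (pr x) a) with e' | e' <;>
          rcases two_cases (pl6 (pr x) c) with e'' | e'' <;>
          simp [e, e', e'', inW, yc_vmk, yc_f0, show yc (0 : Vec) = 0 from rfl] <;> decide
      · rw [hpr, pl6_add_left, pl6_add_left, pl6_smul_left, pl6_smul_left, hu₁, hu₂, mul_one, mul_zero, add_zero,
          CharTwo.add_self_eq_zero]
      · rw [hpr, pl6_add_left, pl6_add_left, pl6_smul_left, pl6_smul_left, hu₁', hu₂', mul_one, mul_zero, add_zero,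
          CharTwo.add_self_eq_zero]
    have h := hfixK p.1 p.2 x' hK
    rw [hx', act_add, act_add, act_add, act_smul, act_smul, act_smul] at h
    have h1 : ∀ u, act (ρ p.1) u = u + comb a c (e p u) := fun u => by
      rw [← he p u, add_comm (act (ρ p.1) u) u, ← add_assoc, vec_add_self, zero_add]
    rw [h1 f0, h1 (inW u₁), h1 (inW u₂)] at h
    simp only [smul_add] at h
    rw [cand]
    show _ = x + yc x • comb a c (e p f0) + pl6 (pr x) a • comb a c (e p (inW u₁)) +
      pl6 (pr x) c • comb a c (e p (inW u₂))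
    generalize yc x • comb a c (e p f0) = A at h ⊢
    generalize pl6 (pr x) a • comb a c (e p (inW u₁)) = B at h ⊢
    generalize pl6 (pr x) c • comb a c (e p (inW u₂)) = D at h ⊢
    generalize yc x • f0 = A' at h
    generalize pl6 (pr x) a • inW u₁ = B' at h
    generalize pl6 (pr x) c • inW u₂ = D' at h
    generalize act (ρ p.1) x = X at h ⊢
    have h' : X + (A + B + D) = x := add_right_cancel (b := A' + B' + D') (by
      rw [show X + (A + B + D) + (A' + B' + D') = X + (A' + A) + (B' + B) + (D' + D) by abel, h]; abel)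
    calc X = X + (A + B + D) + (A + B + D) := by rw [add_assoc, vec_add_self, add_zero]
      _ = _ := by rw [h']; abel
  let Φ : P → {p // ∀ x, qf (cand a c p x) = qf x ∧ cand a c p (sieg c x) = sieg c (cand a c p x)} := fun p =>
    ⟨coeff p, fun x => by
      obtain ⟨-, hpz, hpt⟩ := hmemP p.1 p.2
      refine ⟨by rw [← hform]; exact CoOneType.qf_act _ _, ?_⟩
      rw [← hform, ← hform, ← F.form_rho ht, ← F.form_rho ht, ← act_mul, ← act_mul, ← S.ρ_mul _ hpz t hzc,
        ← S.ρ_mul t hzc _ hpz, mem_cz.1 hpt]⟩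
  have hinj : Function.Injective Φ := by
    intro p p' h
    have h' : coeff p = coeff p' := congrArg Subtype.val h
    obtain ⟨hpQt, hpz, -⟩ := hmemP p.1 p.2
    obtain ⟨hpQt', hpz', -⟩ := hmemP p'.1 p'.2
    have hρ : ρ p.1 = ρ p'.1 := iso_ext fun x => by rw [hform, hform, h']
    refine Subtype.ext (inv_mul_eq_one.1 (hinter _ ((S.ρ_ker _ (mul_mem (inv_mem hpz) hpz')).1 ?_)
      (mul_mem (inv_mem hpQt) hpQt')))
    rw [S.ρ_mul _ (inv_mem hpz) _ hpz', S.ρ_inv hpz, hρ, inv_mul_cancel]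
  have hle := Nat.card_le_card_of_injective Φ hinj
  rw [Nat.card_eq_fintype_card (α := {p // ∀ x, qf (cand a c p x) = qf x ∧
    cand a c p (sieg c x) = sieg c (cand a c p x)})] at hle
  have := hP16.trans (hle.trans hb.2)
  omega

end Pt

end

end CfsgLib.Spor.CoOneClasses
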