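import Cfsg.Agent.Lib.Spor.CoOneClasses.NotCentral

/-!
# The centralizers of the reference products: orders
-/

set_option autoImplicit false
set_option synthInstance.maxSize 4096

namespace CfsgLib.Spor.CoOneClasses

open Subgroup
open CfsgLib.Spor.CoOneType (Vec qf Iso8 Om Setup mem_cz conj_eq_iff_comm act act_one act_mul act_add act_zero
  act_injective qf_act iso_ext two_cases qf_nd)

noncomputable section

theorem card_sing : Fintype.card {w : Vec // qf w = 0 ∧ w ≠ 0} = 135 := by decide +kernel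

theorem range_point : ∀ w : Vec, qf (sieg cE w + w) = 0 → sieg cE w + w ≠ 0 → sieg cE w + w = w0 := by
  decide +kernel

theorem range_point_exists : ∃ w : Vec, sieg cE w + w = w0 := by decide +kernel

theorem card_singPair : Nat.card {p : W6 × W6 // SingPair p.1 p.2} = 630 := by
  rw [← pairs_count.1, ← Nat.card_eq_fintype_card]
  exact Nat.card_congr (Equiv.subtypeEquivRight fun p => Iff.rfl)

theorem card_anisPair : Nat.card {p : W6 × W6 // AnisPair p.1 p.2} = 336 := by
  rw [← pairs_count.2, ← Nat.card_eq_fintype_card]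
  exact Nat.card_congr (Equiv.subtypeEquivRight fun p => Iff.rfl)

variable {G : Type*} [Group G] [Finite G]

/-- The orbit formula for a subgroup acting by conjugation. -/
theorem card_orbit_conj (D : Subgroup G) (x : G) :
    Nat.card {y : G // ∃ c ∈ D, c * x * c⁻¹ = y} * Nat.card (D ⊓ centralizer ({x} : Set G) : Subgroup G) =
      Nat.card D := by
  letI : MulAction D G :=
    { smul := fun d a => (d : G) * a * (d : G)⁻¹
      one_smul := fun a => by show ((1 : D) : G) * a * ((1 : D) : G)⁻¹ = a; simp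
      mul_smul := fun d e a => by
        show ((d * e : D) : G) * a * ((d * e : D) : G)⁻¹ = (d : G) * ((e : G) * a * (e : G)⁻¹) * (d : G)⁻¹
        rw [coe_mul]; group }
  have h := (MulAction.stabilizer D x).card_mul_index
  rw [MulAction.index_stabilizer, mul_comm, ← Nat.card_coe_set_eq] at h
  refine Eq.trans (congrArg₂ (· * ·) (Nat.card_congr (Equiv.subtypeEquivRight fun y => ?_))
    (Nat.card_congr ?_)) h
  · exact ⟨fun ⟨c, hc, e⟩ => ⟨⟨c, hc⟩, e⟩, fun ⟨c, e⟩ => ⟨c, c.2, e⟩⟩
  · exact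
      { toFun := fun a => ⟨⟨a.1, a.2.1⟩, by
          show a.1 * x * a.1⁻¹ = x
          rw [mem_centralizer_singleton_iff.1 a.2.2, mul_inv_cancel_right]⟩
        invFun := fun d => ⟨d.1.1, d.1.2, mem_centralizer_singleton_iff.2
          (mul_inv_eq_iff_eq_mul.1 (show (d.1 : G) * x * (d.1 : G)⁻¹ = x from d.2))⟩
        left_inv := fun a => rfl
        right_inv := fun d => rfl }

variable {z : G} {Q : Subgroup G} {v : G → Vec} {ρ : G → Iso8}

/-- The order of the centralizer of the involution. -/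
theorem card_C (S : Setup z Q v ρ) : Nat.card (centralizer ({z} : Set G)) = 89181388800 := by
  let f : centralizer ({z} : Set G) →* Iso8 := MonoidHom.mk' (fun c => ρ c.1) fun a b => S.ρ_mul _ a.2 _ b.2
  have hr : f.range = Om := by
    ext x
    constructor
    · rintro ⟨c, rfl⟩; exact S.ρ_mem _ c.2
    · intro hx
      obtain ⟨c, hc, e⟩ := S.ρ_surj x hx
      exact ⟨⟨c, hc⟩, e⟩
  have hk : Nat.card f.ker = 512 := by
    rw [show f.ker = Q.subgroupOf (centralizer ({z} : Set G)) by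
      ext c; rw [MonoidHom.mem_ker, mem_subgroupOf]; exact S.ρ_ker _ c.2,
      Nat.card_congr (subgroupOfEquivOfLe fun a ha => S.le ha).toEquiv, S.card]
  have h := f.ker.card_mul_index
  rw [index_ker, hr, hk, show Nat.card Om = 174182400 from Fi22Eight.card_om] at h
  omega

namespace Pt

variable {g : G} (F : Pt z Q v ρ g)

/-- The centralizer of both involutions. -/
abbrev M (F : Pt z Q v ρ g) : Subgroup G := centralizer ({z} : Set G) ⊓ centralizer ({F.pt} : Set G)

include F

theorem orbit_pt : Nat.card {y : G // ∃ c ∈ centralizer ({z} : Set G), c * F.pt * c⁻¹ = y} = 270 := by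
  classical
  have S := F.setup
  choose q hq hqv using fun w : {w : Vec // qf w = 0 ∧ w ≠ 0} => S.v_surj w.1
  have hv : ∀ (w) (s : ZMod 2), v (q w * z ^ s.val) = w.1 := fun w s => by
    rcases two_cases s with e | e <;> rw [e]
    · rw [ZMod.val_zero, pow_zero, mul_one, hqv]
    · rw [ZMod.val_one, pow_one, S.v_mul_z (hq w), hqv]
  let f : {w : Vec // qf w = 0 ∧ w ≠ 0} × ZMod 2 → {y : G // ∃ c ∈ centralizer ({z} : Set G), c * F.pt * c⁻¹ = y} :=
    fun p => ⟨q p.1 * z ^ p.2.val, by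
      have hm : q p.1 * z ^ p.2.val ∈ Q := mul_mem (hq p.1) (pow_mem S.core.mem _)
      exact S.inv_conj F.mem hm F.pp ((S.v_sq _ hm).1 (by rw [hv]; exact p.1.2.1))
        (by rw [F.val]; exact w0_ne) (by rw [hv]; exact p.1.2.2)⟩
  have hbij : Function.Bijective f := by
    constructor
    · rintro ⟨w, s⟩ ⟨w', s'⟩ e
      replace e : q w * z ^ s.val = q w' * z ^ s'.val := congrArg Subtype.val e
      obtain rfl : w = w' := Subtype.ext (by rw [← hv w s, e, hv])
      have e' := mul_left_cancel e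
      refine Prod.ext rfl ?_
      rcases two_cases s with rfl | rfl <;> rcases two_cases s' with rfl | rfl <;>
        first | rfl | (simp [ZMod.val_one] at e'; exact absurd e' S.z_ne) |
          (simp [ZMod.val_one] at e'; exact absurd e'.symm S.z_ne)
    · rintro ⟨y, c, hc, rfl⟩
      have hy : c * F.pt * c⁻¹ ∈ Q := S.norm hc F.mem
      have hvy : v (c * F.pt * c⁻¹) = act (ρ c) w0 := by rw [S.ρ_act c hc _ F.mem, F.val]
      let w : {w : Vec // qf w = 0 ∧ w ≠ 0} := ⟨v (c * F.pt * c⁻¹), by rw [hvy, qf_act, qf_w0],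
        fun e => w0_ne (act_injective (ρ c) (by rw [← hvy, e, act_zero]))⟩
      rcases (S.v_eq hy (hq w)).1 (hqv w).symm with e | e
      · exact ⟨(w, 0), Subtype.ext (by show q w * z ^ (0 : ZMod 2).val = _; rw [ZMod.val_zero, pow_zero, mul_one]; exact e.symm)⟩
      · exact ⟨(w, 1), Subtype.ext (by show q w * z ^ (1 : ZMod 2).val = _; rw [ZMod.val_one, pow_one]; exact e.symm)⟩
  rw [← Nat.card_eq_of_bijective f hbij, Nat.card_prod, Nat.card_zmod, Nat.card_eq_fintype_card, card_sing]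

theorem card_M : Nat.card F.M = 330301440 := by
  have h := card_orbit_conj (centralizer ({z} : Set G)) F.pt
  rw [F.orbit_pt, card_C F.setup] at h
  show Nat.card (centralizer ({z} : Set G) ⊓ centralizer ({F.pt} : Set G) : Subgroup G) = _
  omega

theorem form_unique {a a' c c' : W6} {x : G} (h : F.Form a c x) (h' : F.Form a' c' x) : a = a' ∧ c = c' := by
  have hc : c = c' := by rw [← sieg_f0 c, ← F.form_rho h, F.form_rho h', sieg_f0]
  subst hc
  obtain ⟨q, hq, r, hr, rfl, hrc, rfl⟩ := h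
  obtain ⟨q', hq', r', hr', rfl, hrc', e⟩ := h'
  obtain ⟨s, t, rfl⟩ := F.phi_eq hr hr' (hrc.trans hrc'.symm)
  refine ⟨?_, rfl⟩
  have h2 : q = q' * F.zi s t := mul_right_cancel (b := r) (by rw [e, F.central_R' hr]; group)
  rw [h2, F.pr_mul hq'.1 (F.zi_R s t).1, F.pr_v_zi, add_zero]

theorem card_forms (P : W6 → W6 → Prop) :
    Nat.card {x : G // ∃ a c, P a c ∧ F.Form a c x} = Nat.card {p : W6 × W6 // P p.1 p.2} * 4 := by
  classical
  choose rep hrep using fun p : W6 × W6 => F.exists_form p.1 p.2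
  let f : {p : W6 × W6 // P p.1 p.2} × (ZMod 2 × ZMod 2) → {x : G // ∃ a c, P a c ∧ F.Form a c x} := fun p =>
    ⟨F.zi p.2.1 p.2.2 * rep p.1.1, p.1.1.1, p.1.1.2, p.1.2, F.form_mul_zi (hrep _) _ _⟩
  have hbij : Function.Bijective f := by
    constructor
    · rintro ⟨⟨⟨a, c⟩, hp⟩, s, t⟩ ⟨⟨⟨a', c'⟩, hp'⟩, s', t'⟩ e
      replace e : F.zi s t * rep (a, c) = F.zi s' t' * rep (a', c') := congrArg Subtype.val e
      obtain ⟨rfl, rfl⟩ := F.form_unique (e ▸ F.form_mul_zi (hrep (a, c)) s t) (F.form_mul_zi (hrep (a', c')) s' t')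
      obtain ⟨rfl, rfl⟩ := F.zi_inj (mul_right_cancel e)
      rfl
    · rintro ⟨x, a, c, hp, hx⟩
      obtain ⟨q, hq, r, hr, hqa, hrc, rfl⟩ := hx
      obtain ⟨q₀, hq₀, r₀, hr₀, hqa₀, hrc₀, e₀⟩ := hrep (a, c)
      obtain ⟨s, t, e1⟩ : ∃ s t, q₀⁻¹ * q = F.zi s t := F.zi_of_zero (mul_mem (inv_mem hq₀) hq) (by
        rw [F.pr_mul (inv_mem hq₀.1) hq.1, F.setup.v_inv hq₀.1, hqa₀, hqa, w6_add_self])
      obtain ⟨s', t', e2⟩ := F.phi_eq hr₀ hr (hrc₀.trans hrc.symm)
      refine ⟨(⟨(a, c), hp⟩, (s + s', t + t')), Subtype.ext ?_⟩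
      show F.zi (s + s') (t + t') * rep (a, c) = q * r
      rw [e₀, eq_mul_of_inv_mul_eq e1, e2, ← F.zi_add]
      calc F.zi s t * F.zi s' t' * (q₀ * r₀) = F.zi s t * (F.zi s' t' * q₀) * r₀ := by group
        _ = F.zi s t * (q₀ * F.zi s' t') * r₀ := by rw [F.central_R hq₀]
        _ = F.zi s t * q₀ * (F.zi s' t' * r₀) := by group
        _ = F.zi s t * q₀ * (r₀ * F.zi s' t') := by rw [F.central_R' hr₀]
        _ = q₀ * F.zi s t * (r₀ * F.zi s' t') := by rw [F.central_R hq₀]
  rw [← Nat.card_eq_of_bijective f hbij, Nat.card_prod, Nat.card_prod, Nat.card_zmod]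

/-- Conjugating inside the centralizer of both involutions keeps the values of the parameters. -/
theorem form_M {a c : W6} {x h : G} (hh : h ∈ F.M) (hx : F.Form a c x) : ∃ a' c', F.Form a' c' (h * x * h⁻¹) ∧
    q6 a' = q6 a ∧ q6 c' = q6 c ∧ (a' = 0 → a = 0) ∧ (c' = 0 → c = 0) := by
  obtain ⟨q, hq, r, hr, rfl, rfl, rfl⟩ := hx
  have hq' := F.norm_R hh.1 hh.2 hq
  have hr' := F.norm_R' hh.1 hh.2 hr
  have hzi : ∀ s t, h * F.zi s t * h⁻¹ = F.zi s t := fun s t => conj_eq_iff_comm.2 (F.zi_comm hh.1 hh.2 s t)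
  refine ⟨pr (v (h * q * h⁻¹)), F.phi (h * r * h⁻¹), ⟨_, hq', _, hr', rfl, rfl, by group⟩, ?_, ?_, fun e => ?_,
    fun e => ?_⟩
  · have e := F.sq_R hq'
    rw [show h * q * h⁻¹ * (h * q * h⁻¹) = h * (q * q) * h⁻¹ by group, F.sq_R hq, hzi] at e
    exact (F.zi_inj e).1.symm
  · have e := F.square_rule hr'
    rw [show h * r * h⁻¹ * (h * r * h⁻¹) = h * (r * r) * h⁻¹ by group, F.square_rule hr, hzi] at e
    exact (F.zi_inj e).2.symm
  · obtain ⟨s, t, e'⟩ := F.zi_of_zero hq' e
    have : q = F.zi s t := by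
      refine mul_left_cancel (a := h) (mul_right_cancel (b := h⁻¹) ?_)
      rw [e', hzi]
    rw [this, F.pr_v_zi]
  · obtain ⟨s, t, e'⟩ := F.phi_zero hr' e
    have : r = F.zi s t := by
      refine mul_left_cancel (a := h) (mul_right_cancel (b := h⁻¹) ?_)
      rw [e', hzi]
    rw [this, F.phi_zi]

theorem sing_invol {a c : W6} {x : G} (hx : F.Form a c x) (h : SingPair a c) : x * x = 1 :=
  (F.form_invol hx).2 ⟨h.1.trans h.2.2.1.symm, h.2.1.trans h.2.2.1.symm⟩

theorem anis_invol {a c : W6} {x : G} (hx : F.Form a c x) (h : AnisPair a c) : x * x = 1 :=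
  (F.form_invol hx).2 ⟨h.1.trans h.2.2.symm, h.2.1.trans h.2.2.symm⟩

theorem sing_not_z {a c : W6} {x : G} (hx : F.Form a c x) (h : SingPair a c) : ¬ IsConj z x := by
  obtain ⟨y, hy⟩ := F.exists_form e0 e1
  exact fun hz => F.form_not_z hy (F.sing_invol hy ref_sing) ref_sing.2.2.2.1 ref_sing.2.2.2.2.1 ref_sing.2.2.2.2.2
    bound_sing (hz.trans (F.cconj_isConj (F.mconj_cconj (F.form_sing hx h hy))))

theorem anis_not_z {a c : W6} {x : G} (hx : F.Form a c x) (h : AnisPair a c) : ¬ IsConj z x := by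
  obtain ⟨y, hy⟩ := F.exists_form aE cE
  exact fun hz => F.form_not_z hy (F.anis_invol hy ref_anis) ref_anis.ne.1 ref_anis.ne.2.1 ref_anis.ne.2.2
    bound_anis (hz.trans (F.cconj_isConj (F.mconj_cconj (F.form_anis hx h hy))))

/-- The centralizer of a singular product in the centralizer of both involutions. -/
theorem card_sing_cent {x : G} (hx : F.Form e0 e1 x) :
    Nat.card (F.M ⊓ centralizer ({x} : Set G) : Subgroup G) = 131072 := by
  classical
  have hset : ∀ y, (∃ h ∈ F.M, h * x * h⁻¹ = y) ↔ ∃ a c, SingPair a c ∧ F.Form a c y := by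
    intro y
    constructor
    · rintro ⟨h, hh, rfl⟩
      obtain ⟨a', c', hf, q1, q2, n1, n2⟩ := F.form_M hh hx
      refine ⟨a', c', ?_, hf⟩
      have hc' : c' ≠ 0 := fun e => ref_sing.2.2.2.2.1 (n2 e)
      have ha' : a' ≠ 0 := fun e => ref_sing.2.2.2.1 (n1 e)
      have h2 : h * x * h⁻¹ * (h * x * h⁻¹) = 1 := by
        rw [show h * x * h⁻¹ * (h * x * h⁻¹) = h * (x * x) * h⁻¹ by group, F.sing_invol hx ref_sing]; group
      rcases F.form_cases hf h2 hc' with ⟨hqc, ha | ha⟩ | hs | ha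
      · exact absurd ha ha'
      · exfalso
        subst ha
        obtain ⟨w, hw1, hw2⟩ := F.form_shift hf
        rw [w6_add_self] at hw2
        obtain ⟨q, hq, r, hr, hqa, -, rfl⟩ := hw2
        obtain ⟨s, t, rfl⟩ := F.zi_of_zero hq hqa
        have hconj : IsConj x (F.zi s t * r) :=
          (isConj_iff.2 ⟨h, rfl⟩ : IsConj x (h * x * h⁻¹)).trans (F.cconj_isConj hw1)
        obtain ⟨m, hm⟩ := isConj_iff.1 hconj
        have hw2' : F.zi s t * r * (F.zi s t * r) = 1 := by
          rw [← hm, show m * x * m⁻¹ * (m * x * m⁻¹) = m * (x * x) * m⁻¹ by group, F.sing_invol hx ref_sing]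
          group
        have hwQ : F.zi s t * r ∉ Q := by
          intro hQ
          have h1 : F.phi (F.zi s t * r) = 0 := by
            show pr (act (ρ (F.zi s t * r)) f0) = 0
            rw [F.setup.ρ_of_mem hQ, act_one, pr_f0]
          rw [F.phi_mul (F.zi_R' s t) hr, F.phi_zi, zero_add] at h1
          have hh' : (h * x * h⁻¹) ∈ Q := by
            obtain ⟨k, hk, hk'⟩ := hw1
            have h' := F.setup.norm (inv_mem hk) hQ
            rw [← hk'] at h'
            simpa [mul_assoc] using h'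
          exact F.form_notMem hf hc' hh'
        obtain ⟨d, hd⟩ := F.si.all_conj (g := g⁻¹) (by
          rw [show g⁻¹ * F.pt * g⁻¹⁻¹ = z by group]; exact F.z_mem) (by
          rw [show g⁻¹ * F.pt * g⁻¹⁻¹ = z by group]; exact F.pt_ne.symm)
          (mul_mem (F.zi_mem s t).2 hr.1) hw2'
          (F.si.v_ne (mul_mem (F.zi_mem s t).2 hr.1) (fun e => hwQ (e ▸ one_mem Q)) (fun e => hwQ (e ▸ F.mem)))
        exact F.sing_not_z hx ref_sing
          ((isConj_iff.2 ⟨d * g, by rw [← hd]; group⟩ : IsConj z (F.zi s t * r)).trans hconj.symm)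
      · exact hs
      · rw [AnisPair, q1] at ha
        exact absurd (ref_sing.1.symm.trans ha.1) zero_ne_one
    · rintro ⟨a, c, h, hy⟩
      obtain ⟨k, hk, hk', e⟩ := F.form_sing hy h hx
      exact ⟨k⁻¹, ⟨Subgroup.inv_mem _ hk, Subgroup.inv_mem _ hk'⟩, by rw [← e]; group⟩
  have h := card_orbit_conj F.M x
  rw [Nat.card_congr (Equiv.subtypeEquivRight hset), F.card_forms SingPair, F.card_M,
    card_singPair] at h
  omega

/-- The centralizer of an anisotropic product in the centralizer of both involutions. -/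
theorem card_anis_cent {x : G} (hx : F.Form aE cE x) :
    Nat.card (F.M ⊓ centralizer ({x} : Set G) : Subgroup G) = 245760 := by
  classical
  have hset : ∀ y, (∃ h ∈ F.M, h * x * h⁻¹ = y) ↔ ∃ a c, AnisPair a c ∧ F.Form a c y := by
    intro y
    constructor
    · rintro ⟨h, hh, rfl⟩
      obtain ⟨a', c', hf, q1, q2, -, -⟩ := F.form_M hh hx
      refine ⟨a', c', ⟨q1.trans ref_anis.1, q2.trans ref_anis.2.1, ?_⟩, hf⟩
      have h2 := (F.form_invol hf).1 (by
        rw [show h * x * h⁻¹ * (h * x * h⁻¹) = h * (x * x) * h⁻¹ by group, F.anis_invol hx ref_anis]; group)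
      exact h2.1.symm.trans (q1.trans ref_anis.1)
    · rintro ⟨a, c, h, hy⟩
      obtain ⟨k, hk, hk', e⟩ := F.form_anis hy h hx
      exact ⟨k⁻¹, ⟨Subgroup.inv_mem _ hk, Subgroup.inv_mem _ hk'⟩, by rw [← e]; group⟩
  have h := card_orbit_conj F.M x
  rw [Nat.card_congr (Equiv.subtypeEquivRight hset), F.card_forms AnisPair, F.card_M,
    card_anisPair] at h
  omega

/-- The two-part of the centralizer of an anisotropic product in the centralizer of the involution is small. -/
theorem anis_cent_bound {a c : W6} {x : G} (hx : F.Form a c x) (ha : AnisPair a c) {T : Subgroup G}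
    (hT : IsPGroup 2 T) (hle : T ≤ centralizer ({z} : Set G) ⊓ centralizer ({x} : Set G)) :
    Nat.card T ≤ 32768 := by
  classical
  obtain ⟨y, hy⟩ := F.exists_form aE cE
  obtain ⟨h, hh, hh', e⟩ := F.form_anis hx ha hy
  set T' := T.map (MulAut.conj h).toMonoidHom with hT'
  set D := centralizer ({z} : Set G) ⊓ centralizer ({y} : Set G) with hD
  have hT'D : T' ≤ D := by
    rintro _ ⟨t, ht, rfl⟩
    obtain ⟨h1, h2⟩ := hle ht
    refine ⟨Subgroup.mul_mem _ (Subgroup.mul_mem _ hh h1) (Subgroup.inv_mem _ hh), mem_cz.2 ?_⟩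
    show h * t * h⁻¹ * y = y * (h * t * h⁻¹)
    rw [← e, show h * t * h⁻¹ * (h * x * h⁻¹) = h * (t * x) * h⁻¹ by group, mem_cz.1 h2]
    group
  have hcard : Nat.card T' = Nat.card T :=
    card_map_of_injective (show Function.Injective (MulAut.conj h).toMonoidHom from (MulAut.conj h).injective)
  have horb : Nat.card {w : G // ∃ d ∈ D, d * F.pt * d⁻¹ = w} ≤ 2 := by
    have hor : ∀ w, (∃ d ∈ D, d * F.pt * d⁻¹ = w) → w = F.pt ∨ w = F.pt * z := by
      rintro w ⟨d, ⟨hd, hdy⟩, rfl⟩
      refine (F.setup.v_eq (F.setup.norm hd F.mem) F.mem).1 ?_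
      rw [F.setup.ρ_act d hd _ F.mem, F.val]
      obtain ⟨u, hu⟩ := range_point_exists
      have hcomm : act (ρ d) (sieg cE u) = sieg cE (act (ρ d) u) := by
        rw [← F.form_rho hy, ← F.form_rho hy, ← act_mul, ← act_mul, ← F.setup.ρ_mul _ hd y (F.form_cz hy),
          ← F.setup.ρ_mul y (F.form_cz hy) d hd, mem_cz.1 hdy]
      have himg : act (ρ d) w0 = sieg cE (act (ρ d) u) + act (ρ d) u := by rw [← hu, act_add, hcomm]
      rw [himg]
      refine range_point _ (by rw [← himg, qf_act, qf_w0]) fun e' => w0_ne (act_injective (ρ d) ?_)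
      rw [himg, e', act_zero]
    let f : {w : G // ∃ d ∈ D, d * F.pt * d⁻¹ = w} → Bool := fun w => decide (w.1 = F.pt)
    have hf : Function.Injective f := fun w w' e => by
      have e' : (w.1 = F.pt) ↔ (w'.1 = F.pt) := by simpa [f] using e
      rcases hor _ w.2 with h1 | h1 <;> rcases hor _ w'.2 with h2 | h2
      · exact Subtype.ext (h1.trans h2.symm)
      · exact Subtype.ext (h1.trans (e'.1 h1).symm)
      · exact Subtype.ext ((e'.2 h2).trans h2.symm)
      · exact Subtype.ext (h1.trans h2.symm)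
    refine (Nat.card_le_card_of_injective f hf).trans ?_
    rw [Nat.card_eq_fintype_card, Fintype.card_bool]
  have horb1 : 1 ≤ Nat.card {w : G // ∃ d ∈ D, d * F.pt * d⁻¹ = w} := by
    haveI : Nonempty {w : G // ∃ d ∈ D, d * F.pt * d⁻¹ = w} := ⟨⟨F.pt, 1, one_mem _, by simp⟩⟩
    exact Nat.card_pos
  have hDc := card_orbit_conj D F.pt
  rw [show D ⊓ centralizer ({F.pt} : Set G) = F.M ⊓ centralizer ({y} : Set G) by
    rw [hD, M, inf_right_comm], F.card_anis_cent hy] at hDc
  obtain ⟨n, hn⟩ := (hT.map (MulAut.conj h).toMonoidHom).exists_card_eq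
  have hdvd : 2 ^ n ∣ Nat.card D := hn ▸ card_dvd_of_le hT'D
  have hn15 : n ≤ 15 := by
    by_contra hcon
    have h16 : 2 ^ 16 ∣ Nat.card D := (pow_dvd_pow 2 (by omega : 16 ≤ n)).trans hdvd
    rw [← hDc] at h16
    generalize Nat.card {w : G // ∃ d ∈ D, d * F.pt * d⁻¹ = w} = m at horb horb1 h16
    interval_cases m <;> norm_num at h16
  rw [← hcard, hn]
  exact Nat.pow_le_pow_right (by norm_num) hn15

end Pt

end

end CfsgLib.Spor.CoOneClasses
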