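import Cfsg.Agent.Lib.Spor.CoOneClasses.Invariant

/-!
# The two extraspecial groups at a pair of commuting conjugates of the involution
-/

set_option autoImplicit false
set_option synthInstance.maxSize 1024

namespace CfsgLib.Spor.CoOneClasses

open Subgroup
open CfsgLib.Spor.CoOneType (Vec qf Iso8 Om Setup mem_cz conj_eq_iff_comm act act_one act_mul act_add act_zero
  act_injective qf_act pol_act iso_ext two_cases qf_nd vec_add_self move_singular)
open scoped commutatorElement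

noncomputable section

variable {G : Type*} [Group G] [Finite G] {z : G} {Q : Subgroup G} {v : G → Vec} {ρ : G → Iso8}

theorem cubic (x y w : Vec) :
    qf (x + y + w) + qf (x + y) + qf (x + w) + qf (y + w) + qf x + qf y + qf w = 0 := by
  simp only [qf_add, pl_add_left]
  linear_combination (2 * qf x + 2 * qf y + 2 * qf w + pl x y + pl x w + pl y w) * CharTwo.two_eq_zero (R := ZMod 2)

theorem mem_map_conj {H : Subgroup G} {g x : G} : x ∈ H.map (MulAut.conj g).toMonoidHom ↔ g⁻¹ * x * g ∈ H := by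
  constructor
  · rintro ⟨a, ha, rfl⟩
    show g⁻¹ * (g * a * g⁻¹) * g ∈ H
    simpa [mul_assoc] using ha
  · exact fun h => ⟨_, h, show g * (g⁻¹ * x * g) * g⁻¹ = x by group⟩

theorem conj_map_eq (S : Setup z Q v ρ) {g k : G} (h : g * z * g⁻¹ = k * z * k⁻¹) :
    Q.map (MulAut.conj g).toMonoidHom = Q.map (MulAut.conj k).toMonoidHom := by
  have hc : k⁻¹ * g ∈ centralizer ({z} : Set G) := mem_cz.2 (conj_eq_iff_comm.1
    (by rw [show k⁻¹ * g * z * (k⁻¹ * g)⁻¹ = k⁻¹ * (g * z * g⁻¹) * k by group, h]; group))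
  refine eq_of_le_of_card_ge ?_ (by rw [card_map_of_injective (show Function.Injective (MulAut.conj g).toMonoidHom from (MulAut.conj g).injective),
    card_map_of_injective (show Function.Injective (MulAut.conj k).toMonoidHom from (MulAut.conj k).injective)])
  rintro _ ⟨a, ha, rfl⟩
  exact ⟨k⁻¹ * g * a * (k⁻¹ * g)⁻¹, S.norm hc ha,
    show k * (k⁻¹ * g * a * (k⁻¹ * g)⁻¹) * k⁻¹ = g * a * g⁻¹ by group⟩

theorem mutual_mem (S : Setup z Q v ρ) {g : G} (hgQ : g * z * g⁻¹ ∈ Q) (hne : g * z * g⁻¹ ≠ z) :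
    z ∈ Q.map (MulAut.conj g).toMonoidHom :=
  LargeQ.centre_mem_conj Q z S.core.ext S.core.center_iff S.core.ord S.core.cent S.core.norm
    (by rw [S.card]; norm_num) g hne hgQ

/-- The same between two conjugates. -/
theorem mutual_conj (S : Setup z Q v ρ) {j k : G} (h : j * z * j⁻¹ ∈ Q.map (MulAut.conj k).toMonoidHom)
    (hne : j * z * j⁻¹ ≠ k * z * k⁻¹) : k * z * k⁻¹ ∈ Q.map (MulAut.conj j).toMonoidHom := by
  have e : j * k⁻¹ * (k * z * k⁻¹) * (j * k⁻¹)⁻¹ = j * z * j⁻¹ := by group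
  obtain ⟨y, ⟨a, ha, rfl⟩, hy⟩ := mutual_mem (S.conj k) (g := j * k⁻¹) (by rw [e]; exact h) (by rw [e]; exact hne)
  exact ⟨a, ha, Eq.trans (show j * a * j⁻¹ = j * k⁻¹ * (k * a * k⁻¹) * (j * k⁻¹)⁻¹ by group) hy⟩

theorem xc_smul_w0 : ∀ t : ZMod 2, xc (t • w0) = t := by decide +kernel

/-- A non-central involution of the extraspecial group at the reference point, with a conjugating element. -/
structure Pt (z : G) (Q : Subgroup G) (v : G → Vec) (ρ : G → Iso8) (g : G) : Prop where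
  setup : Setup z Q v ρ
  mem : g * z * g⁻¹ ∈ Q
  val : v (g * z * g⁻¹) = w0

namespace Pt

variable {g : G} (F : Pt z Q v ρ g)

/-- The second involution. -/
abbrev pt (_F : Pt z Q v ρ g) : G := g * z * g⁻¹

/-- Its extraspecial group. -/
abbrev Qi (_F : Pt z Q v ρ g) : Subgroup G := Q.map (MulAut.conj g).toMonoidHom

/-- The first part. -/
def R (F : Pt z Q v ρ g) : Subgroup G := Q ⊓ centralizer ({F.pt} : Set G)

/-- The second part. -/
def R' (F : Pt z Q v ρ g) : Subgroup G := F.Qi ⊓ centralizer ({z} : Set G)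

/-- The coordinates at the second involution. -/
abbrev vi (_F : Pt z Q v ρ g) : G → Vec := fun a => v (g⁻¹ * a * g)

include F

theorem si : Setup F.pt F.Qi F.vi (fun c => ρ (g⁻¹ * c * g)) := F.setup.conj g

theorem pt_ne : F.pt ≠ z := fun e => w0_ne (by rw [← F.val, show g * z * g⁻¹ = z from e, F.setup.v_z])

theorem pt_ne_one : F.pt ≠ 1 := F.si.z_ne

theorem pp : F.pt * F.pt = 1 := F.si.zz

theorem pz : F.pt * z = z * F.pt := F.setup.cz F.mem

theorem z_mem : z ∈ F.Qi := mutual_mem F.setup F.mem F.pt_ne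

theorem mem_R {q : G} : q ∈ F.R ↔ q ∈ Q ∧ yc (v q) = 0 := by
  refine and_congr_right fun hq => ?_
  show q ∈ centralizer ({F.pt} : Set G) ↔ _
  rw [mem_cz, ← pl_w0, ← F.val]
  exact ((F.setup.v_comm q hq _ F.mem)).symm

theorem mem_R' {r : G} : r ∈ F.R' ↔ r ∈ F.Qi ∧ r * z = z * r := and_congr_right fun _ => mem_cz

theorem R'_cz {r : G} (hr : r ∈ F.R') : r ∈ centralizer ({z} : Set G) := hr.2

theorem R'_ci {r : G} (hr : r ∈ F.R') : r ∈ centralizer ({F.pt} : Set G) := F.si.le hr.1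

theorem R_surj (u : W6) : ∃ q ∈ F.R, pr (v q) = u := by
  obtain ⟨q, hq, e⟩ := F.setup.v_surj (vmk 0 0 u)
  exact ⟨q, F.mem_R.2 ⟨hq, by rw [e]; rfl⟩, by rw [e, pr_vmk]⟩

theorem v_of_R {q : G} (hq : q ∈ F.R) : v q = vmk (xc (v q)) 0 (pr (v q)) := by
  conv_lhs => rw [← vmk_eta (v q), (F.mem_R.1 hq).2]

/-- The elements of the four group. -/
def zi (_F : Pt z Q v ρ g) (s t : ZMod 2) : G := z ^ s.val * (g * z * g⁻¹) ^ t.val

theorem zi_zero : F.zi 0 0 = 1 := by simp [zi]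

theorem zi_z : F.zi 1 0 = z := by simp [zi, ZMod.val_one]

theorem zi_pt : F.zi 0 1 = F.pt := by simp [zi, ZMod.val_one]

theorem zi_mem (s t : ZMod 2) : F.zi s t ∈ Q ∧ F.zi s t ∈ F.Qi :=
  ⟨mul_mem (pow_mem F.setup.core.mem _) (pow_mem F.mem _), mul_mem (pow_mem F.z_mem _) (pow_mem F.si.core.mem _)⟩

theorem zi_comm {x : G} (h1 : x ∈ centralizer ({z} : Set G)) (h2 : x ∈ centralizer ({F.pt} : Set G)) (s t : ZMod 2) :
    x * F.zi s t = F.zi s t * x :=
  (((show Commute x z from mem_cz.1 h1).pow_right _).mul_right ((show Commute x F.pt from mem_cz.1 h2).pow_right _)).eq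

theorem zi_add (s t s' t' : ZMod 2) : F.zi s t * F.zi s' t' = F.zi (s + s') (t + t') := by
  have hc : Commute (F.pt ^ t.val) (z ^ s'.val) := (show Commute F.pt z from F.pz).pow_pow _ _
  have h : ∀ (x : G), x * x = 1 → ∀ a b : ZMod 2, x ^ a.val * x ^ b.val = x ^ (a + b).val := by
    intro x hx a b
    rcases two_cases a with rfl | rfl <;> rcases two_cases b with rfl | rfl <;>
      simp [ZMod.val_one, CharTwo.add_self_eq_zero, hx]
  calc F.zi s t * F.zi s' t' = z ^ s.val * (F.pt ^ t.val * z ^ s'.val) * F.pt ^ t'.val := by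
        simp only [zi, mul_assoc]
    _ = z ^ s.val * z ^ s'.val * (F.pt ^ t.val * F.pt ^ t'.val) := by rw [hc.eq]; simp only [mul_assoc]
    _ = _ := by rw [h z F.setup.zz, h F.pt F.pp]; rfl

theorem v_zi (s t : ZMod 2) : v (F.zi s t) = t • w0 := by
  rw [zi, F.setup.v_mul _ (pow_mem F.setup.core.mem _) _ (pow_mem F.mem _)]
  rcases two_cases s with rfl | rfl <;> rcases two_cases t with rfl | rfl <;>
    simp [ZMod.val_one, F.setup.v_one, F.setup.v_z, F.val]

theorem pr_v_zi (s t : ZMod 2) : pr (v (F.zi s t)) = 0 := by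
  rw [F.v_zi]
  rcases two_cases t with rfl | rfl
  · rw [zero_smul]; exact funext fun i => by rcases i with i | i <;> fin_cases i <;> rfl
  · rw [one_smul, pr_w0]

theorem zi_inj {s t s' t' : ZMod 2} (e : F.zi s t = F.zi s' t') : s = s' ∧ t = t' := by
  have ht : t = t' := by
    have h := congrArg xc (congrArg v e)
    rw [F.v_zi, F.v_zi, xc_smul_w0, xc_smul_w0] at h
    exact h
  subst ht
  have h2 := mul_right_cancel (show z ^ s.val * F.pt ^ t.val = z ^ s'.val * F.pt ^ t.val from e)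
  refine ⟨?_, rfl⟩
  rcases two_cases s with rfl | rfl <;> rcases two_cases s' with rfl | rfl <;>
    first | rfl | (simp [ZMod.val_one] at h2; exact absurd h2 F.setup.z_ne) |
      (simp [ZMod.val_one] at h2; exact absurd h2.symm F.setup.z_ne)

theorem zi_eq_one {s t : ZMod 2} (e : F.zi s t = 1) : s = 0 ∧ t = 0 := F.zi_inj (e.trans F.zi_zero.symm)

theorem zi_R (s t : ZMod 2) : F.zi s t ∈ F.R := ⟨(F.zi_mem s t).1, F.si.le (F.zi_mem s t).2⟩

theorem zi_R' (s t : ZMod 2) : F.zi s t ∈ F.R' := ⟨(F.zi_mem s t).2, F.setup.le (F.zi_mem s t).1⟩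

theorem zi_of_zero {q : G} (hq : q ∈ F.R) (h : pr (v q) = 0) : ∃ s t, q = F.zi s t := by
  have hv := F.v_of_R hq
  rw [h] at hv
  rcases two_cases (xc (v q)) with e | e <;> rw [e] at hv
  · rcases (F.setup.v_ker q hq.1).1 (hv.trans (by decide +kernel)) with e | e
    · exact ⟨0, 0, by rw [F.zi_zero, e]⟩
    · exact ⟨1, 0, by rw [F.zi_z, e]⟩
  · rcases (F.setup.v_eq hq.1 F.mem).1 (hv.trans F.val.symm) with e | e
    · exact ⟨0, 1, by rw [F.zi_pt, e]⟩
    · exact ⟨1, 1, by rw [e]; simp [zi, ZMod.val_one]; exact F.pz⟩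

theorem stab_lift {h : Iso8} (hh : h ∈ Om) (hw : act h w0 = w0) :
    ∃ c, c ∈ centralizer ({z} : Set G) ∧ c ∈ centralizer ({F.pt} : Set G) ∧ ρ c = h := by
  obtain ⟨c, hc, rfl⟩ := F.setup.ρ_surj h hh
  have hv : v (c * F.pt * c⁻¹) = v F.pt := by rw [F.setup.ρ_act c hc _ F.mem, F.val, hw]
  rcases (F.setup.v_eq (F.setup.norm hc F.mem) F.mem).1 hv with e | e
  · exact ⟨c, hc, mem_cz.2 (conj_eq_iff_comm.1 e), rfl⟩
  · obtain ⟨q, hq, eq⟩ := F.setup.exists_moving F.mem (by rw [F.val]; exact w0_ne)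
    refine ⟨q * c, mul_mem (F.setup.le hq) hc, mem_cz.2 (conj_eq_iff_comm.1 ?_), ?_⟩
    · calc q * c * F.pt * (q * c)⁻¹ = q * (c * F.pt * c⁻¹) * q⁻¹ := by group
        _ = (q * F.pt * q⁻¹) * (q * z * q⁻¹) := by rw [e]; group
        _ = F.pt := by rw [eq, F.setup.cz hq, mul_inv_cancel_right, mul_assoc, F.setup.zz, mul_one]
    · rw [F.setup.ρ_mul q (F.setup.le hq) c hc, F.setup.ρ_of_mem hq, one_mul]

theorem sig_lift {l d : W6} (hl : q6 l = 0) (hld : pl6 l d = 0) :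
    ∃ c, c ∈ centralizer ({z} : Set G) ∧ c ∈ centralizer ({F.pt} : Set G) ∧
      ∀ x, act (ρ c) x = vmk (xc x) (yc x) (sig l d (pr x)) := by
  obtain ⟨h, hh, he⟩ := exists_sig hl hld
  obtain ⟨c, hc, hci, hρ⟩ := F.stab_lift hh (by
    rw [he, pr_w0, xc_w0, yc_w0, sig, pl6_zero_left, pl6_zero_left]
    simp [w0])
  exact ⟨c, hc, hci, fun x => by rw [hρ, he]⟩

theorem norm_R {c q : G} (hc : c ∈ centralizer ({z} : Set G)) (hci : c ∈ centralizer ({F.pt} : Set G))
    (hq : q ∈ F.R) : c * q * c⁻¹ ∈ F.R :=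
  ⟨F.setup.norm hc hq.1,
    Subgroup.mul_mem _ (Subgroup.mul_mem _ hci hq.2) (Subgroup.inv_mem _ hci)⟩

theorem norm_R' {c r : G} (hc : c ∈ centralizer ({z} : Set G)) (hci : c ∈ centralizer ({F.pt} : Set G))
    (hr : r ∈ F.R') : c * r * c⁻¹ ∈ F.R' :=
  ⟨F.si.norm hci hr.1, Subgroup.mul_mem _ (Subgroup.mul_mem _ hc hr.2) (Subgroup.inv_mem _ hc)⟩

theorem inter_comm {a b : G} (ha : a ∈ Q) (ha' : a ∈ F.Qi) (hb : b ∈ Q) (hb' : b ∈ F.Qi) : a * b = b * a := by
  rcases F.setup.core.comm_eq a ha b hb with e | e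
  · exact mul_inv_eq_iff_eq_mul.1 (mul_inv_eq_one.1 e)
  · rcases F.si.core.comm_eq a ha' b hb' with e' | e'
    · exact absurd (e.symm.trans e') F.setup.z_ne
    · exact absurd (e'.symm.trans e) F.pt_ne

theorem inter_sq {a : G} (ha : a ∈ Q) (ha' : a ∈ F.Qi) : a * a = 1 := by
  rcases F.setup.core.sq_eq a ha with e | e
  · exact e
  · rcases F.si.core.sq_eq a ha' with e' | e'
    · exact absurd (e.symm.trans e') F.setup.z_ne
    · exact absurd (e'.symm.trans e) F.pt_ne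

/-- The two extraspecial groups meet in the four group. -/
theorem inter {a : G} (ha : a ∈ Q) (ha' : a ∈ F.Qi) : ∃ s t, a = F.zi s t := by
  have haR : a ∈ F.R := ⟨ha, F.si.le ha'⟩
  refine F.zi_of_zero haR ?_
  by_contra hu
  obtain ⟨l, hl, hul⟩ := exists_move_perp (pr (v a)) hu
  obtain ⟨d, hd, hld⟩ := exists_nons_perp l
  obtain ⟨c, hc, hci, hρ⟩ := F.sig_lift hl hld
  have hb : pr (v (c * a * c⁻¹)) = sig l d (pr (v a)) := by
    rw [F.setup.ρ_act c hc a ha, hρ, pr_vmk]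
  have hbQ : c * a * c⁻¹ ∈ Q := F.setup.norm hc ha
  have hbQi : c * a * c⁻¹ ∈ F.Qi := F.si.norm hci ha'
  have hbR := F.norm_R hc hci haR
  have h0 := (F.setup.v_comm a ha _ hbQ).2 (F.inter_comm ha ha' hbQ hbQi)
  change pl (v a) (v (c * a * c⁻¹)) = 0 at h0
  rw [F.v_of_R haR, F.v_of_R hbR, pl_vmk, hb, sig_move_pol _ _ _ hul, hd] at h0
  simp at h0

/-- The parameter of an element of the second part. -/
def phi (_F : Pt z Q v ρ g) (r : G) : W6 := pr (act (ρ r) f0)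

theorem comm_mem {q r : G} (hq : q ∈ F.R) (hr : r ∈ F.R') : r * q * r⁻¹ * q⁻¹ ∈ Q ∧ r * q * r⁻¹ * q⁻¹ ∈ F.Qi :=
  ⟨mul_mem (F.setup.norm hr.2 hq.1) (inv_mem hq.1), by
    rw [show r * q * r⁻¹ * q⁻¹ = r * (q * r⁻¹ * q⁻¹) by group]
    exact mul_mem hr.1 (F.si.norm hq.2 (inv_mem hr.1))⟩

theorem rho_R' {r : G} (hr : r ∈ F.R') : ∀ x, act (ρ r) x = sieg (F.phi r) x := by
  refine eq_sieg ?_ fun x hx => ?_
  · rw [← F.val, ← F.setup.ρ_act r hr.2 _ F.mem, conj_eq_iff_comm.2 (mem_cz.1 (F.R'_ci hr))]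
  · obtain ⟨q, hq, rfl⟩ := F.setup.v_surj x
    have hqR : q ∈ F.R := F.mem_R.2 ⟨hq, hx⟩
    obtain ⟨hd, hd'⟩ := F.comm_mem hqR hr
    obtain ⟨s, t, e⟩ := F.inter hd hd'
    have e2 : r * q * r⁻¹ = F.zi s t * q := by rw [← e]; group
    rw [← F.setup.ρ_act r hr.2 q hq, e2, F.setup.v_mul _ (F.zi_mem s t).1 q hq, pr_add, F.pr_v_zi, zero_add]

theorem phi_mul {r s : G} (hr : r ∈ F.R') (hs : s ∈ F.R') : F.phi (r * s) = F.phi r + F.phi s := by
  show pr (act (ρ (r * s)) f0) = _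
  rw [F.setup.ρ_mul r hr.2 s hs.2, act_mul, F.rho_R' hs, F.rho_R' hr, sieg_sieg, sieg_f0]

theorem phi_zero {r : G} (hr : r ∈ F.R') (h : F.phi r = 0) : ∃ s t, r = F.zi s t := by
  refine F.inter ((F.setup.ρ_ker r hr.2).1 (iso_ext fun x => ?_)) hr.1
  rw [F.rho_R' hr, h, sieg_zero, act_one]

theorem phi_zi (s t : ZMod 2) : F.phi (F.zi s t) = 0 := by
  show pr (act (ρ (F.zi s t)) f0) = 0
  rw [F.setup.ρ_of_mem (F.zi_mem s t).1, act_one, pr_f0]

theorem phi_eq {r s : G} (hr : r ∈ F.R') (hs : s ∈ F.R') (h : F.phi r = F.phi s) :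
    ∃ a b, s = r * F.zi a b := by
  obtain ⟨a, b, e⟩ := F.phi_zero (mul_mem (inv_mem hr) hs) (by
    have h1 := F.phi_mul hr (mul_mem (inv_mem hr) hs)
    rw [mul_inv_cancel_left, ← h] at h1
    exact add_eq_left.1 h1.symm)
  exact ⟨a, b, eq_mul_of_inv_mul_eq e⟩

theorem card_R' : Nat.card F.R' = 256 := by
  have hu0 : F.vi z ≠ 0 := F.si.v_ne F.z_mem F.setup.z_ne F.pt_ne.symm
  let f : ↥F.Qi →* Multiplicative (ZMod 2) :=
    MonoidHom.mk' (fun a => Multiplicative.ofAdd (pl (F.vi a) (F.vi z))) fun a b => by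
      show _ = Multiplicative.ofAdd _
      rw [Subgroup.coe_mul, F.si.v_mul _ a.2 _ b.2, pl_add_left]
      rfl
  have hsurj : Function.Surjective f := fun y => by
    obtain ⟨x, hx⟩ := exists_pl_one hu0
    rcases two_cases (Multiplicative.toAdd y) with e | e
    · exact ⟨1, by rw [map_one, ← ofAdd_toAdd y, e, ofAdd_zero]⟩
    · obtain ⟨a, ha, hva⟩ := F.si.v_surj x
      refine ⟨⟨a, ha⟩, ?_⟩
      show Multiplicative.ofAdd (pl (F.vi a) (F.vi z)) = y
      rw [hva, pl_comm, hx, ← e, ofAdd_toAdd]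
  have hker : F.R'.subgroupOf F.Qi = f.ker := by
    ext a
    rw [mem_subgroupOf, F.mem_R', MonoidHom.mem_ker]
    show _ ↔ Multiplicative.ofAdd (pl (F.vi a) (F.vi z)) = 1
    rw [← ofAdd_zero, Multiplicative.ofAdd.injective.eq_iff]
    exact ⟨fun h => (F.si.v_comm _ a.2 _ F.z_mem).2 h.2, fun h => ⟨a.2, (F.si.v_comm _ a.2 _ F.z_mem).1 h⟩⟩
  have h := f.ker.card_mul_index
  rw [index_ker, MonoidHom.range_eq_top.2 hsurj, Subgroup.card_top, ← hker,
    Nat.card_congr (subgroupOfEquivOfLe (show F.R' ≤ F.Qi from inf_le_left)).toEquiv,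
    Nat.card_congr Multiplicative.toAdd, Nat.card_zmod, F.si.card] at h
  omega

theorem phi_surj (c : W6) : ∃ r ∈ F.R', F.phi r = c := by
  let f : ↥F.R' →* Multiplicative W6 :=
    MonoidHom.mk' (fun r => Multiplicative.ofAdd (F.phi r)) fun r s => by
      show _ = Multiplicative.ofAdd _
      rw [Subgroup.coe_mul, F.phi_mul r.2 s.2]
      rfl
  have hker : Nat.card f.ker ≤ 4 := by
    have hsur : Function.Surjective (fun p : ZMod 2 × ZMod 2 =>
        (⟨⟨F.zi p.1 p.2, F.zi_R' p.1 p.2⟩, by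
          show Multiplicative.ofAdd (F.phi (F.zi p.1 p.2)) = 1
          rw [F.phi_zi]; rfl⟩ : f.ker)) := fun r => by
      obtain ⟨s, t, e⟩ := F.phi_zero r.1.2 (Multiplicative.ofAdd.injective (r.2.trans ofAdd_zero.symm))
      exact ⟨(s, t), Subtype.ext (Subtype.ext e.symm)⟩
    refine le_trans (Nat.card_le_card_of_surjective _ hsur) ?_
    rw [Nat.card_prod, Nat.card_zmod]
  have h := f.ker.card_mul_index
  rw [index_ker, F.card_R'] at h
  have hcard : Nat.card (Multiplicative W6) = 64 := by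
    rw [Nat.card_congr Multiplicative.toAdd, Nat.card_fun, Nat.card_zmod, Nat.card_eq_fintype_card]; rfl
  have hle := Subgroup.card_le_card_group f.range
  rw [hcard] at hle
  have h64 : Nat.card f.range = 64 := by nlinarith
  obtain ⟨r, hr⟩ : Multiplicative.ofAdd c ∈ f.range := by
    rw [Subgroup.eq_top_of_card_eq f.range (h64.trans hcard.symm)]; exact mem_top _
  exact ⟨r, r.2, Multiplicative.ofAdd.injective hr⟩

theorem pr_mul {p q : G} (hp : p ∈ Q) (hq : q ∈ Q) : pr (v (p * q)) = pr (v p) + pr (v q) := by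
  rw [F.setup.v_mul p hp q hq, pr_add]

theorem central_R {q : G} (hq : q ∈ F.R) (s t : ZMod 2) : q * F.zi s t = F.zi s t * q :=
  F.zi_comm (F.setup.le hq.1) hq.2 s t

theorem central_R' {r : G} (hr : r ∈ F.R') (s t : ZMod 2) : r * F.zi s t = F.zi s t * r :=
  F.zi_comm hr.2 (F.R'_ci hr) s t

theorem pr_conj {c q : G} {l d : W6} (hc : c ∈ centralizer ({z} : Set G))
    (he : ∀ x, act (ρ c) x = vmk (xc x) (yc x) (sig l d (pr x))) (hq : q ∈ Q) :
    pr (v (c * q * c⁻¹)) = sig l d (pr (v q)) := by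
  rw [F.setup.ρ_act c hc q hq, he, pr_vmk]

theorem phi_conj {c r : G} {l d : W6} (hc : c ∈ centralizer ({z} : Set G))
    (he : ∀ x, act (ρ c) x = vmk (xc x) (yc x) (sig l d (pr x))) (hr : r ∈ F.R') :
    F.phi (c * r * c⁻¹) = sig l d (F.phi r) := by
  have hf : act (ρ c)⁻¹ f0 = f0 := by
    refine act_injective (ρ c) ?_
    rw [← act_mul, mul_inv_cancel, act_one, he, xc_f0, yc_f0, pr_f0, sig, pl6_zero_left, pl6_zero_left]
    simp [f0]
  show pr (act (ρ (c * r * c⁻¹)) f0) = _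
  rw [F.setup.ρ_mul _ (mul_mem hc hr.2) _ (inv_mem hc), F.setup.ρ_mul c hc r hr.2, F.setup.ρ_inv hc, act_mul,
    act_mul, hf, F.rho_R' hr, he, pr_vmk, sieg_f0]

theorem comm_exists {q r : G} (hq : q ∈ F.R) (hr : r ∈ F.R') :
    ∃ s, r * q = F.zi s (pl6 (pr (v q)) (F.phi r)) * (q * r) := by
  obtain ⟨hd, hd'⟩ := F.comm_mem hq hr
  obtain ⟨s, t, e⟩ := F.inter hd hd'
  have e2 : r * q * r⁻¹ = F.zi s t * q := by rw [← e]; group
  have ht : t = pl6 (pr (v q)) (F.phi r) := by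
    have h := congrArg xc (congrArg v e2)
    rw [F.setup.ρ_act r hr.2 q hq.1, F.rho_R' hr, F.setup.v_mul _ (F.zi_mem s t).1 q hq.1, F.v_zi, xc_add,
      xc_smul_w0, F.v_of_R hq, sieg_vmk, xc_vmk, xc_vmk, zero_mul, add_zero, add_comm t] at h
    exact (add_left_cancel h).symm
  refine ⟨s, ?_⟩
  rw [← ht, ← mul_assoc, ← e2]
  group

/-- The exponent of the centre in the commutators. -/
def bz (F : Pt z Q v ρ g) (a c : W6) : ZMod 2 :=
  Classical.choose (F.comm_exists (Classical.choose_spec (F.R_surj a)).1 (Classical.choose_spec (F.phi_surj c)).1)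

theorem bz_spec {q r : G} (hq : q ∈ F.R) (hr : r ∈ F.R') :
    r * q = F.zi (F.bz (pr (v q)) (F.phi r)) (pl6 (pr (v q)) (F.phi r)) * (q * r) := by
  set a := pr (v q) with ha
  set c := F.phi r with hc
  obtain ⟨q₀, r₀, hq0, hr0, hqa, hrc, h0⟩ : ∃ q₀ r₀, q₀ ∈ F.R ∧ r₀ ∈ F.R' ∧ pr (v q₀) = a ∧ F.phi r₀ = c ∧
      r₀ * q₀ = F.zi (F.bz a c) (pl6 a c) * (q₀ * r₀) := by
    obtain ⟨hq0, hqa⟩ := Classical.choose_spec (F.R_surj a)
    obtain ⟨hr0, hrc⟩ := Classical.choose_spec (F.phi_surj c)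
    have h0 : _ = F.zi (F.bz a c) _ * _ := Classical.choose_spec (F.comm_exists hq0 hr0)
    rw [hqa, hrc] at h0
    exact ⟨_, _, hq0, hr0, hqa, hrc, h0⟩
  obtain ⟨s, t, e1⟩ : ∃ s t, q₀⁻¹ * q = F.zi s t := F.zi_of_zero (mul_mem (inv_mem hq0) hq) (by
    rw [F.pr_mul (inv_mem hq0.1) hq.1, F.setup.v_inv hq0.1, hqa, ← ha, w6_add_self])
  obtain ⟨s', t', e2⟩ := F.phi_eq hr0 hr (hrc.trans hc)
  rw [eq_mul_of_inv_mul_eq e1, e2]
  calc r₀ * F.zi s' t' * (q₀ * F.zi s t) = r₀ * (F.zi s' t' * q₀) * F.zi s t := by group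
    _ = (r₀ * q₀) * F.zi s' t' * F.zi s t := by rw [← F.central_R hq0]; group
    _ = F.zi (F.bz a c) (pl6 a c) * q₀ * r₀ * F.zi s' t' * F.zi s t := by rw [h0]; group
    _ = F.zi (F.bz a c) (pl6 a c) * q₀ * (r₀ * F.zi (s' + s) (t' + t)) := by rw [← F.zi_add]; group
    _ = F.zi (F.bz a c) (pl6 a c) * q₀ * (r₀ * (F.zi s t * F.zi s' t')) := by
      rw [F.zi_add, add_comm s, add_comm t]
    _ = F.zi (F.bz a c) (pl6 a c) * q₀ * ((r₀ * F.zi s t) * F.zi s' t') := by group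
    _ = _ := by rw [F.central_R' hr0]; group

theorem bz_add_left (a a' c : W6) : F.bz (a + a') c = F.bz a c + F.bz a' c := by
  obtain ⟨q, hq, rfl⟩ := F.R_surj a
  obtain ⟨q', hq', rfl⟩ := F.R_surj a'
  obtain ⟨r, hr, rfl⟩ := F.phi_surj c
  have h := F.bz_spec (mul_mem hq hq') hr
  rw [F.pr_mul hq.1 hq'.1] at h
  have h1 := F.bz_spec hq hr
  have h2 := F.bz_spec hq' hr
  generalize F.bz (pr (v q)) (F.phi r) = x at h1 ⊢
  generalize F.bz (pr (v q')) (F.phi r) = y at h2 ⊢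
  generalize F.bz (pr (v q) + pr (v q')) (F.phi r) = w at h ⊢
  generalize pl6 (pr (v q)) (F.phi r) = x' at h1
  generalize pl6 (pr (v q')) (F.phi r) = y' at h2
  generalize pl6 (pr (v q) + pr (v q')) (F.phi r) = w' at h
  have key : r * (q * q') = F.zi (x + y) (x' + y') * (q * q' * r) := by
    calc r * (q * q') = (r * q) * q' := by group
      _ = F.zi x x' * q * (r * q') := by rw [h1]; group
      _ = F.zi x x' * (q * F.zi y y') * (q' * r) := by rw [h2]; group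
      _ = F.zi x x' * F.zi y y' * (q * q' * r) := by rw [F.central_R hq]; group
      _ = _ := by rw [F.zi_add]
  exact (F.zi_inj (mul_right_cancel (h.symm.trans key))).1

theorem bz_add_right (a c c' : W6) : F.bz a (c + c') = F.bz a c + F.bz a c' := by
  obtain ⟨q, hq, rfl⟩ := F.R_surj a
  obtain ⟨r, hr, rfl⟩ := F.phi_surj c
  obtain ⟨r', hr', rfl⟩ := F.phi_surj c'
  have h := F.bz_spec hq (mul_mem hr hr')
  rw [F.phi_mul hr hr'] at h
  have h1 := F.bz_spec hq hr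
  have h2 := F.bz_spec hq hr'
  generalize F.bz (pr (v q)) (F.phi r) = x at h1 ⊢
  generalize F.bz (pr (v q)) (F.phi r') = y at h2 ⊢
  generalize F.bz (pr (v q)) (F.phi r + F.phi r') = w at h ⊢
  generalize pl6 (pr (v q)) (F.phi r) = x' at h1
  generalize pl6 (pr (v q)) (F.phi r') = y' at h2
  generalize pl6 (pr (v q)) (F.phi r + F.phi r') = w' at h
  have key : r * r' * q = F.zi (x + y) (x' + y') * (q * (r * r')) := by
    calc r * r' * q = r * (r' * q) := by group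
      _ = (r * F.zi y y') * (q * r') := by rw [h2]; group
      _ = F.zi y y' * (r * q) * r' := by rw [F.central_R' hr]; group
      _ = F.zi y y' * F.zi x x' * (q * (r * r')) := by rw [h1]; group
      _ = _ := by rw [F.zi_add, add_comm x, add_comm x']
  exact (F.zi_inj (mul_right_cancel (h.symm.trans key))).1

theorem bz_inv (l d : W6) (hl : q6 l = 0) (hld : pl6 l d = 0) (a c : W6) :
    F.bz (sig l d a) (sig l d c) = F.bz a c := by
  obtain ⟨k, hk, hki, hρ⟩ := F.sig_lift hl hld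
  obtain ⟨q, hq, rfl⟩ := F.R_surj a
  obtain ⟨r, hr, rfl⟩ := F.phi_surj c
  have h := F.bz_spec (F.norm_R hk hki hq) (F.norm_R' hk hki hr)
  rw [F.pr_conj hk hρ hq.1, F.phi_conj hk hρ hr] at h
  have h1 := F.bz_spec hq hr
  generalize F.bz (pr (v q)) (F.phi r) = x at h1 ⊢
  generalize F.bz (sig l d (pr (v q))) (sig l d (F.phi r)) = y at h ⊢
  generalize pl6 (pr (v q)) (F.phi r) = x' at h1
  generalize pl6 (sig l d (pr (v q))) (sig l d (F.phi r)) = y' at h
  have key : k * r * k⁻¹ * (k * q * k⁻¹) = F.zi x x' * (k * q * k⁻¹ * (k * r * k⁻¹)) := by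
    calc k * r * k⁻¹ * (k * q * k⁻¹) = k * (r * q) * k⁻¹ := by group
      _ = k * F.zi x x' * (q * r) * k⁻¹ := by rw [h1]; group
      _ = _ := by rw [F.zi_comm hk hki]; group
  exact (F.zi_inj (mul_right_cancel (h.symm.trans key))).1

theorem bz_eq (a c : W6) : F.bz a c = pl6 a c := by
  obtain ⟨s, hs⟩ := invariant_form F.bz_add_left F.bz_add_right F.bz_inv
  rcases two_cases s with rfl | rfl
  · exfalso
    obtain ⟨q, hq, hqa⟩ := F.R_surj e0
    have hfix : ρ (g⁻¹ * q * g) = 1 := by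
      refine fix_hyperplane (u := F.vi z) ((F.si.v_sq z F.z_mem).2 F.setup.zz)
        (F.si.v_ne F.z_mem F.setup.z_ne F.pt_ne.symm) fun x hx => ?_
      obtain ⟨r, hr, rfl⟩ := F.si.v_surj x
      have hrR : r ∈ F.R' := F.mem_R'.2 ⟨hr, (F.si.v_comm r hr z F.z_mem).1 (by
        exact (QuadraticMap.polar_comm qf _ _).trans hx)⟩
      have h1 := F.bz_spec hq hrR
      rw [hs, zero_mul] at h1
      rw [← F.si.ρ_act q hq.2 r hr]
      refine (F.si.v_eq (F.si.norm hq.2 hr) hr).2 ?_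
      rcases two_cases (pl6 (pr (v q)) (F.phi r)) with e | e <;> rw [e] at h1
      · left
        rw [F.zi_zero, one_mul] at h1
        rw [← h1, mul_inv_cancel_right]
      · right
        rw [F.zi_pt] at h1
        calc q * r * q⁻¹ = F.pt * (F.pt * (q * r)) * q⁻¹ := by rw [← mul_assoc F.pt, F.pp, one_mul]
          _ = F.pt * (r * q) * q⁻¹ := by rw [← h1]
          _ = F.pt * r := by group
          _ = _ := (mem_cz.1 (F.si.le hr)).symm
    have hqi : q ∈ F.Qi := (F.si.ρ_ker q hq.2).1 hfix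
    obtain ⟨s, t, e⟩ := F.inter hq.1 hqi
    refine ref_facts.2.2.2.1 ?_
    rw [← hqa, e, F.pr_v_zi]
  · rw [hs, one_mul]

/-- The commutator rule. -/
theorem swap_rule {q r : G} (hq : q ∈ F.R) (hr : r ∈ F.R') :
    r * q = F.zi (pl6 (pr (v q)) (F.phi r)) (pl6 (pr (v q)) (F.phi r)) * (q * r) := by
  have h := F.bz_spec hq hr
  rwa [F.bz_eq] at h

theorem sq_R {q : G} (hq : q ∈ F.R) : q * q = F.zi (q6 (pr (v q))) 0 := by
  have h := F.setup.v_sq q hq.1
  rw [F.v_of_R hq, qf_vmk, mul_zero, zero_add] at h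
  rcases two_cases (q6 (pr (v q))) with e | e <;> rw [e] at h ⊢
  · rw [h.1 rfl, F.zi_zero]
  · rcases F.setup.core.sq_eq q hq.1 with e' | e'
    · exact absurd (h.2 e') one_ne_zero
    · rw [e', F.zi_z]

theorem sq_R' {r : G} (hr : r ∈ F.R') : r * r = F.zi 0 (qf (F.vi r)) := by
  have h := F.si.v_sq r hr.1
  rcases two_cases (qf (F.vi r)) with e | e <;> rw [e] at h ⊢
  · rw [h.1 rfl, F.zi_zero]
  · rcases F.si.core.sq_eq r hr.1 with e' | e'
    · exact absurd (h.2 e') one_ne_zero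
    · rw [e', F.zi_pt]

theorem vi_congr {r s : G} (hr : r ∈ F.R') (hs : s ∈ F.R') (h : F.phi r = F.phi s) :
    qf (F.vi r) = qf (F.vi s) := by
  obtain ⟨a, b, rfl⟩ := F.phi_eq hr hs h
  have hss : r * F.zi a b * (r * F.zi a b) = r * r := by
    calc r * F.zi a b * (r * F.zi a b) = r * (F.zi a b * r) * F.zi a b := by group
      _ = r * r * (F.zi a b * F.zi a b) := by rw [← F.central_R' hr]; group
      _ = r * r := by rw [F.zi_add, CharTwo.add_self_eq_zero, CharTwo.add_self_eq_zero, F.zi_zero, mul_one]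
  rw [F.sq_R' hr, F.sq_R' hs] at hss
  exact (F.zi_inj hss).2.symm

/-- The squares in the second part, on parameters. -/
def sq' (F : Pt z Q v ρ g) (c : W6) : ZMod 2 := qf (F.vi (Classical.choose (F.phi_surj c)))

theorem sq'_spec {r : G} (hr : r ∈ F.R') : qf (F.vi r) = F.sq' (F.phi r) :=
  F.vi_congr hr (Classical.choose_spec (F.phi_surj _)).1 (Classical.choose_spec (F.phi_surj _)).2.symm

theorem sq'_inv (l d : W6) (hl : q6 l = 0) (hld : pl6 l d = 0) (c : W6) : F.sq' (sig l d c) = F.sq' c := by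
  obtain ⟨k, hk, hki, hρ⟩ := F.sig_lift hl hld
  obtain ⟨r, hr, rfl⟩ := F.phi_surj c
  rw [← F.phi_conj hk hρ hr, ← F.sq'_spec (F.norm_R' hk hki hr), ← F.sq'_spec hr]
  have hsq : k * r * k⁻¹ * (k * r * k⁻¹) = r * r := by
    rw [show k * r * k⁻¹ * (k * r * k⁻¹) = k * (r * r) * k⁻¹ by group, F.sq_R' hr, F.zi_comm hk hki,
      mul_inv_cancel_right]
  rw [F.sq_R' hr, F.sq_R' (F.norm_R' hk hki hr)] at hsq
  exact (F.zi_inj hsq).2

theorem sq'_cubic (a c d : W6) :
    F.sq' (a + c + d) + F.sq' (a + c) + F.sq' (a + d) + F.sq' (c + d) + F.sq' a + F.sq' c + F.sq' d = 0 := by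
  obtain ⟨x, hx, rfl⟩ := F.phi_surj a
  obtain ⟨y, hy, rfl⟩ := F.phi_surj c
  obtain ⟨w, hw, rfl⟩ := F.phi_surj d
  rw [← F.phi_mul hx hy, ← F.phi_mul hx hw, ← F.phi_mul hy hw, ← F.phi_mul (mul_mem hx hy) hw,
    ← F.sq'_spec (mul_mem (mul_mem hx hy) hw), ← F.sq'_spec (mul_mem hx hy), ← F.sq'_spec (mul_mem hx hw),
    ← F.sq'_spec (mul_mem hy hw), ← F.sq'_spec hx, ← F.sq'_spec hy, ← F.sq'_spec hw,
    F.si.v_mul _ (mul_mem hx.1 hy.1) _ hw.1, F.si.v_mul _ hx.1 _ hy.1, F.si.v_mul _ hx.1 _ hw.1,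
    F.si.v_mul _ hy.1 _ hw.1]
  exact cubic _ _ _

theorem sq'_eq (c : W6) : F.sq' c = q6 c := by
  set P : W6 → W6 → ZMod 2 := fun a b => F.sq' (a + b) + F.sq' a + F.sq' b with hP
  have hPr : ∀ a b b', P a (b + b') = P a b + P a b' := fun a b b' => by
    have h := F.sq'_cubic a b b'
    simp only [hP, ← add_assoc]
    linear_combination h - (F.sq' (a + b) + F.sq' (a + b') + F.sq' b + F.sq' b' + F.sq' a) *
      CharTwo.two_eq_zero (R := ZMod 2)
  have hPc : ∀ a b, P a b = P b a := fun a b => by simp only [hP, add_comm a b]; ring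
  have hPl : ∀ a a' b, P (a + a') b = P a b + P a' b := fun a a' b => by
    rw [hPc, hPr, hPc a, hPc a']
  obtain ⟨s, hs⟩ := invariant_form hPl hPr fun l d hl hld a b => by
    simp only [hP, ← sig_add, F.sq'_inv l d hl hld]
  have hlin : ∀ a, F.sq' a + s * q6 a = 0 := invariant_linear (f := fun a => F.sq' a + s * q6 a) (fun a b => by
    have h := hs a b
    simp only [hP] at h
    rw [q6_add]
    linear_combination h - (F.sq' a + F.sq' b) * CharTwo.two_eq_zero (R := ZMod 2) +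
      s * pl6 a b * CharTwo.two_eq_zero (R := ZMod 2)) fun l d hl hld a => by rw [F.sq'_inv l d hl hld, q6_sig hl hld]
  rcases two_cases s with rfl | rfl
  · exfalso
    have hu0 : F.vi z ≠ 0 := F.si.v_ne F.z_mem F.setup.z_ne F.pt_ne.symm
    obtain ⟨k, -, hk⟩ := move_singular hu0 w0_ne ((F.si.v_sq z F.z_mem).2 F.setup.zz) qf_w0
    set x := act k⁻¹ (inW dd) with hx
    have hkx : act k x = inW dd := by rw [hx, ← act_mul, mul_inv_cancel, act_one]
    obtain ⟨r, hr, hrx⟩ := F.si.v_surj x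
    have hperp : pl (F.vi r) (F.vi z) = 0 := by
      show QuadraticMap.polar qf (F.vi r) (F.vi z) = 0
      rw [show F.vi r = x from hrx, ← pol_act k, show act k (F.vi z) = w0 from hk, hkx]
      exact (pl_w0 _).trans (yc_vmk _ _ _)
    have hrR : r ∈ F.R' := F.mem_R'.2 ⟨hr, (F.si.v_comm r hr z F.z_mem).1 hperp⟩
    have h1 : qf (F.vi r) = 1 := by
      rw [show F.vi r = x from hrx, ← qf_act k x, hkx, qf_inW, dd_facts.1]
    have h0 := hlin (F.phi r)
    rw [zero_mul, add_zero, ← F.sq'_spec hrR, h1] at h0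
    exact one_ne_zero h0
  · have h := hlin c
    rw [one_mul, CharTwo.add_eq_zero] at h
    exact h

/-- The square rule in the second part. -/
theorem square_rule {r : G} (hr : r ∈ F.R') : r * r = F.zi 0 (q6 (F.phi r)) := by
  rw [F.sq_R' hr, F.sq'_spec hr, F.sq'_eq]

end Pt

end

end CfsgLib.Spor.CoOneClasses
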