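import Cfsg.Agent.Lib.Spor.CoOneClasses.Normal

/-!
# The reference involution over two singular vectors, and its commutators with the second part
-/

set_option autoImplicit false
set_option synthInstance.maxSize 4096

namespace CfsgLib.Spor.CoOneClasses

open Subgroup
open CfsgLib.Spor.CoOneType (Vec qf Iso8 Om Setup mem_cz conj_eq_iff_comm act act_one act_mul act_add qf_act pol_act
  iso_ext two_cases qf_nd)

noncomputable section

/-- The cyclic permutation of three hyperbolic pairs. -/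
def piFun (x : Vec) : Vec :=
  vmk (pr x (.inl 1)) (pr x (.inr 1)) (mk6 (xc x) (pr x (.inl 0)) (pr x (.inl 2)) (yc x) (pr x (.inr 0))
    (pr x (.inr 2)))

/-- An element of order three fixing a non-singular vector. -/
def hm (u : W6) : W6 :=
  u (.inl 0) • g0 + u (.inr 0) • (e0 + g0 + dd) + u (.inl 1) • e1 + u (.inr 1) • g1 + u (.inl 2) • (g2 + g0) +
    u (.inr 2) • (e2 + g0)

/-- The same on the whole space. -/
def hFun (x : Vec) : Vec := vmk (xc x) (yc x) (hm (pr x))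

/-- The transformation at the third point. -/
def t1f (x : Vec) : Vec := vmk (xc x) (yc x) (sig e1 dd (pr x))

theorem piFun_add (x y : Vec) : piFun (x + y) = piFun x + piFun y := by
  simp only [piFun, xc_add, yc_add, pr_add, Pi.add_apply, vmk_add]
  refine vmk_congr rfl rfl ?_
  funext i
  rcases i with i | i <;> fin_cases i <;> rfl

theorem hm_add (u u' : W6) : hm (u + u') = hm u + hm u' := by
  simp only [hm, Pi.add_apply, add_smul]
  abel

theorem hFun_add (x y : Vec) : hFun (x + y) = hFun x + hFun y := by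
  simp only [hFun, xc_add, yc_add, pr_add, hm_add, vmk_add]

theorem piFun_facts : ∀ x : Vec, qf (piFun x) = qf x ∧ piFun (piFun (piFun x)) = x ∧
    piFun (sieg e0 (piFun (piFun x))) = tAf x ∧ piFun (piFun (sieg dd (piFun x))) = t1f x := by decide +kernel

theorem hFun_facts : ∀ x : Vec, qf (hFun x) = qf x ∧ hFun (hFun (hFun x)) = x ∧ hFun (t1f x) = t1f (hFun x) := by
  decide +kernel

theorem pi_vals : piFun w0 = inW e0 ∧ piFun (piFun w0) = inW e1 ∧ piFun (piFun f0) = inW g1 ∧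
    piFun (inW e0) = inW e1 ∧ piFun (inW g1) = f0 ∧ piFun (inW e1) = w0 := by decide +kernel

theorem hm_vals : hm e0 = g0 ∧ hm g0 = e0 + g0 + dd ∧ hm e1 = e1 ∧ hm g1 = g1 := by decide +kernel

theorem hm_pres : ∀ l : W6, pl6 l e1 = 0 → pl6 (hm l) e1 = 0 := by decide +kernel

theorem hm_inverse : ∀ u : W6, hm (hm (hm u)) = u := by decide +kernel

theorem third_vals : sig e1 dd g1 + g1 = dd + e1 ∧ sig e1 dd g2 + g2 = e1 ∧ q6 (dd + e1) = 1 ∧
    pl6 e1 g1 = 1 ∧ pl6 e1 g2 = 0 ∧ pl6 e0 e1 = 0 ∧ pl6 g0 e1 = 0 := by decide +kernel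

theorem exists_order_three {f : Vec → Vec} (hadd : ∀ x y, f (x + y) = f x + f y) (hq : ∀ x, qf (f x) = qf x)
    (h3 : ∀ x, f (f (f x)) = x) : ∃ g ∈ Om, ∀ x, act g x = f x := by
  obtain ⟨g, hg⟩ := exists_iso (AddMonoidHom.toZModLinearMap 2 (AddMonoidHom.mk' f hadd)) hq
  exact ⟨g, mem_om_of_cube (iso_ext fun x => by rw [act_mul, act_mul, hg, hg, hg, act_one]; exact h3 x), hg⟩

variable {G : Type*} [Group G] [Finite G] {z : G} {Q : Subgroup G} {v : G → Vec} {ρ : G → Iso8}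

theorem conj_Q (S : Setup z Q v ρ) {a q : G} (ha : a ∈ Q) (hq : q ∈ Q) :
    q * a * q⁻¹ = a * z ^ (pl (v q) (v a)).val := by
  rcases two_cases (pl (v q) (v a)) with e | e <;> rw [e]
  · simp only [ZMod.val_zero, pow_zero, mul_one]
    exact conj_eq_iff_comm.2 ((S.v_comm q hq a ha).1 e)
  · simp only [ZMod.val_one, pow_one]
    refine (S.conj_or ha hq).resolve_left fun h => ?_
    have h' := (S.v_comm q hq a ha).2 (conj_eq_iff_comm.1 h)
    exact one_ne_zero (e.symm.trans h')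

namespace Pt

variable {g : G} (F : Pt z Q v ρ g)
include F

/-- The lift of the permutation. -/
theorem exists_P : ∃ P ∈ centralizer ({z} : Set G), ∀ x, act (ρ P) x = piFun x := by
  obtain ⟨k, hk, he⟩ := exists_order_three piFun_add (fun x => (piFun_facts x).1) (fun x => (piFun_facts x).2.1)
  obtain ⟨P, hP, rfl⟩ := F.setup.ρ_surj k hk
  exact ⟨P, hP, he⟩

variable {P : G} (hP : P ∈ centralizer ({z} : Set G)) (hPe : ∀ x, act (ρ P) x = piFun x)
include hP hPe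

theorem P_inv (x : Vec) : act (ρ P⁻¹) x = piFun (piFun x) := by
  conv_lhs => rw [← (piFun_facts x).2.1, ← hPe, ← act_mul, F.setup.ρ_inv hP, inv_mul_cancel, act_one]

theorem conj_mem_Q {a : G} (ha : a ∈ Q) : P⁻¹ * a * P ∈ Q ∧ v (P⁻¹ * a * P) = piFun (piFun (v a)) := by
  have h : P⁻¹ * a * P = P⁻¹ * a * P⁻¹⁻¹ := by rw [inv_inv]
  exact ⟨h ▸ F.setup.norm (inv_mem hP) ha, by rw [h, F.setup.ρ_act _ (inv_mem hP) a ha, F.P_inv hP hPe]⟩

/-- Elements conjugate to those of the second part commute with part of the extraspecial group. -/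
theorem shifted_comm {r q : G} (hr : r ∈ F.R') (hq : q ∈ Q) (h1 : pl (v q) (inW e0) = 0)
    (h2 : pl6 (pr (piFun (piFun (v q)))) (F.phi r) = 0) : P * r * P⁻¹ * q = q * (P * r * P⁻¹) := by
  obtain ⟨hm', hv⟩ := F.conj_mem_Q hP hPe hq
  have hR : P⁻¹ * q * P ∈ F.R := F.mem_R.2 ⟨hm', by
    rw [hv, ← pl_w0]
    have h := pol_act (ρ P) (piFun (piFun (v q))) w0
    rw [hPe, hPe, (piFun_facts (v q)).2.1, pi_vals.1] at h
    exact h.symm.trans h1⟩
  have h := F.swap_rule hR hr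
  rw [hv, h2, F.zi_zero, one_mul] at h
  calc P * r * P⁻¹ * q = P * (r * (P⁻¹ * q * P)) * P⁻¹ := by group
    _ = P * (P⁻¹ * q * P * r) * P⁻¹ := by rw [h]
    _ = _ := by group

theorem shifted_rho {r : G} (hr : r ∈ F.R') (x : Vec) :
    act (ρ (P * r * P⁻¹)) x = piFun (sieg (F.phi r) (piFun (piFun x))) := by
  rw [F.setup.ρ_mul _ (mul_mem hP hr.2) _ (inv_mem hP), F.setup.ρ_mul P hP r hr.2, act_mul, act_mul,
    F.P_inv hP hPe, F.rho_R' hr, hPe]

omit hP hPe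

/-- The property of the reference involution. -/
structure Quad (F : Pt z Q v ρ g) (y : G) : Prop where
  cz : y ∈ centralizer ({z} : Set G)
  ci : y ∈ centralizer ({F.pt} : Set G)
  sq : y * y = 1
  rho : ∀ x, act (ρ y) x = tAf x
  comm : ∀ q ∈ Q, pl (v q) (inW e0) = 0 → pl (v q) (inW e1) = 0 → y * q = q * y
  conjz : IsConj z y
  alpha : ∀ r ∈ F.R', F.phi r = dd → y * r * y⁻¹ = r * F.zi 1 0

theorem quad_conj_R' {y : G} (hy : y ∈ centralizer ({z} : Set G)) (hyi : y ∈ centralizer ({F.pt} : Set G))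
    (hsq : y * y = 1) (hρ : ∀ x, act (ρ y) x = tAf x)
    (hcomm : ∀ q ∈ Q, pl (v q) (inW e0) = 0 → pl (v q) (inW e1) = 0 → y * q = q * y)
    {r : G} (hr : r ∈ F.R') (h0 : pl6 (F.phi r) e0 = 0) (h1 : pl6 (F.phi r) e1 = 0) :
    ∃ s, y * r * y⁻¹ = r * F.zi s 0 := by
  have hm : y * r * y⁻¹ ∈ F.R' := F.norm_R' hy hyi hr
  have hinv : act (ρ y)⁻¹ f0 = f0 := by
    refine CoOneType.act_injective (ρ y) ?_
    rw [← act_mul, mul_inv_cancel, act_one, hρ, tAf, xc_f0, yc_f0, pr_f0, sig, pl6_zero_left, pl6_zero_left]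
    simp [f0]
  have hphi : F.phi (y * r * y⁻¹) = F.phi r := by
    show pr (act (ρ (y * r * y⁻¹)) f0) = _
    rw [F.setup.ρ_mul _ (mul_mem hy hr.2) _ (inv_mem hy), F.setup.ρ_mul y hy r hr.2, F.setup.ρ_inv hy, act_mul,
      act_mul, hinv, F.rho_R' hr, hρ, tAf, pr_vmk, sieg_f0, sig, h0, h1]
    simp
  obtain ⟨a, b, e⟩ := F.phi_eq hr hm hphi.symm
  obtain ⟨s, hs, hvs⟩ := F.exists_partner_elt
  have hys : y * s = s * y := hcomm s hs
    (by rw [hvs, pl_comm, pl_f0]; rfl) (by rw [hvs, pl_comm, pl_f0]; rfl)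
  obtain ⟨q', hq', hp', e'⟩ := F.partner_conj hr hs hvs
  have hyq : y * q' = q' * y := hcomm q' hq'.1 (by rw [pl_inW, hp', h0]) (by rw [pl_inW, hp', h1])
  have hb : b = 0 := by
    have hs' : s * F.zi a b * s⁻¹ = F.zi a b * z ^ (pl (v s) (v (F.zi a b))).val := conj_Q F.setup (F.zi_mem a b).1 hs
    have hp : pl (v s) (v (F.zi a b)) = b := by
      rw [F.v_zi, pl_smul_right, hvs, pl_w0, yc_f0, mul_one]
    rw [hp] at hs'
    have e1 : y * (r * q') * y⁻¹ = r * F.zi a b * q' := by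
      calc y * (r * q') * y⁻¹ = (y * r * y⁻¹) * (y * q' * y⁻¹) := by group
        _ = r * F.zi a b * q' := by rw [e, hyq]; group
    have e2 : y * (r * q') * y⁻¹ = r * F.zi a b * q' * z ^ b.val := by
      calc y * (r * q') * y⁻¹ = s * (y * r * y⁻¹) * s⁻¹ := by
            rw [← e']
            calc y * (s * r * s⁻¹) * y⁻¹ = (y * s) * r * (y * s)⁻¹ := by group
              _ = _ := by rw [hys]; group
        _ = (s * r * s⁻¹) * (s * F.zi a b * s⁻¹) := by rw [e]; group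
        _ = r * (q' * F.zi a b) * z ^ b.val := by rw [hs', e']; group
        _ = _ := by rw [F.central_R hq']; group
    have hz : z ^ b.val = 1 := left_eq_mul.1 (e1.symm.trans e2)
    rcases two_cases b with rfl | rfl
    · rfl
    · rw [ZMod.val_one, pow_one] at hz
      exact absurd hz F.setup.z_ne
  exact ⟨a, by rw [e, hb]⟩

theorem quad_exists : ∃ y, F.Quad y := by
  obtain ⟨P, hP, hPe⟩ := F.exists_P
  obtain ⟨r₀, hr₀, hr₀e⟩ := F.phi_surj e0
  set y := P * r₀ * P⁻¹ with hy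
  have hyC : y ∈ centralizer ({z} : Set G) := mul_mem (mul_mem hP hr₀.2) (inv_mem hP)
  have hysq : y * y = 1 := by
    rw [hy, show P * r₀ * P⁻¹ * (P * r₀ * P⁻¹) = P * (r₀ * r₀) * P⁻¹ by group, F.square_rule hr₀, hr₀e,
      ref_facts.1, F.zi_zero]
    group
  have hyρ : ∀ x, act (ρ y) x = tAf x := fun x => by
    rw [hy, F.shifted_rho hP hPe hr₀, hr₀e, (piFun_facts x).2.2.1]
  have hycomm : ∀ q ∈ Q, pl (v q) (inW e0) = 0 → pl (v q) (inW e1) = 0 → y * q = q * y := fun q hq h1 h2 =>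
    F.shifted_comm hP hPe hr₀ hq h1 (by
      rw [hr₀e, ← pl_inW]
      have h := pol_act (ρ P) (piFun (piFun (v q))) (inW e0)
      rw [hPe, hPe, (piFun_facts (v q)).2.1, pi_vals.2.2.2.1] at h
      exact h.symm.trans h2)
  have hyci : y ∈ centralizer ({F.pt} : Set G) := mem_cz.2 (hycomm _ F.mem
    (by rw [F.val, pl_comm, pl_w0]; rfl) (by rw [F.val, pl_comm, pl_w0]; rfl))
  refine ⟨y, hyC, hyci, hysq, hyρ, hycomm, ?_, ?_⟩
  · have hvi0 : F.vi r₀ ≠ 0 := F.si.v_ne hr₀.1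
      (fun e => ref_facts.2.2.2.1 (by
        have h := F.phi_zi 0 0
        rw [F.zi_zero, ← e, hr₀e] at h
        exact h))
      (fun e => ref_facts.2.2.2.1 (by
        have h := F.phi_zi 0 1
        rw [F.zi_pt, ← e, hr₀e] at h
        exact h))
    obtain ⟨k, hk⟩ := F.si.all_conj (g := g⁻¹) (by
        rw [show g⁻¹ * F.pt * g⁻¹⁻¹ = z by group]; exact F.z_mem) (by
        rw [show g⁻¹ * F.pt * g⁻¹⁻¹ = z by group]; exact F.pt_ne.symm) hr₀.1
      (by rw [F.square_rule hr₀, hr₀e, ref_facts.1, F.zi_zero]) hvi0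
    exact isConj_iff.2 ⟨P * (k * g), by rw [hy, ← hk]; group⟩
  intro r hr hrd
  obtain ⟨α, hα⟩ := F.quad_conj_R' hyC hyci hysq hyρ hycomm hr
    (by rw [hrd, pl6_comm]; exact dd_facts.2.1) (by rw [hrd, pl6_comm]; exact dd_facts.2.2.1)
  rcases two_cases α with rfl | rfl
  swap
  · exact hα
  exfalso
  rw [F.zi_zero, mul_one] at hα
  -- the conjugate at the third point
  set r₁ := P⁻¹ * r * P with hr₁
  obtain ⟨hwQ, hwv⟩ := F.conj_mem_Q hP hPe F.mem
  set w₁ := P⁻¹ * F.pt * P with hw₁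
  have hwv' : v w₁ = inW e1 := by rw [hwv, F.val, pi_vals.2.1]
  have hwR : w₁ ∈ F.R := F.mem_R.2 ⟨hwQ, by rw [hwv']; rfl⟩
  have hwpr : pr (v w₁) = e1 := by rw [hwv', inW, pr_vmk]
  have hr₁C : r₁ ∈ centralizer ({z} : Set G) := mul_mem (mul_mem (inv_mem hP) hr.2) hP
  have hr₁pt : r₁ ∈ centralizer ({F.pt} : Set G) := by
    have hq : P * F.pt * P⁻¹ ∈ Q := F.setup.norm hP F.mem
    have hv : v (P * F.pt * P⁻¹) = inW e0 := by rw [F.setup.ρ_act P hP _ F.mem, hPe, F.val, pi_vals.1]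
    have h := F.swap_rule (F.mem_R.2 ⟨hq, by rw [hv]; rfl⟩) hr
    rw [hv, inW, pr_vmk, hrd, dd_facts.2.1, F.zi_zero, one_mul] at h
    refine mem_cz.2 ?_
    calc r₁ * F.pt = P⁻¹ * (r * (P * F.pt * P⁻¹)) * P := by rw [hr₁]; group
      _ = P⁻¹ * (P * F.pt * P⁻¹ * r) * P := by rw [h]
      _ = _ := by rw [hr₁]; generalize F.pt = p; group
  have hρ₁ : ∀ x, act (ρ r₁) x = vmk (xc x) (yc x) (sig e1 dd (pr x)) := fun x => by
    rw [hr₁, F.setup.ρ_mul _ (mul_mem (inv_mem hP) hr.2) _ hP, F.setup.ρ_mul _ (inv_mem hP) r hr.2, act_mul, act_mul,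
      hPe, F.rho_R' hr, hrd, F.P_inv hP hPe, (piFun_facts x).2.2.2]
    rfl
  have hr₁sq : r₁ * r₁ = w₁ := by
    rw [hr₁, hw₁, show P⁻¹ * r * P * (P⁻¹ * r * P) = P⁻¹ * (r * r) * P by group, F.square_rule hr, hrd, dd_facts.1,
      F.zi_pt]
  -- the exponents
  let Gam : W6 → ZMod 2 → Prop := fun l γ => ∃ s ∈ F.R', F.phi s = l ∧ ∃ δ, r₁ * s * r₁⁻¹ = s * F.zi γ δ
  have hzi : ∀ a b, r₁ * F.zi a b * r₁⁻¹ = F.zi a b := fun a b => conj_eq_iff_comm.2 (F.zi_comm hr₁C hr₁pt a b)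
  have huniq : ∀ l γ γ', Gam l γ → Gam l γ' → γ = γ' := by
    rintro l γ γ' ⟨s, hs, hsl, δ, hδ⟩ ⟨s', hs', hsl', δ', hδ'⟩
    obtain ⟨a, b, rfl⟩ := F.phi_eq hs hs' (hsl.trans hsl'.symm)
    rw [show r₁ * (s * F.zi a b) * r₁⁻¹ = (r₁ * s * r₁⁻¹) * (r₁ * F.zi a b * r₁⁻¹) by group, hδ, hzi,
      mul_assoc, mul_assoc s, F.zi_add, F.zi_add] at hδ'
    have h := (F.zi_inj (mul_left_cancel hδ')).1
    rw [add_comm a] at h
    exact add_right_cancel h
  have hsum : ∀ l l' γ γ', Gam l γ → Gam l' γ' → Gam (l + l') (γ + γ') := by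
    rintro l l' γ γ' ⟨s, hs, hsl, δ, hδ⟩ ⟨s', hs', hsl', δ', hδ'⟩
    refine ⟨s * s', mul_mem hs hs', by rw [F.phi_mul hs hs', hsl, hsl'], δ + δ', ?_⟩
    calc r₁ * (s * s') * r₁⁻¹ = (r₁ * s * r₁⁻¹) * (r₁ * s' * r₁⁻¹) := by group
      _ = s * (F.zi γ δ * s') * F.zi γ' δ' := by rw [hδ, hδ']; group
      _ = s * s' * (F.zi γ δ * F.zi γ' δ') := by rw [← F.central_R' hs']; group
      _ = _ := by rw [F.zi_add]
  have himage : ∀ u, Gam (sig e1 dd u + u) (pl6 e1 u) := by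
    intro u
    obtain ⟨s, hs, hsu⟩ := F.phi_surj u
    have hs' : r₁ * s * r₁⁻¹ ∈ F.R' := F.norm_R' hr₁C hr₁pt hs
    set m := r₁ * s * r₁⁻¹ * s⁻¹ with hm
    have hmR : m ∈ F.R' := mul_mem hs' (inv_mem hs)
    have hmphi : F.phi m = sig e1 dd u + u := by
      rw [hm, F.phi_mul hs' (inv_mem hs), F.phi_conj hr₁C hρ₁ hs, F.phi_inv hs, hsu]
    refine ⟨m, hmR, hmphi, pl6 e1 u + q6 (sig e1 dd u + u), ?_⟩
    have hinv : m⁻¹ = F.zi 0 (q6 (sig e1 dd u + u)) * m := by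
      refine inv_eq_of_mul_eq_one_right ?_
      rw [← mul_assoc, F.central_R' hmR, mul_assoc, F.square_rule hmR, hmphi, F.zi_add, CharTwo.add_self_eq_zero,
        CharTwo.add_self_eq_zero, F.zi_zero]
    calc r₁ * m * r₁⁻¹ = (r₁ * r₁) * s * (r₁ * r₁)⁻¹ * s⁻¹ * m⁻¹ := by rw [hm]; group
      _ = F.zi (pl6 e1 u) (pl6 e1 u) * s * s⁻¹ * (F.zi 0 (q6 (sig e1 dd u + u)) * m) := by
        rw [hr₁sq, F.conj_R' hwR hs, hwpr, hsu, hinv]
      _ = F.zi (pl6 e1 u) (pl6 e1 u) * F.zi 0 (q6 (sig e1 dd u + u)) * m := by group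
      _ = _ := by rw [F.zi_add, add_zero, F.central_R' hmR]
  have hdd : Gam dd 1 := by
    have h1 := himage g1
    have h2 := himage g2
    rw [third_vals.1, third_vals.2.2.2.1] at h1
    rw [third_vals.2.1, third_vals.2.2.2.2.1] at h2
    have h := hsum _ _ _ _ h1 h2
    rwa [add_assoc, w6_add_self, add_zero, add_zero] at h
  have he0 : Gam e0 0 := by
    refine ⟨r₀, hr₀, hr₀e, 0, ?_⟩
    rw [F.zi_zero, mul_one]
    calc r₁ * r₀ * r₁⁻¹ = P⁻¹ * (r * y * r⁻¹) * P := by rw [hr₁, hy]; group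
      _ = P⁻¹ * y * P := by
        rw [conj_eq_iff_comm.2 (conj_eq_iff_comm.1 hα).symm]
      _ = r₀ := by rw [hy]; group
  -- invariance
  obtain ⟨hh, hhm, hhe⟩ := exists_order_three hFun_add (fun x => (hFun_facts x).1) (fun x => (hFun_facts x).2.1)
  obtain ⟨c, hc, rfl⟩ := F.setup.ρ_surj hh hhm
  obtain ⟨k, hk, hki, hkw, hkρ⟩ : ∃ k ∈ centralizer ({z} : Set G), k ∈ centralizer ({F.pt} : Set G) ∧
      k ∈ centralizer ({w₁} : Set G) ∧ ∀ x, act (ρ k) x = hFun x := by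
    have hfix : ∀ a ∈ Q, hFun (v a) = v a → ∃ i : ZMod 2, c * a * c⁻¹ = a * z ^ i.val := fun a ha h => by
      rcases (F.setup.v_eq (F.setup.norm hc ha) ha).1 (by rw [F.setup.ρ_act c hc a ha, hhe, h]) with e | e
      · exact ⟨0, by rw [e, ZMod.val_zero, pow_zero, mul_one]⟩
      · exact ⟨1, by rw [e, ZMod.val_one, pow_one]⟩
    obtain ⟨i, hi⟩ := hfix _ F.mem (by rw [F.val]; decide +kernel)
    obtain ⟨j, hj⟩ := hfix _ hwQ (by rw [hwv']; decide +kernel)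
    obtain ⟨q, hq, hqv⟩ := F.setup.v_surj (i • f0 + j • inW g1)
    have hval : ∀ i j : ZMod 2, pl (i • f0 + j • inW g1) w0 = i ∧ pl (i • f0 + j • inW g1) (inW e1) = j := by
      decide +kernel
    have key : ∀ a ∈ Q, ∀ l : ZMod 2, c * a * c⁻¹ = a * z ^ l.val → pl (v q) (v a) = l →
        q * c ∈ centralizer ({a} : Set G) := by
      intro a ha l hl hp
      refine mem_cz.2 (conj_eq_iff_comm.1 ?_)
      calc q * c * a * (q * c)⁻¹ = q * (c * a * c⁻¹) * q⁻¹ := by group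
        _ = (q * a * q⁻¹) * (q * z ^ l.val * q⁻¹) := by rw [hl]; group
        _ = a * z ^ l.val * z ^ l.val := by
          rw [conj_Q F.setup ha hq, hp, conj_eq_iff_comm.2 ((show Commute q z from F.setup.cz hq).pow_right _).eq]
        _ = a := by rw [mul_assoc, ← pow_add, ← two_mul, pow_mul, pow_two, F.setup.zz, one_pow, mul_one]
    refine ⟨q * c, mul_mem (F.setup.le hq) hc, key _ F.mem i hi (by rw [hqv, F.val, (hval i j).1]),
      key _ hwQ j hj (by rw [hqv, hwv', (hval i j).2]), fun x => ?_⟩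
    rw [F.setup.ρ_mul q (F.setup.le hq) c hc, F.setup.ρ_of_mem hq, one_mul, hhe]
  have hkinv : ∀ x, act (ρ k⁻¹) x = hFun (hFun x) := fun x => by
    rw [F.setup.ρ_inv hk]
    conv_lhs => rw [← (hFun_facts x).2.1, ← hkρ, ← act_mul, inv_mul_cancel, act_one]
  obtain ⟨a', b', hkr⟩ : ∃ a b, k * r₁ * k⁻¹ = r₁ * (P⁻¹ * F.zi a b * P) := by
    set k' := P * k * P⁻¹ with hk'
    have hk'C : k' ∈ centralizer ({z} : Set G) := mul_mem (mul_mem hP hk) (inv_mem hP)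
    have hk'i : k' ∈ centralizer ({F.pt} : Set G) := mem_cz.2 (by
      calc k' * F.pt = P * (k * w₁) * P⁻¹ := by rw [hk', hw₁]; group
        _ = P * (w₁ * k) * P⁻¹ := by rw [mem_cz.1 hkw]
        _ = _ := by rw [hk', hw₁]; generalize F.pt = p; group)
    have hphi : F.phi (k' * r * k'⁻¹) = F.phi r := by
      show pr (act (ρ (k' * r * k'⁻¹)) f0) = _
      have hk'r : k' * r * k'⁻¹ = P * (k * r₁ * k⁻¹) * P⁻¹ := by rw [hk', hr₁]; group
      rw [hk'r, F.setup.ρ_mul _ (mul_mem hP (mul_mem (mul_mem hk hr₁C) (inv_mem hk))) _ (inv_mem hP),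
        F.setup.ρ_mul _ hP _ (mul_mem (mul_mem hk hr₁C) (inv_mem hk)),
        F.setup.ρ_mul _ (mul_mem hk hr₁C) _ (inv_mem hk), F.setup.ρ_mul _ hk _ hr₁C, act_mul, act_mul, act_mul,
        act_mul, F.P_inv hP hPe, hkinv, hρ₁, hkρ, ← t1f, hPe, (hFun_facts _).2.2, (hFun_facts _).2.1,
        ← (piFun_facts _).2.2.2, (piFun_facts _).2.1, (piFun_facts _).2.1, hrd, sieg_f0]
    obtain ⟨a, b, e⟩ := F.phi_eq hr (F.norm_R' hk'C hk'i hr) hphi.symm
    refine ⟨a, b, ?_⟩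
    calc k * r₁ * k⁻¹ = P⁻¹ * (k' * r * k'⁻¹) * P := by rw [hk', hr₁]; group
      _ = _ := by rw [e, hr₁]; group
  have hinv : ∀ l γ, pl6 l e1 = 0 → Gam l γ → Gam (hm l) γ := by
    rintro l γ hl ⟨s, hs, hsl, δ, hδ⟩
    have hs' : k * s * k⁻¹ ∈ F.R' := F.norm_R' hk hki hs
    have hphi : F.phi (k * s * k⁻¹) = hm l := by
      show pr (act (ρ (k * s * k⁻¹)) f0) = _
      rw [F.setup.ρ_mul _ (mul_mem hk hs.2) _ (inv_mem hk), F.setup.ρ_mul k hk s hs.2, act_mul, act_mul, hkinv,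
        show hFun (hFun f0) = f0 from by decide +kernel, F.rho_R' hs, hkρ, hFun, pr_vmk, sieg_f0, hsl]
    refine ⟨k * s * k⁻¹, hs', hphi, δ, ?_⟩
    have hω : (P⁻¹ * F.zi a' b' * P) * (k * s * k⁻¹) = k * s * k⁻¹ * (P⁻¹ * F.zi a' b' * P) := by
      obtain ⟨hmem', hv'⟩ := F.conj_mem_Q hP hPe (F.zi_mem a' b').1
      have hwv2 : v (P⁻¹ * F.zi a' b' * P) = b' • inW e1 := by
        rw [hv', F.v_zi]
        rcases two_cases b' with rfl | rfl
        · rw [zero_smul, zero_smul]; decide +kernel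
        · rw [one_smul, one_smul, pi_vals.2.1]
      have hR : P⁻¹ * F.zi a' b' * P ∈ F.R := F.mem_R.2 ⟨hmem', by
        rw [hwv2]; rcases two_cases b' with rfl | rfl <;> decide +kernel⟩
      have h := F.swap_rule hR hs'
      have hp : pl6 (pr (v (P⁻¹ * F.zi a' b' * P))) (F.phi (k * s * k⁻¹)) = 0 := by
        rw [hphi, hwv2, pl6_comm]
        rcases two_cases b' with rfl | rfl
        · rw [zero_smul, show pr (0 : Vec) = 0 from by decide +kernel, pl6_zero_right]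
        · rw [one_smul, inW, pr_vmk, hm_pres l hl]
      rw [hp, F.zi_zero, one_mul] at h
      exact h.symm
    calc r₁ * (k * s * k⁻¹) * r₁⁻¹
        = (k * r₁ * k⁻¹) * (P⁻¹ * F.zi a' b' * P)⁻¹ * (k * s * k⁻¹) * (P⁻¹ * F.zi a' b' * P) *
            (k * r₁ * k⁻¹)⁻¹ := by rw [hkr]; group
      _ = (k * r₁ * k⁻¹) * (k * s * k⁻¹) * (k * r₁ * k⁻¹)⁻¹ := by
          rw [show (k * r₁ * k⁻¹) * (P⁻¹ * F.zi a' b' * P)⁻¹ * (k * s * k⁻¹) * (P⁻¹ * F.zi a' b' * P) =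
            (k * r₁ * k⁻¹) * ((P⁻¹ * F.zi a' b' * P)⁻¹ * ((k * s * k⁻¹) * (P⁻¹ * F.zi a' b' * P))) by group, ← hω,
            inv_mul_cancel_left]
      _ = k * (r₁ * s * r₁⁻¹) * k⁻¹ := by group
      _ = (k * s * k⁻¹) * (k * F.zi γ δ * k⁻¹) := by rw [hδ]; group
      _ = _ := by rw [conj_eq_iff_comm.2 (F.zi_comm hk hki γ δ)]
  have hg0 : Gam g0 0 := hm_vals.1 ▸ hinv _ _ third_vals.2.2.2.2.2.1 he0
  have h3 : Gam (e0 + g0 + dd) 0 := hm_vals.2.1 ▸ hinv _ _ third_vals.2.2.2.2.2.2 hg0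
  have h4 := hsum _ _ _ _ (hsum _ _ _ _ he0 hg0) h3
  rw [← add_assoc, w6_add_self, zero_add] at h4
  exact zero_ne_one ((huniq _ _ _ h4 hdd).trans (by decide) : (0 : ZMod 2) = 1)

end Pt

end

end CfsgLib.Spor.CoOneClasses
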