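import Cfsg.Agent.Lib.Spor.CoOneClasses.Coord

/-!
# Finite facts about the six-space of plus type over two elements
-/

set_option autoImplicit false
set_option synthInstance.maxSize 4096

namespace CfsgLib.Spor.CoOneClasses

open Cfsg.Geo CfsgLib.Perm.Trans.Quad
open CfsgLib.Spor.CoOneType (two_cases act qf_act pol_act)

noncomputable section

/-- Packed vectors. -/
def dec6 (n : ℕ) : W6 :=
  mk6 (n : ZMod 2) ((n / 2 : ℕ) : ZMod 2) ((n / 4 : ℕ) : ZMod 2) ((n / 8 : ℕ) : ZMod 2) ((n / 16 : ℕ) : ZMod 2)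
    ((n / 32 : ℕ) : ZMod 2)

/-- Reference vectors. -/
def e0 : W6 := dec6 1

/-- Reference vectors. -/
def e1 : W6 := dec6 2

/-- Reference vectors. -/
def e2 : W6 := dec6 4

/-- Reference vectors. -/
def g0 : W6 := dec6 8

/-- Reference vectors. -/
def g1 : W6 := dec6 16

/-- Reference vectors. -/
def g2 : W6 := dec6 32

/-- The non-singular reference vector of the pair. -/
def dd : W6 := e2 + g2

/-- The first parameter of the second reference pair. -/
def aE : W6 := e0 + g0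

/-- The second parameter of the second reference pair. -/
def cE : W6 := e0 + e1 + g1

/-- Words carrying vectors to a reference vector. -/
def singTbl : List (List (ℕ × ℕ)) :=
  [[], [(3, 24)], [(2, 8)], [(5, 40)], [(4, 8)], [(7, 24)],
    [(6, 8)], [(27, 9)], [(24, 11)], [(27, 13)], [(24, 15)], [(10, 17)],
    [(8, 16)], [(10, 21)], [(8, 20)], [(10, 19)], [(8, 18)], [(10, 23)],
    [(8, 22)], [(12, 33)], [(8, 32)], [(12, 35)], [(8, 34)], [(12, 37)],
    [(12, 39)], [(8, 36)], [(8, 38)], [(10, 49)], [(8, 48)], [(10, 55)],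
    [(8, 54)], [(10, 51)], [(8, 50)], [(8, 52)], [(10, 53)]]

/-- Words carrying vectors to a reference vector. -/
def nonsTbl : List (List (ℕ × ℕ)) :=
  [[], [(1, 2)], [(1, 4)], [(1, 6)], [(3, 24)], [(3, 25)],
    [(3, 28)], [(3, 29)], [(1, 16)], [(1, 18)], [(1, 20)], [(1, 22)],
    [(5, 40)], [(5, 41)], [(5, 42)], [(5, 43)], [(1, 32)], [(1, 34)],
    [(1, 36)], [(1, 38)], [(3, 56)], [(3, 57)], [(3, 61)], [(3, 60)],
    [(1, 48)], [(1, 50)], [(1, 52)], [(1, 54)]]

/-- Words carrying vectors to a reference vector. -/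
def sing2Tbl : List (List (ℕ × ℕ)) :=
  [[], [(1, 16)], [(6, 48)], [(7, 48)], [(4, 16)], [(5, 16)],
    [(54, 18)], [(54, 19)], [(48, 22)], [(48, 23)], [(20, 34)], [(20, 35)],
    [(16, 32)], [(16, 33)], [(20, 38)], [(20, 39)], [(16, 36)], [(16, 37)]]

/-- Words carrying vectors to a reference vector. -/
def nons2Tbl : List (List (ℕ × ℕ)) :=
  [[], [(2, 4)], [(2, 9)], [(2, 13)], [(6, 48)], [(6, 50)],
    [(6, 57)], [(6, 59)], [(2, 32)], [(2, 36)], [(2, 41)], [(2, 45)]]

/-- An admissible pair of a transformation of the six-space. -/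
def Adm (p : ℕ × ℕ) : Prop := q6 (dec6 p.1) = 0 ∧ pl6 (dec6 p.1) (dec6 p.2) = 0

/-- A transformation from a packed pair. -/
def st (p : ℕ × ℕ) (u : W6) : W6 := sig (dec6 p.1) (dec6 p.2) u

/-- A word of transformations. -/
def wf (w : List (ℕ × ℕ)) (u : W6) : W6 := w.foldr st u

instance (p : ℕ × ℕ) : Decidable (Adm p) := inferInstanceAs (Decidable (_ ∧ _))

theorem singTbl_adm : ∀ w ∈ singTbl, ∀ p ∈ w, Adm p := by decide +kernel

theorem nonsTbl_adm : ∀ w ∈ nonsTbl, ∀ p ∈ w, Adm p := by decide +kernel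

theorem sing2Tbl_adm : ∀ w ∈ sing2Tbl, ∀ p ∈ w, Adm p ∧ st p e0 = e0 := by decide +kernel

theorem nons2Tbl_adm : ∀ w ∈ nons2Tbl, ∀ p ∈ w, Adm p ∧ st p aE = aE := by decide +kernel

theorem sing_reach : ∀ u : W6, q6 u = 0 → u ≠ 0 → ∃ w ∈ singTbl, wf w u = e0 := by decide +kernel

theorem nons_reach : ∀ u : W6, q6 u = 1 → ∃ w ∈ nonsTbl, wf w u = aE := by decide +kernel

theorem sing2_reach : ∀ u : W6, q6 u = 0 → u ≠ 0 → u ≠ e0 → pl6 e0 u = 0 → ∃ w ∈ sing2Tbl, wf w u = e1 := by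
  decide +kernel

theorem nons2_reach : ∀ u : W6, q6 u = 1 → pl6 aE u = 1 → ∃ w ∈ nons2Tbl, wf w u = cE := by decide +kernel

theorem ref_facts : q6 e0 = 0 ∧ q6 e1 = 0 ∧ pl6 e0 e1 = 0 ∧ e0 ≠ 0 ∧ e1 ≠ 0 ∧ e1 ≠ e0 ∧
    q6 aE = 1 ∧ q6 cE = 1 ∧ pl6 aE cE = 1 := by decide +kernel

theorem dd_facts : q6 dd = 1 ∧ pl6 e0 dd = 0 ∧ pl6 e1 dd = 0 ∧ pl6 g0 dd = 0 ∧ pl6 g1 dd = 0 := by decide +kernel

/-- A transformation separating a singular vector from one of its images. -/
theorem exists_move_perp : ∀ u : W6, u ≠ 0 → ∃ l : W6, q6 l = 0 ∧ pl6 u l = 1 := by decide +kernel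

theorem exists_nons_perp : ∀ l : W6, ∃ d : W6, q6 d = 1 ∧ pl6 l d = 0 := by decide +kernel

theorem sig_move_pol (l d u : W6) (hl : pl6 u l = 1) : pl6 u (sig l d u) = q6 d := by
  rw [sig, pl6_add_right, pl6_add_right, pl6_add_right, pl6_smul_right, pl6_smul_right, pl6_smul_right, pl6_self, hl]
  linear_combination pl6 u d * CharTwo.two_eq_zero (R := ZMod 2)

theorem q6_sig {l d : W6} (hl : q6 l = 0) (hld : pl6 l d = 0) (u : W6) : q6 (sig l d u) = q6 u := by
  obtain ⟨g, -, h⟩ := exists_sig hl hld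
  have h1 := qf_act g (inW u)
  rw [h, inW, xc_vmk, yc_vmk, pr_vmk, qf_vmk, qf_vmk] at h1
  exact add_left_cancel h1

theorem pl6_sig {l d : W6} (hl : q6 l = 0) (hld : pl6 l d = 0) (u u' : W6) :
    pl6 (sig l d u) (sig l d u') = pl6 u u' := by
  obtain ⟨g, -, h⟩ := exists_sig hl hld
  have h1 : pl (act g (inW u)) (act g (inW u')) = pl (inW u) (inW u') := pol_act g (inW u) (inW u')
  rw [h, h] at h1
  simp only [inW, xc_vmk, yc_vmk, pr_vmk, pl_vmk] at h1
  exact add_left_cancel h1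

theorem sig_add (l d u u' : W6) : sig l d (u + u') = sig l d u + sig l d u' := by
  simp only [sig, pl6_add_left, add_smul, mul_add]
  abel

theorem sig_smul (l d : W6) (s : ZMod 2) (u : W6) : sig l d (s • u) = s • sig l d u := by
  simp only [sig, pl6_smul_left, smul_add, smul_smul]
  rw [mul_left_comm]

theorem sig_surjective {l d : W6} (hl : q6 l = 0) (hld : pl6 l d = 0) : Function.Surjective (sig l d) := by
  refine Finite.injective_iff_surjective.1 fun a b e => ?_
  by_contra hne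
  obtain ⟨y, hy⟩ := exists_pl6_one (fun h => hne (add_eq_zero6.1 h) : a + b ≠ 0)
  rw [← pl6_sig hl hld, sig_add, e, w6_add_self, pl6_zero_left] at hy
  exact zero_ne_one hy

/-- The partner of a coordinate. -/
def sw6 : Ix6 → Ix6
  | .inl i => .inr i
  | .inr i => .inl i

theorem pl6_single : ∀ (i : Ix6) (x : W6), pl6 x (Pi.single (sw6 i) 1) = x i := by decide +kernel

theorem sw6_sw6 : ∀ i, sw6 (sw6 i) = i := by decide

/-- Additive functions are given by the polar form. -/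
theorem exists_repr {f : W6 → ZMod 2} (hf : ∀ a b, f (a + b) = f a + f b) : ∃ m, ∀ a, f a = pl6 a m := by
  refine ⟨fun i => f (Pi.single (sw6 i) 1), ?_⟩
  set m : W6 := fun i => f (Pi.single (sw6 i) 1) with hm
  let F : W6 →ₗ[ZMod 2] ZMod 2 := (AddMonoidHom.mk' f hf).toZModLinearMap 2
  let F' : W6 →ₗ[ZMod 2] ZMod 2 :=
    { toFun := fun a => pl6 a m
      map_add' := fun a a' => pl6_add_left a a' m
      map_smul' := fun s a => pl6_smul_left s a m }
  have h : F = F' := by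
    refine LinearMap.pi_ext' fun i => LinearMap.ext_ring ?_
    show f (Pi.single i 1) = pl6 (Pi.single i 1) m
    rw [pl6_comm, ← sw6_sw6 i, pl6_single, hm]
  exact fun a => LinearMap.congr_fun h a

theorem repr_unique {m m' : W6} (h : ∀ a, pl6 a m = pl6 a m') : m = m' := by
  by_contra hne
  obtain ⟨y, hy⟩ := exists_pl6_one (fun e => hne (add_eq_zero6.1 e) : m + m' ≠ 0)
  rw [pl6_comm, pl6_add_right, h, CharTwo.add_self_eq_zero] at hy
  exact zero_ne_one hy

/-- The packed transformations used for invariance arguments. -/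
def gens : List (ℕ × ℕ) :=
  (singTbl ++ nonsTbl).flatten

theorem gens_adm : ∀ p ∈ gens, Adm p := by decide +kernel

theorem gens_fix_none : ∀ m : W6, (∀ p ∈ gens, st p m = m) → m = 0 := by decide +kernel

/-- Eleven singular vectors joining a basis. -/
def joins : List W6 := [e0, e1, e2, g0, g1, g2, e0 + e1, e0 + e2, e0 + g1, e0 + g2, g0 + e1]

/-- The fixed vectors of the stabiliser of a singular vector. -/
theorem fix_join : ∀ c ∈ joins, ∀ m : W6, (∀ l d : W6, q6 l = 0 → pl6 l d = 0 → sig l d c = c → sig l d m = m) →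
    m = 0 ∨ m = c := by decide +kernel

theorem join_indep : ∀ c ∈ joins, c ≠ 0 := by decide +kernel

theorem pairs_count : Fintype.card {p : W6 × W6 // q6 p.1 = 0 ∧ q6 p.2 = 0 ∧ pl6 p.1 p.2 = 0 ∧ p.1 ≠ 0 ∧ p.2 ≠ 0 ∧
    p.2 ≠ p.1} = 630 ∧ Fintype.card {p : W6 × W6 // q6 p.1 = 1 ∧ q6 p.2 = 1 ∧ pl6 p.1 p.2 = 1} = 336 := by
  decide +kernel

end

end CfsgLib.Spor.CoOneClasses
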